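import Mathlib.RingTheory.Unramified.Field
import Mathlib.RingTheory.Unramified.Basic
import Mathlib.RingTheory.Etale.Basic
import Mathlib.RingTheory.Flat.Basic
import Mathlib.RingTheory.Flat.Stability
import Mathlib.RingTheory.Localization.AtPrime.Basic
import Mathlib.RingTheory.EssentialFiniteness
import Mathlib.RingTheory.Smooth.Flat

/-!
# Étale algebras over reduced rings are reduced
-/

namespace Groth.Agent.Hensel

open TensorProduct

universe u v

variable {T : Type u} [CommRing T]

/-- The localization of an absolutely flat ring at a prime is a field. -/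
theorem isField_localization_of_forall_exists (hT : ∀ x : T, ∃ y, x * x * y = x)
    (p : Ideal T) [p.IsPrime] : IsField (Localization.AtPrime p) := by
  refine IsLocalRing.isField_iff_maximalIdeal_eq.mpr (eq_bot_iff.mpr fun z hz => ?_)
  obtain ⟨⟨a, s⟩, h⟩ := IsLocalization.surj p.primeCompl z
  have ha : a ∈ p := by
    refine (IsLocalization.AtPrime.to_map_mem_maximal_iff (Localization.AtPrime p) p a).mp ?_
    rw [← h]; exact Ideal.mul_mem_right _ _ hz
  obtain ⟨y, hy⟩ := hT a
  have hu : (1 - a * y) ∈ p.primeCompl := fun h' =>
    ‹p.IsPrime›.ne_top ((Ideal.eq_top_iff_one p).mpr (by simpa using add_mem h' (p.mul_mem_right y ha)))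
  have h0 : algebraMap T (Localization.AtPrime p) a = 0 := by
    refine (IsLocalization.map_eq_zero_iff p.primeCompl _ a).mpr ⟨⟨_, hu⟩, ?_⟩
    linear_combination -hy
  rw [h0] at h
  rw [Ideal.mem_bot]
  exact (IsLocalization.map_units _ s).mul_left_eq_zero.mp h

/-- Étale algebras over absolutely flat rings are reduced. -/
theorem isReduced_of_etale_of_forall_exists (hT : ∀ x : T, ∃ y, x * x * y = x)
    (S : Type v) [CommRing S] [Algebra T S] [Algebra.Etale T S] : IsReduced S := by
  refine ⟨fun z hz => ?_⟩
  by_contra hne
  let J : Ideal T := (Ideal.span ({0} : Set S)).colon ({z} : Set S) |>.comap (algebraMap T S)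
  have hJ : ∀ t, t ∈ J ↔ algebraMap T S t * z = 0 := fun t => by
    simp [J, Submodule.mem_colon_singleton]
  obtain ⟨p, hp, hJp⟩ := Ideal.exists_le_maximal J (fun h => hne (by
    simpa using (hJ 1).mp (h ▸ Submodule.mem_top)))
  let K := Localization.AtPrime p
  let M := Algebra.algebraMapSubmonoid S p.primeCompl
  let L := Localization M
  let : Field K := (isField_localization_of_forall_exists hT p).toField
  have : Algebra.FormallyEtale S L := .of_isLocalization M
  have : Algebra.FormallyEtale T L := Algebra.FormallyEtale.comp T S L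
  have : Algebra.FormallyUnramified K L := .of_restrictScalars T K L
  have : Algebra.EssFiniteType S L := .of_isLocalization _ M
  have : Algebra.EssFiniteType T L := .comp T S L
  have : Algebra.EssFiniteType K L := .of_comp T K L
  have : IsReduced L := Algebra.FormallyUnramified.isReduced_of_field K L
  obtain ⟨⟨_, t, ht, rfl⟩, h0⟩ :=
    (IsLocalization.map_eq_zero_iff M L z).mp (hz.map (algebraMap S L)).eq_zero
  exact ht (hJp ((hJ t).mpr h0))

/-- An étale algebra over a reduced ring is reduced. -/
theorem isReduced_of_etale (R : Type u) [CommRing R] [IsReduced R] (S : Type u) [CommRing S]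
    [Algebra R S] [Algebra.Etale R S] : IsReduced S := by
  let T := ∀ p : PrimeSpectrum R, p.asIdeal.ResidueField
  have hT : ∀ x : T, ∃ y, x * x * y = x := fun x => ⟨fun p => (x p)⁻¹, funext fun p => by
    show x p * x p * (x p)⁻¹ = x p
    rcases eq_or_ne (x p) 0 with h | h <;> simp [h]⟩
  have hinj : Function.Injective (algebraMap R T) := by
    refine (injective_iff_map_eq_zero _).mpr fun x hx => IsNilpotent.eq_zero ?_
    refine (mem_nilradical (x := x)).mp ?_
    rw [nilradical_eq_sInf, Ideal.mem_sInf]
    intro p hp
    have : p.IsPrime := hp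
    have := congr_fun hx ⟨p, hp⟩
    exact Ideal.algebraMap_residueField_eq_zero.mp this
  have := isReduced_of_etale_of_forall_exists hT (T ⊗[R] S)
  exact isReduced_of_injective (Algebra.TensorProduct.includeRight : S →ₐ[R] T ⊗[R] S)
    (Algebra.TensorProduct.includeRight_injective hinj)

end Groth.Agent.Hensel
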