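import Groth.Agent.Hensel.Newton

/-!
# Lifting factorizations with one monic factor
-/

namespace Groth.Agent.Hensel

open Polynomial

universe u

section

variable {S : Type u} [CommRing S] {R : Type*} [CommRing R] [Algebra R S] (d : Derivation R S S)

/-- Apply a derivation to the coefficients of a polynomial. -/
noncomputable def coeffDeriv (p : S[X]) : S[X] :=
  ∑ i ∈ Finset.range (p.natDegree + 1), monomial i (d (p.coeff i))

theorem coeff_coeffDeriv (p : S[X]) (k : ℕ) : (coeffDeriv d p).coeff k = d (p.coeff k) := by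
  simp only [coeffDeriv, finsetSum_coeff, coeff_monomial, Finset.sum_ite_eq', Finset.mem_range]
  split_ifs with h
  · rfl
  · rw [coeff_eq_zero_of_natDegree_lt (by omega), map_zero]

theorem coeffDeriv_add (p q : S[X]) : coeffDeriv d (p + q) = coeffDeriv d p + coeffDeriv d q := by
  ext k; simp [coeff_coeffDeriv]

theorem coeffDeriv_mul (p q : S[X]) :
    coeffDeriv d (p * q) = coeffDeriv d p * q + p * coeffDeriv d q := by
  ext k
  simp only [coeff_coeffDeriv, coeff_add, coeff_mul, map_sum, Derivation.leibniz, smul_eq_mul,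
    ← Finset.sum_add_distrib]
  exact Finset.sum_congr rfl fun _ _ => by ring

end

theorem exists_monic_factor_lift {A : Type u} [CommRing A] (I : Ideal A) [HenselianRing A I]
    (f : A[X]) {g₀ h₀ : (A ⧸ I)[X]} (hg₀ : g₀.Monic) (hc : IsCoprime g₀ h₀)
    (he : f.map (Ideal.Quotient.mk I) = g₀ * h₀) :
    ∃ g h : A[X], f = g * h ∧ g.Monic ∧ g.map (Ideal.Quotient.mk I) = g₀ ∧
      h.map (Ideal.Quotient.mk I) = h₀ := by
  classical
  let π := Ideal.Quotient.mk I
  rcases subsingleton_or_nontrivial (A ⧸ I) with hs | hs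
  · exact ⟨1, f, (one_mul f).symm, monic_one, Subsingleton.elim _ _, Subsingleton.elim _ _⟩
  have : Nontrivial A := π.domain_nontrivial
  set m := g₀.natDegree with hm
  let G : (MvPolynomial (Fin m) A)[X] := freeMonic A m
  have hG : G.Monic := monic_freeMonic A m
  let F : (MvPolynomial (Fin m) A)[X] := f.map MvPolynomial.C
  obtain ⟨a₀, ha₀⟩ : ∃ a₀ : Fin m → A, ∀ i, π (a₀ i) = g₀.coeff i :=
    ⟨fun i => (Ideal.Quotient.mk_surjective (g₀.coeff i)).choose,
      fun i => (Ideal.Quotient.mk_surjective (g₀.coeff i)).choose_spec⟩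
  have hGdeg : G.natDegree = m := natDegree_freeMonic A m
  have hev : ∀ a : Fin m → A, (F.map (MvPolynomial.eval a)) = f := fun a => by
    rw [Polynomial.map_map]
    conv_rhs => rw [← Polynomial.map_id (p := f)]
    congr 1; ext; simp
  have hGa₀ : (G.map (MvPolynomial.eval a₀)).map π = g₀ := by
    ext k
    simp only [G, coeff_map, coeff_freeMonic]
    rcases lt_trichotomy k m with hk | hk | hk
    · simp [hk, ha₀]
    · simp [hk, hm, hg₀.coeff_natDegree]
    · rw [dif_neg hk.not_gt, if_neg hk.ne', map_zero, map_zero,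
        coeff_eq_zero_of_natDegree_lt (hm ▸ hk)]
  let r := F %ₘ G
  let q := F /ₘ G
  have hqr : r + G * q = F := modByMonic_add_div F G
  have hq₀ : (r.map (MvPolynomial.eval a₀)).map π = 0 ∧
      (q.map (MvPolynomial.eval a₀)).map π = h₀ := by
    have hh : (F %ₘ G).map (π.comp (MvPolynomial.eval a₀)) = f.map π %ₘ g₀ ∧
        (F /ₘ G).map (π.comp (MvPolynomial.eval a₀)) = f.map π /ₘ g₀ := by
      rw [map_modByMonic _ hG, map_divByMonic _ hG, ← Polynomial.map_map, hev,
        ← Polynomial.map_map, hGa₀]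
      exact ⟨rfl, rfl⟩
    have hu := div_modByMonic_unique (f := f.map π) h₀ 0 hg₀ ⟨by rw [he, zero_add], by
      rw [degree_zero]; exact bot_lt_iff_ne_bot.mpr (degree_ne_bot.mpr hg₀.ne_zero)⟩
    rw [hu.1, hu.2] at hh
    exact ⟨by rw [Polynomial.map_map]; exact hh.1, by rw [Polynomial.map_map]; exact hh.2⟩
  let v : Fin m → MvPolynomial (Fin m) A := fun i => r.coeff i
  have hv : ∀ i, MvPolynomial.eval a₀ (v i) ∈ I := fun i => by
    rw [← Ideal.Quotient.eq_zero_iff_mem]
    have := congr(Polynomial.coeff $(hq₀.1) i)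
    simpa [coeff_map] using this
  have hJ : IsUnit (π (Matrix.of fun i j => MvPolynomial.eval a₀ (MvPolynomial.pderiv j (v i))).det) := by
    rw [RingHom.map_det, ← Matrix.isUnit_iff_isUnit_det, ← Matrix.mulVec_surjective_iff_isUnit]
    intro c
    obtain ⟨α, β, hab⟩ := hc
    let p : (A ⧸ I)[X] := ∑ i : Fin m, C (c i) * X ^ (i : ℕ)
    let s : (A ⧸ I)[X] := (-(p * β)) %ₘ g₀
    refine ⟨fun j => s.coeff j, ?_⟩
    have hrdeg : r.degree < (m : WithBot ℕ) := by
      have := degree_modByMonic_lt F hG
      rwa [degree_eq_natDegree hG.ne_zero, hGdeg] at this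
    have hpdeg : p.degree < g₀.degree := by
      rw [degree_eq_natDegree hg₀.ne_zero, ← hm]
      exact degree_sum_fin_lt c
    have hsdeg : s.degree < g₀.degree := degree_modByMonic_lt _ hg₀
    -- the derivative of the remainder
    have hD : ∀ j : Fin m,
        ((coeffDeriv (MvPolynomial.pderiv j) r).map (MvPolynomial.eval a₀)).map π =
          (-(X ^ (j : ℕ) * h₀)) %ₘ g₀ := by
      intro j
      let d := MvPolynomial.pderiv (R := A) (σ := Fin m) j
      have h1 := congr(coeffDeriv d $hqr)
      rw [coeffDeriv_add, coeffDeriv_mul] at h1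
      have hF : coeffDeriv d F = 0 := by ext k; simp [d, F, coeff_coeffDeriv]
      have hdG : coeffDeriv d G = X ^ (j : ℕ) := by
        ext k : 1
        rw [coeff_coeffDeriv, coeff_X_pow]
        simp only [G, coeff_freeMonic]
        rcases lt_trichotomy k m with hk | hk | hk
        · simp [hk, d, MvPolynomial.pderiv_X, Pi.single_apply, Fin.ext_iff]
        · have := j.2; simp [hk, d]; omega
        · have := j.2
          rw [dif_neg hk.not_gt, if_neg hk.ne', if_neg (by omega), map_zero]
      rw [hF, hdG] at h1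
      have h2 := congr(Polynomial.map π (Polynomial.map (MvPolynomial.eval a₀) $h1))
      simp only [Polynomial.map_add, Polynomial.map_mul, Polynomial.map_zero, Polynomial.map_pow,
        map_X, hGa₀, hq₀.2] at h2
      set R' := ((coeffDeriv d r).map (MvPolynomial.eval a₀)).map π
      set Q' := ((coeffDeriv d q).map (MvPolynomial.eval a₀)).map π
      refine ((div_modByMonic_unique (f := -(X ^ (j : ℕ) * h₀)) Q' R' hg₀ ⟨?_, ?_⟩).2).symm
      · linear_combination h2
      · rw [degree_eq_natDegree hg₀.ne_zero, ← hm, degree_lt_iff_coeff_zero]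
        intro k hk
        have : r.coeff k = 0 := (degree_lt_iff_coeff_zero _ _).mp hrdeg k hk
        simp [R', coeff_map, coeff_coeffDeriv, this]
    have key : ∑ j : Fin m, C (s.coeff j) *
        ((coeffDeriv (MvPolynomial.pderiv j) r).map (MvPolynomial.eval a₀)).map π = p := by
      have hs' : ∑ j : Fin m, C (s.coeff j) * X ^ (j : ℕ) = s := by
        ext k
        simp only [finsetSum_coeff, coeff_C_mul, coeff_X_pow, mul_ite, mul_one, mul_zero]
        by_cases hk : k < m
        · rw [Finset.sum_eq_single ⟨k, hk⟩ (fun b _ hb => if_neg fun h => hb (Fin.ext h.symm))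
            (by simp)]
          simp
        · rw [Finset.sum_eq_zero fun b _ => if_neg (by have := b.2; omega),
            (degree_lt_iff_coeff_zero s m).mp (by rwa [degree_eq_natDegree hg₀.ne_zero, ← hm] at hsdeg)
              k (not_lt.mp hk)]
      have hsum : ∑ j : Fin m, C (s.coeff j) * ((-(X ^ (j : ℕ) * h₀)) %ₘ g₀) =
          (-(s * h₀)) %ₘ g₀ := by
        conv_rhs => rw [← hs', Finset.sum_mul, ← Finset.sum_neg_distrib]
        rw [show ∀ (t : Finset (Fin m)) (φ : Fin m → (A ⧸ I)[X]),
          (∑ j ∈ t, φ j) %ₘ g₀ = ∑ j ∈ t, φ j %ₘ g₀ from fun t φ =>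
            map_sum (modByMonicHom g₀) φ t]
        refine Finset.sum_congr rfl fun j _ => ?_
        rw [show -(C (s.coeff ↑j) * X ^ (j : ℕ) * h₀) = (s.coeff ↑j) • -(X ^ (j : ℕ) * h₀) by
          rw [smul_eq_C_mul]; ring, smul_modByMonic, smul_eq_C_mul]
      rw [Finset.sum_congr rfl fun j _ => by rw [hD j], hsum]
      rw [(div_modByMonic_unique (f := -(s * h₀))
        (-(p * α) + h₀ * ((-(p * β)) /ₘ g₀)) p hg₀ ⟨?_, hpdeg⟩).2]
      have := modByMonic_add_div (-(p * β)) g₀
      show p + g₀ * _ = -(((-(p * β)) %ₘ g₀) * h₀)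
      linear_combination h₀ * this - p * hab
    funext i
    have := congr(Polynomial.coeff $key i)
    have hp : p.coeff i = c i := by
      simp only [p, finsetSum_coeff, coeff_C_mul, coeff_X_pow, mul_ite, mul_one, mul_zero]
      rw [Finset.sum_eq_single i (fun b _ hb => if_neg fun h => hb (Fin.ext h.symm)) (by simp)]
      simp
    rw [hp, finsetSum_coeff] at this
    refine Eq.trans ?_ this
    simp [Matrix.mulVec, dotProduct, coeff_map, coeff_coeffDeriv, v, π, mul_comm]
  obtain ⟨a, ha, ha'⟩ := exists_root_of_isUnit_jacobian I v a₀ hv hJ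
  let g := G.map (MvPolynomial.eval a)
  let h := q.map (MvPolynomial.eval a)
  have hr : r.map (MvPolynomial.eval a) = 0 := by
    ext k
    rw [coeff_map, coeff_zero]
    by_cases hk : k < m
    · exact ha ⟨k, hk⟩
    · have := degree_modByMonic_lt F hG
      rw [degree_eq_natDegree hG.ne_zero, hGdeg] at this
      rw [(degree_lt_iff_coeff_zero _ _).mp this k (by omega), map_zero]
  have hfg : f = g * h := by
    conv_lhs => rw [← hev a, ← hqr]
    rw [Polynomial.map_add, Polynomial.map_mul, hr, zero_add]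
  have hgmap : g.map π = g₀ := by
    rw [← hGa₀, Polynomial.map_map, Polynomial.map_map]
    congr 1
    refine MvPolynomial.ringHom_ext (fun r => by simp) fun i => ?_
    simpa using Ideal.Quotient.eq.mpr (ha' i)
  refine ⟨g, h, hfg, hG.map _, hgmap, hg₀.isRegular.left ?_⟩
  show g₀ * h.map π = g₀ * h₀
  rw [← he]
  conv_lhs => rw [← hgmap, ← Polynomial.map_mul, ← hfg]

end Groth.Agent.Hensel
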