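import Mathlib.RingTheory.Idempotents
import Mathlib.RingTheory.Artinian.Ring
import Mathlib.RingTheory.Ideal.Quotient.Operations
import Mathlib.RingTheory.Localization.AtPrime.Basic

/-!
# Semilocal rings which are products of local rings
-/

namespace Groth.Agent.Hensel

universe u v

variable {B : Type u} [CommRing B]

theorem exists_idempotent_sub_mem_span_of_ringEquiv_pi {ι : Type*} {C : ι → Type*}
    [∀ j, CommRing (C j)] [∀ j, IsLocalRing (C j)] (φ : B ≃+* ∀ j, C j) (b : B) :
    ∃ e : B, IsIdempotentElem e ∧ e - b ∈ Ideal.span {b * b - b} := by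
  classical
  let ε : ∀ j, C j := fun j => if IsUnit (φ b j) then 1 else 0
  have hε : IsIdempotentElem ε := by
    funext j
    show ε j * ε j = ε j
    simp only [ε]; split_ifs <;> simp
  have hc : ∀ j, ∃ c : C j, ε j - φ b j = c * (φ b j * φ b j - φ b j) := by
    intro j
    simp only [ε]
    split_ifs with hu
    · exact ⟨-↑hu.unit⁻¹, by linear_combination (φ b j - 1) * hu.val_inv_mul⟩
    · have hu' : IsUnit (1 - φ b j) := (IsLocalRing.isUnit_or_isUnit_one_sub_self _).resolve_left hu
      exact ⟨↑hu'.unit⁻¹, by linear_combination (φ b j) * hu'.val_inv_mul⟩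
  choose c hc using hc
  refine ⟨φ.symm ε, hε.map φ.symm, Ideal.mem_span_singleton'.mpr ⟨φ.symm c, φ.injective ?_⟩⟩
  funext j
  simp [← hc j]

theorem isIdempotentElem_eq_one_of_forall_notMem {e : B} (he : IsIdempotentElem e)
    (h : ∀ M : Ideal B, M.IsMaximal → e ∉ M) : e = 1 := by
  have hu : IsUnit e := by
    by_contra hu
    obtain ⟨M, hM, heM⟩ := exists_max_ideal_of_mem_nonunits hu
    exact h M hM heM
  exact hu.mul_left_cancel (he.eq.trans (mul_one e).symm)

theorem isIdempotentElem_eq_zero_of_forall_mem {e : B} (he : IsIdempotentElem e)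
    (h : ∀ M : Ideal B, M.IsMaximal → e ∈ M) : e = 0 := by
  have := isIdempotentElem_eq_one_of_forall_notMem he.one_sub fun M hM hmem =>
    hM.ne_top ((Ideal.eq_top_iff_one M).mpr (by simpa using add_mem hmem (h M hM)))
  simpa using this

/-- Idempotents separating the maximal ideals. -/
theorem exists_completeOrthogonalIdempotents_of_surjOn {J : Ideal B}
    (hJ : J ≤ Ideal.jacobson ⊥) [IsArtinianRing (B ⧸ J)]
    (h : Set.SurjOn (Ideal.Quotient.mk J) {e : B | IsIdempotentElem e} {e | IsIdempotentElem e}) :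
    ∃ (_ : Fintype (MaximalSpectrum B)) (e : MaximalSpectrum B → B),
      CompleteOrthogonalIdempotents e ∧ ∀ M, e M ∉ M.asIdeal ∧
        ∀ M', M' ≠ M → e M ∈ M'.asIdeal := by
  classical
  have hJM : ∀ M : MaximalSpectrum B, J ≤ M.asIdeal := fun M =>
    hJ.trans (sInf_le ⟨bot_le, M.isMaximal⟩)
  let F : MaximalSpectrum B → MaximalSpectrum (B ⧸ J) := fun M =>
    ⟨M.asIdeal.map (Ideal.Quotient.mk J),
      ((Ideal.map_eq_top_or_isMaximal_of_surjective _ Ideal.Quotient.mk_surjective
        M.isMaximal).resolve_left fun h => M.isMaximal.ne_top (by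
          rw [← Ideal.comap_map_mk (hJM M), h, Ideal.comap_top]))⟩
  have hcomap : ∀ M, (F M).asIdeal.comap (Ideal.Quotient.mk J) = M.asIdeal := fun M => by
    show (M.asIdeal.map _).comap _ = _
    rw [Ideal.comap_map_mk (hJM M)]
  have hF : Function.Injective F := fun M M' hMM => MaximalSpectrum.ext <| by
    rw [← hcomap M, ← hcomap M', hMM]
  have : Finite (MaximalSpectrum B) := Finite.of_injective F hF
  refine ⟨Fintype.ofFinite _, ?_⟩
  have hco : Pairwise fun M M' : MaximalSpectrum B => IsCoprime M.asIdeal M'.asIdeal :=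
    fun M M' hne => Ideal.isCoprime_iff_sup_eq.mpr <|
      M.isMaximal.coprime_of_ne M'.isMaximal fun h => hne (MaximalSpectrum.ext h)
  have ha : ∀ M : MaximalSpectrum B, ∃ a : B, ∀ M' : MaximalSpectrum B,
      a - (if M' = M then 1 else 0) ∈ M'.asIdeal := fun M =>
    Ideal.exists_forall_sub_mem_ideal hco fun M' => if M' = M then 1 else 0
  choose a ha using ha
  let π := Ideal.Quotient.mk (Ring.jacobson (B ⧸ J))
  have hnil : ∀ x ∈ RingHom.ker π, IsNilpotent x := fun x hx => by
    rw [Ideal.mk_ker] at hx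
    obtain ⟨n, hn⟩ := IsArtinianRing.isNilpotent_jacobson_bot (R := B ⧸ J)
    exact ⟨n, by
      have := Ideal.pow_mem_pow (show x ∈ Ideal.jacobson ⊥ by rwa [Ideal.jacobson_bot]) n
      rwa [hn] at this⟩
  have hidem : ∀ M, IsIdempotentElem (π (Ideal.Quotient.mk J (a M))) := by
    intro M
    show π _ * π _ = π _
    rw [← map_mul, ← map_mul, Ideal.Quotient.eq, ← map_sub]
    rw [Ring.jacobson_eq_sInf_isMaximal, Ideal.mem_sInf]
    intro Q (hQ : Q.IsMaximal)
    have : (Q.comap (Ideal.Quotient.mk J)).IsMaximal :=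
      Ideal.comap_isMaximal_of_surjective _ Ideal.Quotient.mk_surjective (K := Q)
    have := ha M ⟨_, this⟩
    rw [← Ideal.mem_comap]
    split_ifs at this with hM
    · rw [show a M * a M - a M = a M * (a M - 1) by ring]
      exact Ideal.mul_mem_left _ _ this
    · rw [show a M * a M - a M = (a M - 1) * (a M - 0) by ring]
      exact Ideal.mul_mem_left _ _ this
  have he : ∀ M : MaximalSpectrum B, ∃ e : B, IsIdempotentElem e ∧ ∀ M' : MaximalSpectrum B,
      e - (if M' = M then 1 else 0) ∈ M'.asIdeal := by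
    intro M
    obtain ⟨e₁, ⟨he₁, he₁'⟩, -⟩ := existsUnique_isIdempotentElem_eq_of_ker_isNilpotent π hnil
      (π (Ideal.Quotient.mk J (a M))) ⟨_, rfl⟩ (hidem M)
    obtain ⟨e, he, hee⟩ := h he₁
    refine ⟨e, he, fun M' => ?_⟩
    have h1 : e - a M ∈ M'.asIdeal := by
      rw [← hcomap M', Ideal.mem_comap, map_sub, hee]
      have h2 : e₁ - Ideal.Quotient.mk J (a M) ∈ Ring.jacobson (B ⧸ J) := Ideal.Quotient.eq.mp he₁'
      rw [Ring.jacobson_eq_sInf_isMaximal, Ideal.mem_sInf] at h2
      exact h2 (F M').isMaximal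
    simpa using add_mem h1 (ha M M')
  choose e he hee using he
  have hin : ∀ M M' : MaximalSpectrum B, M' ≠ M → e M ∈ M'.asIdeal := fun M M' hne => by
    simpa [hne] using hee M M'
  have hout : ∀ M : MaximalSpectrum B, e M ∉ M.asIdeal := fun M hmem => by
    have := sub_mem hmem (hee M M)
    simp only [if_true, sub_sub_cancel] at this
    exact M.isMaximal.ne_top ((Ideal.eq_top_iff_one _).mpr this)
  let _ := Fintype.ofFinite (MaximalSpectrum B)
  have hortho : OrthogonalIdempotents e := ⟨he, fun M M' hne =>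
    isIdempotentElem_eq_zero_of_forall_mem ((he M).mul (he M')) fun Q hQ => by
      rcases eq_or_ne (⟨Q, hQ⟩ : MaximalSpectrum B) M with rfl | hQM
      · exact Ideal.mul_mem_left _ _ (hin M' ⟨Q, hQ⟩ hne)
      · exact Ideal.mul_mem_right _ _ (hin M ⟨Q, hQ⟩ hQM)⟩
  refine ⟨e, ⟨hortho, isIdempotentElem_eq_one_of_forall_notMem
    (hortho.isIdempotentElem_sum) fun Q hQ hmem => ?_⟩, fun M => ⟨hout M, hin M⟩⟩
  refine hout ⟨Q, hQ⟩ ?_
  have := sub_mem hmem (sum_mem (t := Finset.univ.erase (⟨Q, hQ⟩ : MaximalSpectrum B))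
    fun M' hM' => hin M' ⟨Q, hQ⟩ (Finset.ne_of_mem_erase hM').symm)
  rwa [← Finset.add_sum_erase _ _ (Finset.mem_univ (⟨Q, hQ⟩ : MaximalSpectrum B)),
    add_sub_cancel_right] at this

variable {e : MaximalSpectrum B → B}

theorem isLocalRing_quotient_one_sub (he : ∀ M, IsIdempotentElem (e M))
    (hM : ∀ M, e M ∉ M.asIdeal ∧ ∀ M', M' ≠ M → e M ∈ M'.asIdeal) (M : MaximalSpectrum B) :
    IsLocalRing (B ⧸ Ideal.span {1 - e M}) := by
  have key : ∀ Q : Ideal (B ⧸ Ideal.span {1 - e M}), Q.IsMaximal →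
      Q.comap (Ideal.Quotient.mk _) = M.asIdeal := by
    intro Q hQ
    have hmax : (Q.comap (Ideal.Quotient.mk (Ideal.span {1 - e M}))).IsMaximal :=
      Ideal.comap_isMaximal_of_surjective _ Ideal.Quotient.mk_surjective (K := Q)
    by_contra hne
    have h1 := (hM M).2 ⟨_, hmax⟩ fun h => hne congr(($h).asIdeal)
    have h2 : 1 - e M ∈ Q.comap (Ideal.Quotient.mk (Ideal.span {1 - e M})) := by
      rw [Ideal.mem_comap, Ideal.Quotient.eq_zero_iff_mem.mpr (Ideal.mem_span_singleton_self _)]
      exact zero_mem _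
    exact hmax.ne_top ((Ideal.eq_top_iff_one _).mpr (by simpa using add_mem h2 h1))
  have : Nontrivial (B ⧸ Ideal.span {1 - e M}) := by
    refine Ideal.Quotient.nontrivial_iff.mpr fun h => (hM M).1 ?_
    have hu : IsUnit (1 - e M) := Ideal.span_singleton_eq_top.mp h
    have : 1 - e M = 1 := hu.mul_left_cancel ((he M).one_sub.eq.trans (mul_one _).symm)
    rw [sub_eq_self.mp this]
    exact zero_mem _
  refine IsLocalRing.of_unique_max_ideal ?_
  obtain ⟨Q, hQ⟩ := Ideal.exists_maximal (B ⧸ Ideal.span {1 - e M})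
  exact ⟨Q, hQ, fun Q' hQ' => Ideal.comap_injective_of_surjective _ Ideal.Quotient.mk_surjective
    ((key Q' hQ').trans (key Q hQ).symm)⟩

theorem isLocalization_atPrime_quotient_one_sub (he : ∀ M, IsIdempotentElem (e M))
    (hM : ∀ M, e M ∉ M.asIdeal ∧ ∀ M', M' ≠ M → e M ∈ M'.asIdeal) (M : MaximalSpectrum B) :
    IsLocalization.AtPrime (B ⧸ Ideal.span {1 - e M}) M.asIdeal := by
  have := isLocalRing_quotient_one_sub he hM M
  constructor
  refine ⟨fun s => ?_, fun z => ?_, fun {x y} h => ?_⟩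
  · by_contra hu
    have hmem : Ideal.Quotient.mk (Ideal.span {1 - e M}) s.1 ∈ IsLocalRing.maximalIdeal _ := hu
    have hmax : ((IsLocalRing.maximalIdeal (B ⧸ Ideal.span {1 - e M})).comap
        (Ideal.Quotient.mk (Ideal.span {1 - e M}))).IsMaximal :=
      Ideal.comap_isMaximal_of_surjective _ Ideal.Quotient.mk_surjective
    refine s.2 (?_ : s.1 ∈ M.asIdeal)
    by_contra hs
    have hne : (⟨_, hmax⟩ : MaximalSpectrum B) ≠ M := fun h => by
      have h' := SetLike.ext_iff.mp congr(($h).asIdeal) s.1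
      exact hs (h'.mp hmem)
    have h1 : Ideal.Quotient.mk (Ideal.span {1 - e M}) (e M) ∈ IsLocalRing.maximalIdeal _ :=
      (hM M).2 _ hne
    rw [show Ideal.Quotient.mk (Ideal.span {1 - e M}) (e M) = 1 by
      rw [← map_one (Ideal.Quotient.mk _), Ideal.Quotient.eq, Ideal.mem_span_singleton']
      exact ⟨-1, by ring⟩] at h1
    exact Ideal.IsPrime.ne_top inferInstance ((Ideal.eq_top_iff_one _).mpr h1)
  · obtain ⟨b, rfl⟩ := Ideal.Quotient.mk_surjective z
    exact ⟨(b, 1), by simp⟩
  · rw [Ideal.Quotient.algebraMap_eq, Ideal.Quotient.eq, Ideal.mem_span_singleton'] at h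
    obtain ⟨c, hc⟩ := h
    refine ⟨⟨e M, (hM M).1⟩, ?_⟩
    show e M * x = e M * y
    linear_combination (-e M) * hc - c * (he M).eq

/-- A ring with idempotents separating its maximal ideals is a product of local rings, with the
factors the localizations at the maximal ideals. -/
theorem bijective_pi_localization [Fintype (MaximalSpectrum B)]
    (he : CompleteOrthogonalIdempotents e)
    (hM : ∀ M, e M ∉ M.asIdeal ∧ ∀ M', M' ≠ M → e M ∈ M'.asIdeal) :
    Function.Bijective (RingHom.pi fun n : MaximalSpectrum B =>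
      algebraMap B (Localization.AtPrime n.asIdeal)) := by
  let ψ : ∀ n : MaximalSpectrum B,
      (B ⧸ Ideal.span {1 - e n}) ≃ₐ[B] Localization.AtPrime n.asIdeal := fun n =>
    have := isLocalization_atPrime_quotient_one_sub he.idem hM n
    IsLocalization.algEquiv n.asIdeal.primeCompl _ _
  have : (RingHom.pi fun n : MaximalSpectrum B => algebraMap B (Localization.AtPrime n.asIdeal) :
      B → _) = (Equiv.piCongrRight fun n => (ψ n).toEquiv) ∘
      RingHom.pi fun n => Ideal.Quotient.mk (Ideal.span {1 - e n}) := by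
    funext b n
    exact ((ψ n).commutes b).symm
  rw [this]
  exact (Equiv.bijective _).comp he.bijective_pi

/-- The product decomposition of an algebra with idempotents separating its maximal ideals. -/
theorem exists_algEquiv_pi_quotient {A : Type v} [CommRing A] [Algebra A B]
    [Fintype (MaximalSpectrum B)] (he : CompleteOrthogonalIdempotents e) :
    Nonempty (B ≃ₐ[A] ∀ n, B ⧸ Ideal.span {1 - e n}) :=
  ⟨AlgEquiv.ofBijective (AlgHom.pi fun n => Ideal.Quotient.mkₐ A _) he.bijective_pi⟩

end Groth.Agent.Hensel
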