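import Groth.Agent.Hensel.PairBasic
import Groth.Agent.Hensel.Semilocal
import Groth.Agent.Hensel.MonicFactor
import Mathlib.RingTheory.LocalRing.ResidueField.Ideal
import Mathlib.RingTheory.Artinian.Module

/-!
# Henselian local rings
-/

namespace Groth.Agent.Hensel

open Polynomial IsLocalRing

universe u v w

theorem henselianLocalRing_of_henselianRing (R : Type u) [CommRing R] [IsLocalRing R]
    [HenselianRing R (maximalIdeal R)] : HenselianLocalRing R where
  is_henselian f hf a₀ h₁ h₂ := HenselianRing.is_henselian f hf a₀ h₁ (h₂.map _)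

theorem henselianRing_maximalIdeal_iff (R : Type u) [CommRing R] [IsLocalRing R] :
    HenselianRing R (maximalIdeal R) ↔ HenselianLocalRing R :=
  ⟨fun _ => henselianLocalRing_of_henselianRing R, fun _ => inferInstance⟩

theorem henselianLocalRing_of_radical_eq (R : Type u) [CommRing R] [IsLocalRing R] (I : Ideal R)
    [HenselianRing R I] (h : I.radical = maximalIdeal R) : HenselianLocalRing R := by
  have : HenselianRing R (maximalIdeal R) := h ▸ (henselianRing_radical_iff I).mpr ‹_›
  exact henselianLocalRing_of_henselianRing R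

/-- Roots of arbitrary (not necessarily monic) polynomials lift in henselian pairs. -/
theorem exists_root_lift {A : Type u} [CommRing A] (I : Ideal A) [HenselianRing A I] (f : A[X])
    (a₀ : A) (h₁ : f.eval a₀ ∈ I) (h₂ : IsUnit (Ideal.Quotient.mk I (f.derivative.eval a₀))) :
    ∃ a, f.IsRoot a ∧ a - a₀ ∈ I := by
  let j : A[X] →ₐ[A] MvPolynomial Unit A := aeval (MvPolynomial.X ())
  have hev : ∀ (p : A[X]) (a : Unit → A), MvPolynomial.eval a (j p) = p.eval (a ()) := by
    intro p a
    have : (MvPolynomial.aeval a).comp j = aeval (a ()) := by ext; simp [j]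
    simpa [MvPolynomial.aeval_eq_eval] using congr($this p)
  obtain ⟨a, ha, ha'⟩ := exists_root_of_isUnit_jacobian I (fun _ : Unit => j f) (fun _ => a₀)
    (fun _ => by rw [hev]; exact h₁) (by
      have : MvPolynomial.pderiv () (j f) = j f.derivative := by
        simp [j]
      simpa [this, hev] using h₂)
  exact ⟨a (), by rw [IsRoot, ← hev]; exact ha (), ha' ()⟩

section finite

variable (A : Type u) [CommRing A] [IsLocalRing A] (B : Type v) [CommRing B] [Algebra A B]
  [Module.Finite A B]

theorem isArtinianRing_quotient_map_maximalIdeal :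
    IsArtinianRing (B ⧸ (maximalIdeal A).map (algebraMap A B)) := by
  let := Ideal.Quotient.field (maximalIdeal A)
  let : Algebra (A ⧸ maximalIdeal A) (B ⧸ (maximalIdeal A).map (algebraMap A B)) :=
    (Ideal.quotientMap _ (algebraMap A B) Ideal.le_comap_map).toAlgebra
  have : IsScalarTower A (A ⧸ maximalIdeal A) (B ⧸ (maximalIdeal A).map (algebraMap A B)) :=
    .of_algebraMap_eq fun _ => rfl
  have : Module.Finite (A ⧸ maximalIdeal A) (B ⧸ (maximalIdeal A).map (algebraMap A B)) :=
    Module.Finite.of_restrictScalars_finite A _ _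
  exact IsArtinianRing.of_finite (A ⧸ maximalIdeal A) _

theorem map_maximalIdeal_le_jacobson :
    (maximalIdeal A).map (algebraMap A B) ≤ Ideal.jacobson ⊥ :=
  map_le_jacobson_of_isIntegral (by rw [IsLocalRing.jacobson_eq_maximalIdeal ⊥ bot_ne_top])

theorem exists_idempotents_of_surjOn
    (h : Set.SurjOn (Ideal.Quotient.mk ((maximalIdeal A).map (algebraMap A B)))
      {e : B | IsIdempotentElem e} {e | IsIdempotentElem e}) :
    ∃ (_ : Fintype (MaximalSpectrum B)) (e : MaximalSpectrum B → B),
      CompleteOrthogonalIdempotents e ∧ ∀ M, e M ∉ M.asIdeal ∧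
        ∀ M', M' ≠ M → e M ∈ M'.asIdeal := by
  have := isArtinianRing_quotient_map_maximalIdeal A B
  exact exists_completeOrthogonalIdempotents_of_surjOn (map_maximalIdeal_le_jacobson A B) h

end finite

theorem surjOn_idempotents_of_ringEquiv_pi {B : Type v} [CommRing B] {ι : Type*} {C : ι → Type*}
    [∀ j, CommRing (C j)] (hloc : ∀ j, IsLocalRing (C j)) (φ : B ≃+* ∀ j, C j) (J : Ideal B) :
    Set.SurjOn (Ideal.Quotient.mk J) {e : B | IsIdempotentElem e} {e | IsIdempotentElem e} := by
  intro x hx
  obtain ⟨b, rfl⟩ := Ideal.Quotient.mk_surjective x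
  obtain ⟨e, he, heb⟩ := exists_idempotent_sub_mem_span_of_ringEquiv_pi φ b
  refine ⟨e, he, Ideal.Quotient.eq.mpr ((Ideal.span_le.mpr ?_) heb)⟩
  simpa using Ideal.Quotient.eq.mp (by simpa [IsIdempotentElem] using hx)

theorem exists_ringEquiv_pi_isLocalRing_of_idempotents {B : Type u} [CommRing B]
    [Fintype (MaximalSpectrum B)] {e : MaximalSpectrum B → B}
    (he : CompleteOrthogonalIdempotents e)
    (hM : ∀ M, e M ∉ M.asIdeal ∧ ∀ M', M' ≠ M → e M ∈ M'.asIdeal) :
    ∃ (ι : Type u) (_ : Fintype ι) (A : ι → Type u) (_ : ∀ i, CommRing (A i)),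
      (∀ i, IsLocalRing (A i)) ∧ Nonempty (B ≃+* (∀ i, A i)) :=
  ⟨MaximalSpectrum B, inferInstance, fun n => B ⧸ Ideal.span {1 - e n}, inferInstance,
    fun n => isLocalRing_quotient_one_sub he.idem hM n,
    ⟨(exists_algEquiv_pi_quotient (A := B) he).some.toRingEquiv⟩⟩

/-- Finite algebras over henselian local rings have idempotents separating the maximal ideals. -/
theorem exists_idempotents_of_henselian (R : Type u) [CommRing R] [HenselianLocalRing R]
    (S : Type v) [CommRing S] [Algebra R S] [Module.Finite R S] :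
    ∃ (_ : Fintype (MaximalSpectrum S)) (e : MaximalSpectrum S → S),
      CompleteOrthogonalIdempotents e ∧ ∀ M, e M ∉ M.asIdeal ∧
        ∀ M', M' ≠ M → e M ∈ M'.asIdeal :=
  exists_idempotents_of_surjOn R S (bijOn_idempotents_of_isIntegral (maximalIdeal R) S).surjOn

theorem henselianLocalRing_of_finite_pi_local (R : Type u) [CommRing R] [IsLocalRing R]
    (h : ∀ F : R[X], F.Monic →
      ∃ (ι : Type u) (_ : Fintype ι) (A : ι → Type u) (_ : ∀ i, CommRing (A i)),
        (∀ i, IsLocalRing (A i)) ∧ Nonempty (AdjoinRoot F ≃+* (∀ i, A i))) :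
    HenselianLocalRing R := by
  have jac : maximalIdeal R ≤ Ideal.jacobson ⊥ := by
    rw [IsLocalRing.jacobson_eq_maximalIdeal ⊥ bot_ne_top]
  have : HenselianRing R (maximalIdeal R) :=
    henselianRing_iff_gabberCond.mpr ⟨jac, fun N hN f hf hmap => by
      obtain ⟨ι, _, C, _, hC, ⟨φ⟩⟩ := h f hf
      exact exists_root_of_idempotent_lift jac hN hf hmap fun hx =>
        surjOn_idempotents_of_ringEquiv_pi hC φ _ hx⟩
  exact henselianLocalRing_of_henselianRing R

theorem henselianLocalRing_of_finite (R : Type u) [CommRing R] [HenselianLocalRing R]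
    (S : Type u) [CommRing S] [IsLocalRing S] [Algebra R S] [Module.Finite R S] :
    HenselianLocalRing S := by
  have : HenselianRing S ((maximalIdeal R).map (algebraMap R S)) := henselianRing_of_isIntegral' _ S
  refine henselianLocalRing_of_radical_eq S ((maximalIdeal R).map (algebraMap R S))
    (le_antisymm ?_ ?_)
  · refine (Ideal.IsPrime.radical_le_iff inferInstance).mpr ?_
    exact (map_maximalIdeal_le_jacobson R S).trans
      (by rw [IsLocalRing.jacobson_eq_maximalIdeal ⊥ bot_ne_top])
  · rw [Ideal.radical_eq_sInf, le_sInf_iff]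
    rintro P ⟨hP, hPp⟩
    have : P.IsPrime := hPp
    have hc : (P.comap (algebraMap R S)).IsMaximal := by
      have : maximalIdeal R ≤ P.comap (algebraMap R S) := Ideal.map_le_iff_le_comap.mp hP
      rw [← (maximalIdeal.isMaximal R).eq_of_le (Ideal.IsPrime.ne_top inferInstance) this]
      infer_instance
    exact (eq_maximalIdeal (Ideal.isMaximal_of_isIntegral_of_isMaximal_comap P hc)).ge

theorem henselianLocalRing_of_etale_retraction (R : Type u) [CommRing R] [IsLocalRing R]
    (h : ∀ (S : Type u) [CommRing S] [Algebra R S] [Algebra.Etale R S] (q : Ideal S) [q.IsPrime],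
      q.LiesOver (maximalIdeal R) → Function.Surjective (algebraMap R q.ResidueField) →
      Nonempty (S →ₐ[R] R)) :
    HenselianLocalRing R := by
  constructor
  intro f hf a₀ h₁ h₂
  obtain ⟨c, hc⟩ := X_sub_C_dvd_sub_C_eval (a := a₀) (p := f)
  let P : StandardEtalePair R := ⟨f, hf, derivative f * c, c, 0, 1, by simp⟩
  have hev : ∀ q : R[X], aeval (residue R a₀) q = residue R (q.eval a₀) := fun q => by
    rw [← IsLocalRing.ResidueField.algebraMap_eq, aeval_algebraMap_apply, aeval_def,
      Algebra.algebraMap_self, eval₂_id]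
  have hder : f.derivative.eval a₀ = c.eval a₀ := by
    simpa using congr((derivative $hc).eval a₀)
  have hP : P.HasMap (residue R a₀) := by
    refine ⟨?_, ?_⟩
    · rw [hev]; exact residue_eq_zero_iff _ |>.mpr h₁
    · show IsUnit (aeval _ (derivative f * c))
      rw [map_mul, hev, hev, ← hder]
      exact (h₂.map _).mul (h₂.map _)
  let ψ : P.Ring →ₐ[R] ResidueField R := P.lift _ hP
  have hψs : Function.Surjective ψ := fun x => by
    obtain ⟨r, rfl⟩ := residue_surjective x
    exact ⟨algebraMap R P.Ring r, ψ.commutes r⟩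
  let q : Ideal P.Ring := RingHom.ker ψ
  have hqmax : q.IsMaximal := RingHom.ker_isMaximal_of_surjective ψ hψs
  have hq : q.LiesOver (maximalIdeal R) := ⟨by
    show _ = (RingHom.ker ψ.toRingHom).comap (algebraMap R P.Ring)
    rw [RingHom.comap_ker]
    exact ((congrArg RingHom.ker ψ.comp_algebraMap).trans
      (by rw [IsLocalRing.ResidueField.algebraMap_eq, ker_residue])).symm⟩
  have hsurj : Function.Surjective (algebraMap R q.ResidueField) := by
    intro x
    obtain ⟨s, rfl⟩ := Ideal.algebraMap_residueField_surjective q x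
    obtain ⟨r, hr⟩ := residue_surjective (ψ s)
    refine ⟨r, ?_⟩
    rw [IsScalarTower.algebraMap_apply R P.Ring q.ResidueField, ← sub_eq_zero, ← map_sub,
      Ideal.algebraMap_residueField_eq_zero]
    show ψ (algebraMap R P.Ring r - s) = 0
    rw [map_sub, AlgHom.commutes]
    exact sub_eq_zero.mpr hr
  obtain ⟨τ⟩ := h P.Ring q hq hsurj
  have hroot : f.eval (τ P.X) = 0 := by
    have := (P.hasMap_X.map τ).1
    rwa [aeval_def, Algebra.algebraMap_self, eval₂_id] at this
  have hg := (P.hasMap_X.map τ).2
  rw [aeval_def, Algebra.algebraMap_self, eval₂_id] at hg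
  refine ⟨τ P.X, hroot, ?_⟩
  have hcu : IsUnit (c.eval (τ P.X)) := by
    rw [show P.g = derivative f * c from rfl, eval_mul] at hg
    exact (IsUnit.mul_iff.mp hg).2
  have := congr(Polynomial.eval (τ P.X) $hc)
  simp only [eval_sub, eval_C, eval_mul, eval_X, hroot, zero_sub] at this
  have hm : (τ P.X - a₀) * c.eval (τ P.X) ∈ maximalIdeal R := this ▸ neg_mem h₁
  exact ((maximalIdeal.isMaximal R).isPrime.mem_or_mem hm).resolve_right
    (notMem_maximalIdeal.mpr hcu)

theorem henselianLocalRing_of_ringKrullDim_eq_zero (R : Type u) [CommRing R] [IsLocalRing R]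
    (h : ringKrullDim R = 0) : HenselianLocalRing R := by
  have : Ring.KrullDimLE 0 R := Ring.krullDimLE_iff.mpr h.le
  have : HenselianRing R (maximalIdeal R) := henselianRing_of_forall_isNilpotent _ fun x hx => by
    rw [← Ring.KrullDimLE.eq_maximalIdeal_of_isPrime (maximalIdeal R)] at hx
    exact (Ring.KrullDimLE.isNilpotent_iff_mem_maximalIdeal).mpr hx
  exact henselianLocalRing_of_henselianRing R

theorem henselianLocalRing_of_quotient (B : Type u) [CommRing B] (I : Ideal B)
    [HenselianRing B I] [HenselianLocalRing (B ⧸ I)] : HenselianLocalRing B := by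
  have hI : I ≤ Ideal.jacobson ⊥ := HenselianRing.jac
  have := isLocalHom_of_le_jacobson_bot I hI
  have : Nontrivial B := (Ideal.Quotient.mk I).domain_nontrivial
  have : IsLocalRing B := RingHom.domain_isLocalRing (Ideal.Quotient.mk I)
  have hle : I ≤ maximalIdeal B := hI.trans (by rw [IsLocalRing.jacobson_eq_maximalIdeal ⊥ bot_ne_top])
  have hmap : (maximalIdeal B).map (Ideal.Quotient.mk I) = maximalIdeal (B ⧸ I) := by
    refine eq_maximalIdeal ((Ideal.map_eq_top_or_isMaximal_of_surjective _
      Ideal.Quotient.mk_surjective (maximalIdeal.isMaximal B)).resolve_left fun h => ?_)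
    exact (maximalIdeal.isMaximal B).ne_top (by rw [← Ideal.comap_map_mk hle, h, Ideal.comap_top])
  have : HenselianRing (B ⧸ I) ((maximalIdeal B).map (Ideal.Quotient.mk I)) := by
    rw [hmap]; infer_instance
  have := henselianRing_trans hle
  exact henselianLocalRing_of_henselianRing B

end Groth.Agent.Hensel
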