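import Groth.Agent.Hensel.Construction
import Groth.Agent.Hensel.Local
import Groth.Prelude.Def_Hensel
import Groth.Prelude.Def_Hens2
import Mathlib.RingTheory.Unramified.LocalRing
import Mathlib.RingTheory.Flat.FaithfullyFlat.Algebra
import Mathlib.FieldTheory.IsSepClosed

/-!
# Henselizations, strict henselizations and henselizations of pairs
-/

noncomputable section

namespace Groth.Agent.Hensel

universe u v

open IsLocalRing

section pair

variable (R : Type u) [CommRing R] (I : Ideal R)

/-- The henselization of a pair. -/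
abbrev PairHenz : Type u := Henz R (R ⧸ I)

theorem Henz.proj_surjective_of_surjective {K : Type u} [CommRing K] [Algebra R K]
    (h : Function.Surjective (algebraMap R K)) : Function.Surjective (Henz.proj R K) := fun x => by
  obtain ⟨r, rfl⟩ := h x
  exact ⟨algebraMap R _ r, AlgHom.commutes _ r⟩

theorem ker_proj_pairHenz :
    RingHom.ker (Henz.proj R (R ⧸ I)) = I.map (algebraMap R (PairHenz R I)) := by
  refine le_antisymm (fun x hx => ?_) (Ideal.map_le_iff_le_comap.mpr fun i hi => by
    simpa using Ideal.Quotient.eq_zero_iff_mem.mpr hi)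
  obtain ⟨N, b, s, hxs⟩ := Henz.exists_fraction x
  let Bb := N.B ⧸ I.map (algebraMap R N.B)
  let π : N.B →ₐ[R] Bb := Ideal.Quotient.mkₐ R _
  let ι : R ⧸ I →ₐ[R] Bb := Ideal.quotientMapₐ _ (Algebra.ofId R N.B) Ideal.le_comap_map
  let σb : Bb →ₐ[R] R ⧸ I := Ideal.Quotient.liftₐ _ N.toK (fun a ha => by
    have : I.map (algebraMap R N.B) ≤ RingHom.ker N.toK :=
      Ideal.map_le_iff_le_comap.mpr fun i hi => by
        simpa using Ideal.Quotient.eq_zero_iff_mem.mpr hi
    exact this ha)
  let Φ : TensorProduct R N.B N.B →ₐ[R] Bb :=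
    Algebra.TensorProduct.lift π (ι.comp N.toK) fun _ _ => .all _ _
  obtain ⟨g, hg⟩ := Ideal.Quotient.mk_surjective (Φ (Algebra.FormallyUnramified.elem R N.B))
  have hgτ : N.toK g = 1 := by
    show σb (π g) = 1
    rw [show π g = _ from hg]
    have : σb.comp Φ = N.toK.comp (Algebra.TensorProduct.lmul' R) := by
      have hι : σb.comp ι = AlgHom.id R (R ⧸ I) := Ideal.Quotient.algHom_ext _ (by ext)
      have hι' : ∀ c, σb (ι c) = c := fun c => congr($hι c)
      ext t
      · simp [Φ, σb, π]; rfl
      · simpa [Φ, π] using hι' (N.toK t)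
    show σb.comp Φ (Algebra.FormallyUnramified.elem R N.B) = 1
    rw [this, AlgHom.comp_apply, Algebra.FormallyUnramified.lmul_elem, map_one]
  have hτb : N.toK b = 0 := by
    rw [← N.ρ_algebraMap, ← Henz.proj_of, ← hxs, map_mul, show Henz.proj R (R ⧸ I) x = 0 from hx,
      zero_mul]
  have hbg : b * g ∈ I.map (algebraMap R N.B) := by
    rw [← Ideal.Quotient.eq_zero_iff_mem, map_mul]
    show π b * π g = 0
    rw [show π g = _ from hg]
    have := congr(Φ $(Algebra.FormallyUnramified.one_tmul_sub_tmul_one_mul_elem (R := R) b))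
    simp only [map_mul, map_sub, Φ, Algebra.TensorProduct.lift_tmul, map_one, one_mul, mul_one,
      map_zero, AlgHom.comp_apply, hτb] at this
    linear_combination -this
  let φ : N.B →ₐ[R] PairHenz R I := (Henz.of N).comp (IsScalarTower.toAlgHom R N.B N.Stage)
  have hu : IsUnit (φ g * φ s) := by
    refine Henz.isUnit_iff.mpr ?_
    rw [map_mul]
    refine IsUnit.mul ?_ ?_
    · simp [φ, hgτ]
    · simp only [φ, AlgHom.comp_apply, IsScalarTower.coe_toAlgHom', Henz.proj_of, Nbhd.ρ_algebraMap]
      exact s.2
  have hmem : φ (b * g) ∈ I.map (algebraMap R (PairHenz R I)) := by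
    have := Ideal.mem_map_of_mem φ hbg
    rwa [show (I.map (algebraMap R N.B)).map φ = I.map (algebraMap R (PairHenz R I)) from
      (Ideal.map_map (algebraMap R N.B) φ.toRingHom).trans
        (congrArg (Ideal.map · I) φ.comp_algebraMap)] at this
  rw [show φ (b * g) = x * (φ g * φ s) by
    rw [map_mul, show φ b = x * φ s from hxs.symm]; ring] at hmem
  exact (Ideal.mul_unit_mem_iff_mem _ hu).mp hmem

theorem isPairHenselization_pairHenz : Hens2.IsPairHenselization R I (PairHenz R I) := by
  refine ⟨ker_proj_pairHenz R I ▸ Henz.henselianRing, fun C _ J f hC hf => ?_⟩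
  let : Algebra R C := f.toAlgebra
  let θ₀ : R ⧸ I →ₐ[R] C ⧸ J :=
    Ideal.quotientMapₐ J (Algebra.ofId R C) (Ideal.map_le_iff_le_comap.mp hf)
  obtain ⟨g, hg, huniq⟩ := Henz.existsUnique_lift (R := R) (K := R ⧸ I) J
    (θ₀.comp (Henz.proj R (R ⧸ I)).range.val)
  refine ⟨g.toRingHom, g.comp_algebraMap, fun g' hg' => ?_⟩
  let g'' : PairHenz R I →ₐ[R] C := { g' with commutes' := fun r => congr($hg' r) }
  have : g'' = g := huniq g'' fun z => by
    obtain ⟨r, hr⟩ := Ideal.Quotient.mk_surjective (Henz.proj R (R ⧸ I) z)
    have hz : z - algebraMap R _ r ∈ RingHom.ker (Henz.proj R (R ⧸ I)) := by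
      simp [RingHom.mem_ker, hr]
    rw [ker_proj_pairHenz] at hz
    have h1 : g'' (z - algebraMap R _ r) ∈ J := by
      refine hf ?_
      have := Ideal.mem_map_of_mem g'' hz
      rwa [show (I.map (algebraMap R (PairHenz R I))).map g'' = I.map f from
        (Ideal.map_map (algebraMap R (PairHenz R I)) g''.toRingHom).trans
          (congrArg (Ideal.map · I) g''.comp_algebraMap)] at this
    rw [map_sub, AlgHom.commutes, ← Ideal.Quotient.eq] at h1
    rw [h1]
    show _ = θ₀ (Henz.proj R (R ⧸ I) z)
    rw [← hr]; rfl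
  exact congrArg AlgHom.toRingHom this

theorem exists_isPairHenselization (A : Type u) [CommRing A] (I : Ideal A) :
    ∃ (B : Type u) (_ : CommRing B) (_ : Algebra A B), Hens2.IsPairHenselization A I B :=
  ⟨PairHenz A I, inferInstance, inferInstance, isPairHenselization_pairHenz A I⟩

end pair

section field

variable {R : Type u} [CommRing R] [IsLocalRing R] {L : Type u} [Field L]
  [Algebra R L] [Algebra (ResidueField R) L] [IsScalarTower R (ResidueField R) L]

instance : Nontrivial (Henz R L) :=
  (Henz.proj R L).toRingHom.domain_nontrivial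

instance isLocalRing_henz : IsLocalRing (Henz R L) :=
  .of_nonunits_add fun a b ha hb => by
    simp only [mem_nonunits_iff, Henz.isUnit_iff, isUnit_iff_ne_zero, not_not] at ha hb ⊢
    rw [map_add, ha, hb, add_zero]

theorem maximalIdeal_henz : maximalIdeal (Henz R L) = RingHom.ker (Henz.proj R L) := by
  ext x
  rw [IsLocalRing.mem_maximalIdeal, mem_nonunits_iff, Henz.isUnit_iff, isUnit_iff_ne_zero, not_not,
    RingHom.mem_ker]

theorem algebraMap_eq_zero_iff_mem (r : R) : algebraMap R L r = 0 ↔ r ∈ maximalIdeal R := by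
  rw [IsScalarTower.algebraMap_apply R (ResidueField R) L, map_eq_zero,
    IsLocalRing.ResidueField.algebraMap_eq, residue_eq_zero_iff]

instance isLocalHom_henz : IsLocalHom (algebraMap R (Henz R L)) := ⟨fun r hr => by
  by_contra hu
  have := hr.map (Henz.proj R L)
  rw [AlgHom.commutes, (algebraMap_eq_zero_iff_mem r).mpr hu] at this
  exact not_isUnit_zero this⟩

instance henselianLocalRing_henz : HenselianLocalRing (Henz R L) :=
  have : HenselianRing (Henz R L) (maximalIdeal (Henz R L)) := by
    rw [maximalIdeal_henz]; exact Henz.henselianRing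
  henselianLocalRing_of_henselianRing _

instance faithfullyFlat_henz : Module.FaithfullyFlat R (Henz R L) :=
  Module.FaithfullyFlat.of_flat_of_isLocalHom

theorem map_maximalIdeal_henz :
    (maximalIdeal R).map (algebraMap R (Henz R L)) = maximalIdeal (Henz R L) := by
  rw [maximalIdeal_henz]
  refine le_antisymm (Ideal.map_le_iff_le_comap.mpr fun r hr => ?_) fun x hx => ?_
  · simpa using (algebraMap_eq_zero_iff_mem r).mpr hr
  obtain ⟨N, b, s, hxs⟩ := Henz.exists_fraction x
  let q : Ideal N.B := RingHom.ker N.toK
  have : q.IsPrime := RingHom.ker_isPrime _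
  let Q := Localization.AtPrime q
  have : IsLocalHom (algebraMap R Q) := ⟨fun r hr => by
    by_contra hu
    rw [IsScalarTower.algebraMap_apply R N.B Q,
      IsLocalization.AtPrime.isUnit_to_map_iff Q q] at hr
    refine hr ?_
    show N.toK _ = 0
    rw [AlgHom.commutes]
    exact (algebraMap_eq_zero_iff_mem r).mpr hu⟩
  have hmap : (maximalIdeal R).map (algebraMap R Q) = maximalIdeal Q :=
    Algebra.FormallyUnramified.map_maximalIdeal
  have hbq : b ∈ q := by
    show N.toK b = 0
    rw [← N.ρ_algebraMap, ← Henz.proj_of, ← hxs, map_mul, show Henz.proj R L x = 0 from hx,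
      zero_mul]
  have hb : algebraMap N.B Q b ∈ ((maximalIdeal R).map (algebraMap R N.B)).map (algebraMap N.B Q) := by
    rw [Ideal.map_map, ← IsScalarTower.algebraMap_eq, hmap]
    exact (IsLocalization.AtPrime.to_map_mem_maximal_iff Q q b).mpr hbq
  obtain ⟨⟨a, t⟩, hat⟩ := (IsLocalization.mem_map_algebraMap_iff q.primeCompl Q).mp hb
  rw [← map_mul] at hat
  obtain ⟨c, hc⟩ := (IsLocalization.eq_iff_exists q.primeCompl Q).mp hat
  let φ : N.B →ₐ[R] Henz R L := (Henz.of N).comp (IsScalarTower.toAlgHom R N.B N.Stage)
  have hφ : ∀ y ∈ q.primeCompl, IsUnit (φ y) := fun y hy => Henz.isUnit_iff.mpr (by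
    simp only [φ, AlgHom.comp_apply, IsScalarTower.coe_toAlgHom', Henz.proj_of, Nbhd.ρ_algebraMap]
    exact isUnit_iff_ne_zero.mpr hy)
  have hu : IsUnit (φ s * φ c * φ t) := by
    refine ((hφ _ ?_).mul (hφ _ c.2)).mul (hφ _ t.2)
    exact fun h => (IsUnit.ne_zero (s.2 : IsUnit (N.toK s))) h
  have hmem : φ (c * a) ∈ (maximalIdeal R).map (algebraMap R (Henz R L)) := by
    have := Ideal.mem_map_of_mem φ (Ideal.mul_mem_left _ (c : N.B) a.2)
    rwa [show ((maximalIdeal R).map (algebraMap R N.B)).map φ =
        (maximalIdeal R).map (algebraMap R (Henz R L)) from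
      (Ideal.map_map (algebraMap R N.B) φ.toRingHom).trans
        (congrArg (Ideal.map · (maximalIdeal R)) φ.comp_algebraMap)] at this
  rw [← hc, map_mul, map_mul, show φ b = x * φ s from hxs.symm,
    show φ c * (x * φ s * φ t) = x * (φ s * φ c * φ t) by ring] at hmem
  exact (Ideal.mul_unit_mem_iff_mem _ hu).mp hmem

theorem proj_surjective_of_isSeparable [Algebra.IsSeparable (ResidueField R) L] :
    Function.Surjective (Henz.proj R L) := by
  intro κ
  let p := minpoly (ResidueField R) κ
  have hint : IsIntegral (ResidueField R) κ := Algebra.IsIntegral.isIntegral κ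
  have hp : p ∈ Polynomial.lifts (IsLocalRing.residue R) :=
    (Polynomial.mem_lifts p).mpr (Polynomial.map_surjective _ residue_surjective p)
  obtain ⟨f, hf, -, hfm⟩ := Polynomial.lifts_and_natDegree_eq_and_monic hp (minpoly.monic hint)
  have hmap : ∀ q : Polynomial R, (q.map (algebraMap R (Henz R L))).eval₂
      (Henz.proj R L).toRingHom κ = (q.map (IsLocalRing.residue R)).eval₂
        (algebraMap (ResidueField R) L) κ := fun q => by
    rw [Polynomial.eval₂_map, Polynomial.eval₂_map, ← IsLocalRing.ResidueField.algebraMap_eq,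
      ← IsScalarTower.algebraMap_eq]
    congr 1
    exact (Henz.proj R L).comp_algebraMap
  obtain ⟨a, -, ha⟩ := Henz.exists_root_proj (f.map (algebraMap R (Henz R L))) (hfm.map _) κ
    (by rw [hmap, hf]; exact minpoly.aeval _ _) (by
      rw [Polynomial.derivative_map, hmap, ← Polynomial.derivative_map, hf]
      exact isUnit_iff_ne_zero.mpr ((Algebra.IsSeparable.isSeparable _ κ).aeval_derivative_ne_zero
        (minpoly.aeval _ _)))
  exact ⟨a, ha⟩

/-- The residue field of the universal henselian neighbourhood of a separable extension. -/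
def residueFieldEquiv [Algebra.IsSeparable (ResidueField R) L] :
    ResidueField (Henz R L) ≃ₐ[ResidueField R] L :=
  AlgEquiv.ofRingEquiv (f := (Ideal.quotEquivOfEq maximalIdeal_henz).trans
    (RingHom.quotientKerEquivOfSurjective (f := (Henz.proj R L).toRingHom)
      proj_surjective_of_isSeparable))
    fun x => by
      obtain ⟨r, rfl⟩ := residue_surjective x
      show Henz.proj R L (algebraMap R (Henz R L) r) = _
      rw [AlgHom.commutes, ← IsLocalRing.ResidueField.algebraMap_eq,
        ← IsScalarTower.algebraMap_apply]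

@[simp] theorem residueFieldEquiv_residue [Algebra.IsSeparable (ResidueField R) L] (z : Henz R L) :
    residueFieldEquiv (residue _ z) = Henz.proj R L z := rfl

theorem existsUnique_henz_lift [Algebra.IsSeparable (ResidueField R) L] (T : Type v) [CommRing T]
    [HenselianLocalRing T] (f : R →+* T) (τ : L →+* ResidueField T)
    (hτ : τ.comp (algebraMap R L) = (residue T).comp f) :
    ∃! g : Henz R L →+* T, g.comp (algebraMap R (Henz R L)) = f ∧
      ∀ z, residue T (g z) = τ (Henz.proj R L z) := by
  let : Algebra R T := f.toAlgebra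
  let θ₀ : L →ₐ[R] T ⧸ maximalIdeal T := { τ with commutes' := fun r => congr($hτ r) }
  obtain ⟨g, hg, huniq⟩ := Henz.existsUnique_lift (R := R) (K := L) (maximalIdeal T)
    (θ₀.comp (Henz.proj R L).range.val)
  refine ⟨g.toRingHom, ⟨g.comp_algebraMap, fun z => hg z⟩, fun g' hg' => ?_⟩
  let g'' : Henz R L →ₐ[R] T := { g' with commutes' := fun r => congr($(hg'.1) r) }
  exact congrArg AlgHom.toRingHom (huniq g'' fun z => hg'.2 z)

end field

theorem isSepClosed_of_ringEquiv {k k' : Type u} [Field k] [Field k'] [IsSepClosed k]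
    (e : k ≃+* k') : IsSepClosed k' :=
  IsSepClosed.of_exists_root _ fun p _ hp hs => by
    have hd : (p.map e.symm.toRingHom).degree ≠ 0 := by
      rw [Polynomial.degree_map]; exact (Polynomial.degree_pos_of_irreducible hp).ne'
    obtain ⟨x, hx⟩ := IsSepClosed.exists_root (p.map e.symm.toRingHom) hd (hs.map)
    refine ⟨e x, e.symm.injective ?_⟩
    rw [map_zero, ← hx]
    change e.symm.toRingHom (p.eval (e x)) = _
    rw [← Polynomial.eval_map_apply]
    simp

variable (R : Type u) [CommRing R] [IsLocalRing R]

/-- The henselization of a local ring. -/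
abbrev LocalHenz : Type u := Henz R (ResidueField R)

/-- The strict henselization of a local ring, with respect to `SeparableClosure`. -/
abbrev StrictHenz : Type u := Henz R (SeparableClosure (ResidueField R))

instance : Algebra.IsSeparable (ResidueField R) (ResidueField R) := Algebra.isSeparable_self _

instance isHenselization_localHenz : Hensel.IsHenselization R (LocalHenz R) where
  henselian := inferInstance
  universal T _ _ f hf := by
    have hτ : (ResidueField.map f).comp (algebraMap R (ResidueField R)) = (residue T).comp f :=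
      RingHom.ext fun r => rfl
    obtain ⟨g, ⟨hg, -⟩, huniq⟩ := existsUnique_henz_lift (L := ResidueField R) T f (ResidueField.map f) hτ
    refine ⟨g, hg, fun g' hg' => huniq g' ⟨hg', fun z => ?_⟩⟩
    obtain ⟨r, hr⟩ := residue_surjective (Henz.proj R (ResidueField R) z)
    have hz : z - algebraMap R _ r ∈ maximalIdeal (LocalHenz R) := by
      rw [maximalIdeal_henz, RingHom.mem_ker, map_sub, AlgHom.commutes,
        IsLocalRing.ResidueField.algebraMap_eq, hr, sub_self]
    rw [← map_maximalIdeal_henz] at hz
    have h1 := Ideal.mem_map_of_mem g' hz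
    rw [Ideal.map_map, hg', map_sub] at h1
    have h2 : g' z - f r ∈ maximalIdeal T := by
      rw [← RingHom.comp_apply g', hg'] at h1
      exact (show (maximalIdeal R).map f ≤ maximalIdeal T from
        Ideal.map_le_iff_le_comap.mpr fun a ha => map_nonunit f a ha) h1
    rw [← residue_eq_zero_iff, map_sub, sub_eq_zero] at h2
    rw [h2, ← hr]
    rfl

instance isSepClosure_residueField_strictHenz :
    IsSepClosure (ResidueField R) (ResidueField (StrictHenz R)) :=
  let e := residueFieldEquiv (R := R) (L := SeparableClosure (ResidueField R))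
  ⟨isSepClosed_of_ringEquiv e.symm.toRingEquiv, Algebra.IsSeparable.of_algHom _ _ e.toAlgHom⟩

instance isStrictHenselization_strictHenz : Hensel.IsStrictHenselization R (StrictHenz R) where
  henselian := inferInstance
  isSepClosure := inferInstance
  universal T _ _ f _ τ hτ := by
    let e := residueFieldEquiv (R := R) (L := SeparableClosure (ResidueField R))
    have hτ' : (τ.comp e.symm.toAlgHom.toRingHom).comp (algebraMap R (SeparableClosure (ResidueField R))) =
        (residue T).comp f := by
      ext r
      show τ (e.symm _) = _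
      rw [IsScalarTower.algebraMap_apply R (ResidueField R), e.symm.commutes]
      exact congr($hτ (residue R r))
    obtain ⟨g, ⟨hg, hg'⟩, huniq⟩ := existsUnique_henz_lift T f (τ.comp e.symm.toAlgHom.toRingHom) hτ'
    have key : ∀ z, e.symm (Henz.proj R _ z) = residue _ z := fun z =>
      e.symm_apply_eq.mpr (residueFieldEquiv_residue z).symm
    refine ⟨g, ⟨hg, fun x => ?_⟩, fun g' hg'' => huniq g' ⟨hg''.1, fun z => ?_⟩⟩
    · rw [hg']; exact congrArg τ (key x)
    · rw [hg''.2]; exact congrArg τ (key z).symm

/-- Every henselization is isomorphic to the constructed one. -/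
theorem exists_algEquiv_localHenz (S : Type u) [CommRing S] [IsLocalRing S] [Algebra R S]
    [IsLocalHom (algebraMap R S)] [Hensel.IsHenselization R S] :
    Nonempty (LocalHenz R ≃ₐ[R] S) := by
  have : HenselianLocalRing S := Hensel.IsHenselization.henselian R
  obtain ⟨g, hg, -⟩ := (isHenselization_localHenz R).universal S (algebraMap R S) ‹_›
  obtain ⟨g', hg', -⟩ := Hensel.IsHenselization.universal (R := R) (S := S) (LocalHenz R)
    (algebraMap R (LocalHenz R)) inferInstance
  have h1 : g.comp g' = RingHom.id S :=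
    (Hensel.IsHenselization.universal (R := R) (S := S) S (algebraMap R S) ‹_›).unique
      (by rw [RingHom.comp_assoc, hg', hg]) (RingHom.id_comp _)
  have h2 : g'.comp g = RingHom.id (LocalHenz R) :=
    ((isHenselization_localHenz R).universal (LocalHenz R) (algebraMap R _) inferInstance).unique
      (by rw [RingHom.comp_assoc, hg, hg']) (RingHom.id_comp _)
  exact ⟨AlgEquiv.ofRingEquiv (f := RingEquiv.ofRingHom g g' h1 h2) fun r => congr($hg r)⟩

/-- Every strict henselization is isomorphic to the constructed one. -/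
theorem exists_algEquiv_strictHenz (S : Type u) [CommRing S] [IsLocalRing S] [Algebra R S]
    [IsLocalHom (algebraMap R S)] [Hensel.IsStrictHenselization R S] :
    Nonempty (StrictHenz R ≃ₐ[R] S) := by
  have : HenselianLocalRing S := Hensel.IsStrictHenselization.henselian R
  have : IsSepClosure (ResidueField R) (ResidueField S) :=
    Hensel.IsStrictHenselization.isSepClosure
  let e : ResidueField (StrictHenz R) ≃ₐ[ResidueField R] ResidueField S :=
    IsSepClosure.equiv (ResidueField R) _ _
  have he : ∀ (T : Type u) [CommRing T] [IsLocalRing T] [Algebra R T]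
      [IsLocalHom (algebraMap R T)] (T' : Type u) [CommRing T'] [IsLocalRing T'] [Algebra R T']
      [IsLocalHom (algebraMap R T')]
      (φ : ResidueField T →ₐ[ResidueField R] ResidueField T'),
      φ.toRingHom.comp (ResidueField.map (algebraMap R T)) = ResidueField.map (algebraMap R T') :=
    fun T _ _ _ _ T' _ _ _ _ φ => RingHom.ext φ.commutes
  obtain ⟨g, ⟨hg, hgr⟩, -⟩ := (isStrictHenselization_strictHenz R).universal S (algebraMap R S)
    e.toAlgHom.toRingHom (he _ _ _)
  obtain ⟨g', ⟨hg', hgr'⟩, -⟩ := Hensel.IsStrictHenselization.universal (R := R) (S := S)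
    (StrictHenz R) (algebraMap R (StrictHenz R)) e.symm.toAlgHom.toRingHom (he _ _ _)
  have h1 : g.comp g' = RingHom.id S :=
    (Hensel.IsStrictHenselization.universal (R := R) (S := S) S (algebraMap R S)
      (RingHom.id _) (RingHom.id_comp _)).unique
      ⟨by rw [RingHom.comp_assoc, hg', hg], fun x => by simp [hgr, hgr']⟩
      ⟨RingHom.id_comp _, fun x => rfl⟩
  have h2 : g'.comp g = RingHom.id (StrictHenz R) :=
    ((isStrictHenselization_strictHenz R).universal (StrictHenz R) (algebraMap R _)
      (RingHom.id _) (RingHom.id_comp _)).unique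
      ⟨by rw [RingHom.comp_assoc, hg, hg'], fun x => by simp [hgr, hgr']⟩
      ⟨RingHom.id_comp _, fun x => rfl⟩
  exact ⟨AlgEquiv.ofRingEquiv (f := RingEquiv.ofRingHom g g' h1 h2) fun r => congr($hg r)⟩

end Groth.Agent.Hensel
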