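import Mathlib.RingTheory.RingHom.LocallyStandardSmooth
import Mathlib.RingTheory.Etale.Basic
import Mathlib.RingTheory.TensorProduct.Maps

/-!
# Étale algebras lift along surjections
-/

noncomputable section

namespace Groth.Agent.Hensel

universe u

open TensorProduct MvPolynomial Algebra

variable {A T C : Type u} [CommRing A] [CommRing T] [CommRing C] [Algebra A T] [Algebra T C]

theorem nonempty_lift_equiv [Algebra A C] [IsScalarTower A T C] {ι σ : Type} {B : Type u}
    [CommRing B] [Algebra A B] (P : Algebra.Presentation T C ι σ) (v : σ → MvPolynomial ι A)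
    (hv : ∀ k, MvPolynomial.map (algebraMap A T) (v k) = P.relation k)
    (g : MvPolynomial ι A →ₐ[A] B) (hg : ∀ k, g (v k) = 0)
    (ψ : B →ₐ[A] C) (hψ : ∀ p, ψ (g p) = aeval P.val p)
    (hext : ∀ f₁ f₂ : B →ₐ[A] T ⊗[A] B, f₁.comp g = f₂.comp g → f₁ = f₂) :
    Nonempty (T ⊗[A] B ≃ₐ[T] C) := by
  let y : ι → T ⊗[A] B := fun i => 1 ⊗ₜ g (X i)
  have hy : ∀ p : MvPolynomial ι A, aeval y (MvPolynomial.map (algebraMap A T) p) = 1 ⊗ₜ g p := by
    intro p
    rw [MvPolynomial.aeval_map_algebraMap]
    exact congr($(show aeval y = (Algebra.TensorProduct.includeRight (R := A) (A := T) (B := B)).comp g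
      by ext i; simp [y]) p)
  let χ₀ : (MvPolynomial ι T ⧸ RingHom.ker (aeval (R := T) P.val)) →ₐ[T] T ⊗[A] B :=
    Ideal.Quotient.liftₐ _ (aeval y) fun a ha => by
      rw [← P.ker_eq_ker_aeval_val, ← P.span_range_relation_eq_ker] at ha
      refine (Ideal.span_le.mpr ?_ : _ ≤ RingHom.ker (aeval (R := T) y)) ha
      rintro _ ⟨k, rfl⟩
      rw [SetLike.mem_coe, RingHom.mem_ker, ← hv, hy, hg, tmul_zero]
  have hsurj : Function.Surjective (aeval (R := T) P.val) := P.aeval_val_surjective
  let θ := Ideal.quotientKerAlgEquivOfSurjective hsurj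
  let χ : C →ₐ[T] T ⊗[A] B := χ₀.comp θ.symm.toAlgHom
  have hχ : ∀ p : MvPolynomial ι T, χ (aeval P.val p) = aeval y p := fun p => by
    show χ₀ (θ.symm (aeval P.val p)) = _
    rw [show θ.symm (aeval P.val p) = Ideal.Quotient.mk _ p from θ.symm_apply_eq.mpr rfl]
    rfl
  let φ : T ⊗[A] B →ₐ[T] C :=
    Algebra.TensorProduct.lift (Algebra.ofId T C) ψ fun _ _ => .all _ _
  have hφ : ∀ b : B, φ (1 ⊗ₜ b) = ψ b := fun b => by
    simp [φ, Algebra.TensorProduct.lift_tmul]
  refine ⟨AlgEquiv.ofAlgHom φ χ ?_ ?_⟩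
  · refine AlgHom.ext fun c => ?_
    obtain ⟨p, rfl⟩ := hsurj c
    show φ (χ (aeval P.val p)) = aeval P.val p
    rw [hχ]
    exact congr($(show φ.comp (aeval y) = aeval P.val by
      ext i
      simp only [AlgHom.comp_apply, aeval_X, y, hφ, hψ]) p)
  · refine Algebra.TensorProduct.ext' fun t b => ?_
    have key : ((χ.comp φ).restrictScalars A).comp Algebra.TensorProduct.includeRight =
        Algebra.TensorProduct.includeRight (R := A) (A := T) (B := B) := by
      refine hext _ _ (MvPolynomial.algHom_ext fun i => ?_)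
      show χ (φ (1 ⊗ₜ g (X i))) = 1 ⊗ₜ g (X i)
      rw [hφ, hψ, show aeval P.val (X i : MvPolynomial ι A) = aeval P.val (X i : MvPolynomial ι T) by
        simp, hχ, aeval_X]
    rw [show t ⊗ₜ[A] b = t • ((1 : T) ⊗ₜ[A] b) by rw [smul_tmul', smul_eq_mul, mul_one],
      map_smul, map_smul]
    congr 1
    exact congr($key b)

/-- Every étale algebra over a quotient `T` of `A` lifts to an étale `A`-algebra. -/
theorem exists_etale_algebra_lift (hT : Function.Surjective (algebraMap A T)) [Algebra.Etale T C] :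
    ∃ (B : Type u) (_ : CommRing B) (_ : Algebra A B),
      Algebra.Etale A B ∧ Nonempty (T ⊗[A] B ≃ₐ[T] C) := by
  classical
  have h0 : IsStandardSmoothOfRelativeDimension 0 T C :=
    Algebra.Etale.iff_isStandardSmoothOfRelativeDimension_zero.mp inferInstance
  obtain ⟨ι, σ, _, _, P, hP⟩ := h0.out
  have := Fintype.ofFinite σ
  choose v hv using fun k => MvPolynomial.map_surjective (algebraMap A T) hT (P.relation k)
  let P' : PreSubmersivePresentation A (MvPolynomial ι A ⧸ Ideal.span (Set.range v)) ι σ :=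
    PreSubmersivePresentation.naive P.map P.map_inj
  let j := P'.jacobian
  let B := Localization.Away j
  let Q' := PreSubmersivePresentation.localizationAway B j
  have hj : IsUnit (Q'.comp P').jacobian := by
    rw [PreSubmersivePresentation.comp_jacobian_eq_jacobian_smul_jacobian,
      PreSubmersivePresentation.localizationAway_jacobian, Algebra.smul_def]
    exact (IsLocalization.Away.algebraMap_isUnit j).mul (IsLocalization.Away.algebraMap_isUnit j)
  let S' : SubmersivePresentation A B (Unit ⊕ ι) (Unit ⊕ σ) := ⟨Q'.comp P', hj⟩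
  have hdim : S'.dimension = 0 := by
    show (Q'.comp P').dimension = 0
    have h1 : Nat.card σ ≤ Nat.card ι := P.card_relations_le_card_vars_of_isFinite
    simp only [Presentation.dimension, Nat.card_sum, Nat.card_unique] at hP ⊢
    omega
  have hB : Algebra.Etale A B := Algebra.Etale.iff_isStandardSmoothOfRelativeDimension_zero.mpr
    (S'.isStandardSmoothOfRelativeDimension hdim)
  refine ⟨B, inferInstance, inferInstance, hB, ?_⟩
  let : Algebra A C := Algebra.compHom C (algebraMap A T)
  have : IsScalarTower A T C := .of_algebraMap_eq fun _ => rfl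
  have hev : ∀ p : MvPolynomial ι A,
      aeval P.val (MvPolynomial.map (algebraMap A T) p) = aeval P.val p := fun p =>
    MvPolynomial.aeval_map_algebraMap T _ p
  let ψ₀ : (MvPolynomial ι A ⧸ Ideal.span (Set.range v)) →ₐ[A] C :=
    Ideal.Quotient.liftₐ _ (aeval P.val) fun a ha => by
      refine (Ideal.span_le.mpr ?_ : _ ≤ RingHom.ker (aeval (R := A) P.val)) ha
      rintro _ ⟨k, rfl⟩
      rw [SetLike.mem_coe, RingHom.mem_ker, ← hev, hv]
      exact P.aeval_val_relation k
  have hψj : IsUnit (ψ₀ j) := by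
    convert P.jacobian_isUnit using 1
    have h1 : j = Ideal.Quotient.mk _ P'.jacobiMatrix.det := by
      show P'.jacobian = _
      rw [P'.jacobian_eq_jacobiMatrix_det]
      rfl
    rw [h1, show ψ₀ (Ideal.Quotient.mk _ P'.jacobiMatrix.det) = aeval P.val P'.jacobiMatrix.det from rfl,
      ← hev, RingHom.map_det, P.jacobian_eq_jacobiMatrix_det, P.algebraMap_apply]
    congr 2
    ext1 i k
    rw [RingHom.mapMatrix_apply, Matrix.map_apply, P.jacobiMatrix_apply,
      PreSubmersivePresentation.jacobiMatrix_naive, ← MvPolynomial.pderiv_map, hv]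
  let ψ : B →ₐ[A] C := IsLocalization.liftAlgHom (M := Submonoid.powers j) (f := ψ₀) fun y => by
    obtain ⟨_, n, rfl⟩ := y
    simpa using hψj.pow n
  have hψ : ∀ p, ψ (algebraMap _ B p) = ψ₀ p := fun p => IsLocalization.lift_eq _ p
  refine nonempty_lift_equiv P.toPresentation v hv
    ((IsScalarTower.toAlgHom A (MvPolynomial ι A ⧸ Ideal.span (Set.range v)) B).comp
      (Ideal.Quotient.mkₐ A (Ideal.span (Set.range v)))) (fun k => ?_) ψ (fun p => hψ _)
    fun f₁ f₂ h => IsLocalization.algHom_ext (Submonoid.powers j) (Ideal.Quotient.algHom_ext A ?_)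
  · show algebraMap (MvPolynomial ι A ⧸ Ideal.span (Set.range v)) B
      (Ideal.Quotient.mk (Ideal.span (Set.range v)) (v k)) = 0
    rw [Ideal.Quotient.eq_zero_iff_mem.mpr (Ideal.subset_span (Set.mem_range_self k)), map_zero]
  · exact AlgHom.ext fun p => congr($h p)

end Groth.Agent.Hensel
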