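import Groth.Agent.Hensel.Factor
import Mathlib.Algebra.Group.Pi.Units

/-!
# Basic properties of henselian pairs
-/

namespace Groth.Agent.Hensel

open Polynomial

universe u v

variable {A : Type u} [CommRing A]

theorem henselianRing_iff_idempotents_lift (I : Ideal A) :
    HenselianRing A I ↔ ∀ (B : Type u) [CommRing B] [Algebra A B], Algebra.IsIntegral A B →
      Set.BijOn (Ideal.Quotient.mk (Ideal.map (algebraMap A B) I))
        {e : B | IsIdempotentElem e} {e | IsIdempotentElem e} := by
  refine ⟨fun _ B _ _ _ => bijOn_idempotents_of_isIntegral I B,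
    fun h => henselianRing_of_idempotents_lift fun B _ _ _ => h B inferInstance⟩

theorem henselianRing_of_isIntegral' (I : Ideal A) [HenselianRing A I] (B : Type u) [CommRing B]
    [Algebra A B] [Algebra.IsIntegral A B] : HenselianRing B (I.map (algebraMap A B)) := by
  refine (henselianRing_iff_idempotents_lift _).mpr fun C _ _ _ => ?_
  let : Algebra A C := Algebra.compHom C (algebraMap A B)
  have : IsScalarTower A B C := .of_algebraMap_eq' rfl
  have : Algebra.IsIntegral A C := Algebra.IsIntegral.trans B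
  rw [Ideal.map_map, ← IsScalarTower.algebraMap_eq]
  exact bijOn_idempotents_of_isIntegral I C

theorem henselianRing_quotient (I J : Ideal A) [HenselianRing A J] :
    HenselianRing (A ⧸ I) (J.map (Ideal.Quotient.mk I)) :=
  henselianRing_of_isIntegral' J (A ⧸ I)

theorem henselianRing_of_forall_isNilpotent (I : Ideal A) (hI : ∀ x ∈ I, IsNilpotent x) :
    HenselianRing A I := by
  refine (henselianRing_iff_idempotents_lift _).mpr fun B _ _ _ => ?_
  have hnil : ∀ x ∈ I.map (algebraMap A B), IsNilpotent x := by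
    intro x hx
    have : I.map (algebraMap A B) ≤ nilradical B := Ideal.map_le_iff_le_comap.mpr fun a ha =>
      (hI a ha).map (algebraMap A B)
    exact this hx
  have hker : ∀ x ∈ RingHom.ker (Ideal.Quotient.mk (I.map (algebraMap A B))), IsNilpotent x := by
    intro x hx; exact hnil x (by simpa [Ideal.mk_ker] using hx)
  refine ⟨fun e he => IsIdempotentElem.map he _, fun e he e' he' h => ?_, fun x hx => ?_⟩
  · exact eq_of_isNilpotent_sub_of_isIdempotentElem he he' (hnil _ (Ideal.Quotient.eq.mp h))
  · obtain ⟨e, ⟨he, hex⟩, -⟩ :=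
      existsUnique_isIdempotentElem_eq_of_ker_isNilpotent _ hker x
        (Ideal.Quotient.mk_surjective x) hx
    exact ⟨e, he, hex⟩

theorem henselianRing_of_le {I J : Ideal A} (hIJ : I ≤ J) [HenselianRing A J] :
    HenselianRing A I := by
  have : HenselianRing (A ⧸ I) (J.map (Ideal.Quotient.mk I)) := henselianRing_quotient I J
  refine henselianRing_of_etale_lift fun U _ _ _ σ => ?_
  obtain ⟨τ, hτ⟩ := exists_etale_lift J ((Ideal.Quotient.factorₐ A hIJ).comp σ)
  refine ⟨τ, algHom_ext_of_le_jacobson (HenselianRing.jac (I := J.map (Ideal.Quotient.mk I))) _ _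
    fun s => ?_⟩
  obtain ⟨b, hb⟩ := Ideal.Quotient.mk_surjective (σ s)
  have h1 : Ideal.Quotient.mk J (τ s) = Ideal.Quotient.mk J b := by
    simpa [← hb] using congr($hτ s)
  rw [AlgHom.comp_apply, Ideal.Quotient.mkₐ_eq_mk, ← hb, ← map_sub]
  exact Ideal.mem_map_of_mem _ (Ideal.Quotient.eq.mp h1)

theorem henselianRing_trans {I J : Ideal A} (hIJ : I ≤ J) [HenselianRing A I]
    [HenselianRing (A ⧸ I) (J.map (Ideal.Quotient.mk I))] : HenselianRing A J := by
  refine henselianRing_of_etale_lift fun U _ _ _ σ => ?_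
  let e : (A ⧸ J) ≃ₐ[A] ((A ⧸ I) ⧸ J.map (Ideal.Quotient.mk I)) :=
    AlgEquiv.ofRingEquiv (f := (DoubleQuot.quotQuotEquivQuotOfLE hIJ).symm) fun _ => rfl
  obtain ⟨τ₁, hτ₁, -⟩ := existsUnique_etale_lift_of_algebra (J.map (Ideal.Quotient.mk I))
    (R := A) (e.toAlgHom.comp σ)
  obtain ⟨τ, hτ⟩ := exists_etale_lift I τ₁
  refine ⟨τ, AlgHom.ext fun s => e.injective ?_⟩
  have h2 : Ideal.Quotient.mk (J.map (Ideal.Quotient.mk I)) (τ₁ s) = e (σ s) := congr($hτ₁ s)
  rw [← h2, show τ₁ s = Ideal.Quotient.mk I (τ s) from congr($hτ s).symm]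
  rfl

theorem henselianRing_iff_of_le' {I J : Ideal A} (hIJ : I ≤ J) :
    HenselianRing A J ↔
      (HenselianRing A I ∧ HenselianRing (A ⧸ I) (J.map (Ideal.Quotient.mk I))) :=
  ⟨fun _ => ⟨henselianRing_of_le hIJ, henselianRing_quotient I J⟩,
    fun ⟨_, _⟩ => henselianRing_trans hIJ⟩

theorem henselianRing_radical_iff (I : Ideal A) :
    HenselianRing A I.radical ↔ HenselianRing A I := by
  rw [henselianRing_iff_of_le' I.le_radical]
  refine ⟨And.left, fun h => ⟨h, henselianRing_of_forall_isNilpotent _ fun x hx => ?_⟩⟩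
  obtain ⟨a, ⟨n, ha⟩, rfl⟩ := (Ideal.mem_map_iff_of_surjective _ Ideal.Quotient.mk_surjective).mp hx
  exact ⟨n, by rw [← map_pow, Ideal.Quotient.eq_zero_iff_mem]; exact ha⟩

theorem henselianRing_sup (I J : Ideal A) [HenselianRing A I] [HenselianRing A J] :
    HenselianRing A (I ⊔ J) := by
  have : HenselianRing (A ⧸ I) ((I ⊔ J).map (Ideal.Quotient.mk I)) := by
    rw [Ideal.map_sup, Ideal.map_quotient_self, bot_sup_eq]
    exact henselianRing_quotient I J
  exact henselianRing_trans le_sup_left

theorem henselianRing_bot : HenselianRing A (⊥ : Ideal A) :=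
  henselianRing_of_forall_isNilpotent _ fun x hx => by simp_all

theorem exists_largest_henselian_ideal' (A : Type u) [CommRing A] :
    ∃ I : Ideal A, HenselianRing A I ∧ ∀ J : Ideal A, HenselianRing A J → J ≤ I := by
  classical
  let S := {J : Ideal A // HenselianRing A J}
  have : Nonempty S := ⟨⟨⊥, henselianRing_bot⟩⟩
  let K : Ideal A := ⨆ J : S, J.1
  have hdir : Directed (· ≤ ·) fun J : S => J.1 := fun J J' =>
    ⟨⟨J.1 ⊔ J'.1, @henselianRing_sup _ _ _ _ J.2 J'.2⟩, le_sup_left, le_sup_right⟩
  have hmem : ∀ {x}, x ∈ K ↔ ∃ J : S, x ∈ J.1 := Submodule.mem_iSup_of_directed _ hdir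
  refine ⟨K, ⟨fun x hx => ?_, ?_⟩, fun J hJ => le_iSup (fun J : S => J.1) ⟨J, hJ⟩⟩
  · obtain ⟨J, hJ⟩ := hmem.mp hx
    exact J.2.jac hJ
  · intro f hf a₀ h₁ h₂
    obtain ⟨u, hu⟩ := h₂.exists_right_inv
    obtain ⟨u, rfl⟩ := Ideal.Quotient.mk_surjective u
    rw [← map_mul, ← map_one (Ideal.Quotient.mk K), Ideal.Quotient.eq] at hu
    obtain ⟨J, hJ⟩ := hmem.mp h₁
    obtain ⟨J', hJ'⟩ := hmem.mp hu
    obtain ⟨L, hL, hL'⟩ := hdir J J'
    have := L.2
    obtain ⟨a, ha, ha'⟩ := HenselianRing.is_henselian (I := L.1) f hf a₀ (hL hJ) (by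
      refine .of_mul_eq_one (Ideal.Quotient.mk _ u) ?_
      rw [← map_mul, ← map_one (Ideal.Quotient.mk L.1), Ideal.Quotient.eq]
      exact hL' hJ')
    exact ⟨a, ha, hmem.mpr ⟨L, ha'⟩⟩

theorem connectedSpace_zeroLocus' (I : Ideal A) [HenselianRing A I] (p : Ideal A) [p.IsPrime] :
    ConnectedSpace (PrimeSpectrum (A ⧸ p ⊔ I)) := by
  have hne : p ⊔ I ≠ ⊤ := by
    intro h
    obtain ⟨m, hm, hpm⟩ := Ideal.exists_le_maximal p (Ideal.IsPrime.ne_top ‹_›)
    have : I ≤ m := (HenselianRing.jac (I := I)).trans (sInf_le ⟨bot_le, hm⟩)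
    exact hm.ne_top (top_le_iff.mp (h ▸ sup_le hpm this))
  have : Nontrivial (A ⧸ p ⊔ I) := Ideal.Quotient.nontrivial_iff.mpr hne
  rw [connectedSpace_iff_clopen]
  refine ⟨inferInstance, fun s hs => ?_⟩
  obtain ⟨e, he, rfl⟩ := PrimeSpectrum.isClopen_iff.mp hs
  let φ := DoubleQuot.quotQuotEquivQuotSup p I
  have he' : IsIdempotentElem (φ.symm e) := he.map φ.symm
  obtain ⟨e₀, he₀, hee⟩ := (bijOn_idempotents_of_isIntegral I (A ⧸ p)).surjOn he'
  have : e = φ (φ.symm e) := (φ.apply_symm_apply e).symm
  rcases IsIdempotentElem.iff_eq_zero_or_one.mp he₀ with rfl | rfl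
  · left
    rw [this, ← hee, map_zero]; exact (map_zero φ).symm ▸ by simp
  · right
    rw [this, ← hee, map_one]; exact (map_one φ).symm ▸ by simp

theorem eq_ideal_map_of_pi {ι : Type*} {B : ι → Type*} [∀ i, CommRing (B i)] (I : ∀ i, Ideal (B i))
    (x : ∀ i, B i) : x ∈ ⨅ i, (I i).comap (Pi.evalRingHom B i) ↔ ∀ i, x i ∈ I i := by
  simp [Submodule.mem_iInf]

theorem henselianRing_pi_iff' {ι : Type*} {B : ι → Type*} [∀ i, CommRing (B i)]
    (I : ∀ i, Ideal (B i)) :
    HenselianRing (∀ i, B i) (⨅ i, (I i).comap (Pi.evalRingHom B i)) ↔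
      ∀ i, HenselianRing (B i) (I i) := by
  classical
  constructor
  · intro h i
    refine henselianRing_iff_gabberCond.mpr ⟨fun x hx => ?_, fun N hN f hf hmap => ?_⟩
    · rw [Ideal.mem_jacobson_bot]
      intro y
      have hx' : Pi.single i x ∈ ⨅ i, (I i).comap (Pi.evalRingHom B i) :=
        (eq_ideal_map_of_pi I _).mpr fun j => by
          rcases eq_or_ne j i with rfl | hj <;> simp [*]
      simpa using (Ideal.mem_jacobson_bot.mp (h.jac hx') (Pi.single i y)).map (Pi.evalRingHom B i)
    · have hdeg : f.map (Ideal.Quotient.mk (I i)) - X ^ N * (X - 1) = 0 := sub_eq_zero.mpr hmap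
      -- extend `f` to the product by `X ^ N * (X - 1)`
      let g : ∀ j, (B j)[X] := Function.update (fun j => X ^ N * (X - 1)) i f
      have hgi : g i = f := Function.update_self ..
      have hgN : ∀ j, (g j).coeff (N + 1) = 1 ∧ ∀ k > N + 1, (g j).coeff k = 0 := by
        intro j
        rcases eq_or_ne j i with rfl | hj
        · rw [hgi]
          rcases subsingleton_or_nontrivial (B j ⧸ I j) with hs | hs
          · have hm : I j = ⊤ := Ideal.Quotient.subsingleton_iff.mp hs
            have : Subsingleton (B j) := by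
              have h1 : Pi.single j (1 : B j) ∈ ⨅ i, (I i).comap (Pi.evalRingHom B i) :=
                (eq_ideal_map_of_pi I _).mpr fun j' => by
                  rcases eq_or_ne j' j with rfl | hj' <;> simp [*]
              have := (Ideal.mem_jacobson_bot.mp (h.jac h1) (Pi.single j (-1))).map
                (Pi.evalRingHom B j)
              simp at this
              exact subsingleton_of_zero_eq_one (by simpa using this)
            exact ⟨Subsingleton.elim _ _, fun _ _ => Subsingleton.elim _ _⟩
          · have hd : f.natDegree = N + 1 := by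
              rw [← hf.natDegree_map (Ideal.Quotient.mk (I j)), hmap]
              rw [(monic_X_pow N).natDegree_mul (by simpa using monic_X_sub_C (1 : B j ⧸ I j))]
              simp [natDegree_sub_eq_left_of_natDegree_lt]
            exact ⟨hd ▸ hf.coeff_natDegree, fun k hk => coeff_eq_zero_of_natDegree_lt (hd ▸ hk)⟩
        · rw [show g j = X ^ N * (X - 1) from Function.update_of_ne hj ..]
          refine ⟨?_, fun k hk => ?_⟩
          · rw [mul_sub, mul_one, coeff_sub, ← pow_succ, coeff_X_pow_self,
              coeff_X_pow, if_neg (by omega), sub_zero]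
          · rw [mul_sub, mul_one, coeff_sub, ← pow_succ, coeff_X_pow, coeff_X_pow,
              if_neg (by omega), if_neg (by omega), sub_zero]
      let F : (∀ j, B j)[X] := ∑ k ∈ Finset.range (N + 2), C (fun j => (g j).coeff k) * X ^ k
      have hF : ∀ j, F.map (Pi.evalRingHom B j) = g j := by
        intro j
        ext k
        simp only [F, Polynomial.map_sum, Polynomial.map_mul, map_C, Polynomial.map_pow, map_X,
          finsetSum_coeff, coeff_C_mul, coeff_X_pow, Pi.evalRingHom_apply, mul_ite, mul_one,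
          mul_zero, Finset.sum_ite_eq, Finset.mem_range]
        split_ifs with hk
        · rfl
        · exact ((hgN j).2 k (by omega)).symm
      have hFm : F.Monic := by
        refine monic_of_natDegree_le_of_coeff_eq_one (N + 1) ?_ ?_
        · refine natDegree_sum_le_of_forall_le _ _ fun k hk => ?_
          exact (natDegree_C_mul_X_pow_le _ _).trans (by simp at hk; omega)
        · funext j
          have := congr(Polynomial.coeff $(hF j) (N + 1))
          rw [coeff_map, (hgN j).1] at this
          exact this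
      have hFmap : F.map (Ideal.Quotient.mk (⨅ i, (I i).comap (Pi.evalRingHom B i))) =
          X ^ N * (X - 1) := by
        have : F.map (Ideal.Quotient.mk (⨅ i, (I i).comap (Pi.evalRingHom B i))) =
            (X ^ N * (X - 1) : (∀ j, B j)[X]).map (Ideal.Quotient.mk _) := by
          ext k
          rw [coeff_map, coeff_map, Ideal.Quotient.eq, eq_ideal_map_of_pi]
          intro j
          rw [Pi.sub_apply, ← Ideal.Quotient.eq]
          have e1 := congr(Polynomial.coeff $(hF j) k)
          rw [coeff_map] at e1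
          have e2 : Pi.evalRingHom B j ((X ^ N * (X - 1) : (∀ j, B j)[X]).coeff k) =
              (X ^ N * (X - 1) : (B j)[X]).coeff k := by rw [← coeff_map]; simp
          rw [Pi.evalRingHom_apply] at e1 e2
          rw [e1, e2]
          rcases eq_or_ne j i with rfl | hj
          · rw [hgi, ← coeff_map, hmap, ← coeff_map]; simp
          · rw [show g j = X ^ N * (X - 1) from Function.update_of_ne hj ..]
        simpa using this
      obtain ⟨α, hα, hα'⟩ := (GabberCond.of_henselianRing _ _).root N hN F hFm hFmap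
      refine ⟨α i, ?_, (eq_ideal_map_of_pi I _).mp hα' i⟩
      rw [IsRoot, ← hgi, ← hF i]
      exact (eval_map_apply (Pi.evalRingHom B i) (p := F) α).trans (by rw [hα.eq_zero, map_zero])
  · intro h
    refine henselianRing_iff_gabberCond.mpr ⟨fun x hx => ?_, fun N hN f hf hmap => ?_⟩
    · rw [Ideal.mem_jacobson_bot]
      intro y
      rw [Pi.isUnit_iff]
      exact fun i => Ideal.mem_jacobson_bot.mp ((h i).jac ((eq_ideal_map_of_pi I x).mp hx i)) _
    · have hi : ∀ i, ∃ α, (f.map (Pi.evalRingHom B i)).IsRoot α ∧ α - 1 ∈ I i := by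
        intro i
        have := h i
        refine (GabberCond.of_henselianRing _ (I i)).root N hN _ (hf.map _) ?_
        let q : ((∀ i, B i) ⧸ ⨅ i, (I i).comap (Pi.evalRingHom B i)) →+* B i ⧸ I i :=
          Ideal.quotientMap _ (Pi.evalRingHom B i) (iInf_le _ i)
        have e := congr(Polynomial.map q $hmap)
        rw [Polynomial.map_map, Ideal.quotientMap_comp_mk] at e
        simpa [Polynomial.map_map] using e
      choose α hα hα' using hi
      refine ⟨α, funext fun i => ?_, (eq_ideal_map_of_pi I _).mpr hα'⟩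
      have := (hα i).eq_zero
      rw [eval_map] at this
      show Pi.evalRingHom B i (f.eval α) = 0
      rw [← eval₂_at_apply]
      exact this

end Groth.Agent.Hensel
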