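import Groth.Agent.Hensel.Pair
import Groth.Agent.Hensel.PairBasic
import Groth.Agent.Hensel.LiftEtaleAlg
import Mathlib.RingTheory.Localization.Away.Lemmas
import Mathlib.RingTheory.Nakayama
import Mathlib.RingTheory.TensorProduct.Quotient

/-!
# Finite étale algebras over a henselian pair
-/

noncomputable section

namespace Groth.Agent.Hensel

universe u v

open TensorProduct

variable {A : Type u} [CommRing A] (I : Ideal A)

theorem exists_idempotent_finite_quotient [HenselianRing A I] (B : Type u) [CommRing B] [Algebra A B]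
    [Algebra.FiniteType A B] [Algebra.QuasiFinite A B]
    [Module.Finite A (B ⧸ I.map (algebraMap A B))] :
    ∃ e : B, IsIdempotentElem e ∧ 1 - e ∈ I.map (algebraMap A B) ∧
      Module.Finite A (B ⧸ Ideal.span {1 - e}) := by
  obtain ⟨F, _, htop⟩ := exists_subalgebra_of_quasiFinite (A := A) (U := B)
  let P := {r : B | r ∈ F ∧ ∀ u, ∃ N, r ^ N * u ∈ F}
  let Cd : B → Ideal F := fun u =>
    { carrier := {g | (g : B) * u ∈ F}
      zero_mem' := by simp
      add_mem' := fun {a b} ha hb => by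
        show ((a + b : F) : B) * u ∈ F
        rw [Subalgebra.coe_add, add_mul]; exact add_mem ha hb
      smul_mem' := fun c g hg => by
        show ((c • g : F) : B) * u ∈ F
        rw [smul_eq_mul, Subalgebra.coe_mul, mul_assoc]; exact mul_mem c.2 hg }
  let W : Ideal F := ⨅ u, (Cd u).radical
  have hW : ∀ g : F, g ∈ W → ∀ u, ∃ N, (g : B) ^ N * u ∈ F := fun g hg u => by
    obtain ⟨N, hN⟩ := (Submodule.mem_iInf _).mp hg u
    exact ⟨N, by simpa [Cd] using hN⟩
  have hP : ∀ r (hr : r ∈ P), (⟨r, hr.1⟩ : F) ∈ W := fun r hr =>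
    (Submodule.mem_iInf _).mpr fun u => by
      obtain ⟨N, hN⟩ := hr.2 u
      exact ⟨N, by simpa [Cd] using hN⟩
  let IB := I.map (algebraMap A B)
  have hle : (⊤ : Submodule F (B ⧸ IB)) ≤ W • (⊤ : Submodule F (B ⧸ IB)) := by
    have key : ∀ x ∈ Ideal.span P, ∀ b : B,
        Ideal.Quotient.mk IB (x * b) ∈ W • (⊤ : Submodule F (B ⧸ IB)) := by
      intro x hx
      induction hx using Submodule.span_induction with
      | mem r hr =>
        intro b
        exact Submodule.smul_mem_smul (hP r hr) (Submodule.mem_top (x := Ideal.Quotient.mk IB b))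
      | zero => intro b; simp
      | add x y _ _ hx hy => intro b; rw [add_mul, map_add]; exact add_mem (hx b) (hy b)
      | smul a x _ hx =>
        intro b
        rw [smul_eq_mul, mul_comm a x, mul_assoc]; exact hx _
    intro d _
    obtain ⟨b, rfl⟩ := Ideal.Quotient.mk_surjective d
    simpa using key 1 (htop ▸ trivial) b
  have : Module.Finite F (B ⧸ IB) := Module.Finite.of_restrictScalars_finite A F _
  obtain ⟨k, hk1, hk⟩ := Submodule.exists_sub_one_mem_and_smul_eq_zero_of_fg_of_le_smul W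
    (⊤ : Submodule F (B ⧸ IB)) Module.Finite.fg_top hle
  have hkI : (k : B) ∈ IB := by
    have h := hk (Ideal.Quotient.mk IB 1) trivial
    rw [Algebra.smul_def, map_one (Ideal.Quotient.mk IB), mul_one] at h
    exact Ideal.Quotient.eq_zero_iff_mem.mp h
  have hwW : 1 - k ∈ W := by rw [← neg_sub]; exact neg_mem hk1
  let IF := I.map (algebraMap A F)
  have hQ : ∀ x ∈ IB, ∀ u : B, ∃ (N : ℕ) (z : F), z ∈ IF ∧ ((1 - k : F) : B) ^ N * (u * x) = z := by
    intro x hx
    induction hx using Submodule.span_induction with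
    | mem y hy =>
      obtain ⟨i, hi, rfl⟩ := hy
      intro u
      obtain ⟨N, hN⟩ := hW _ hwW u
      refine ⟨N, ⟨_, hN⟩ * algebraMap A F i, Ideal.mul_mem_left _ _ (Ideal.mem_map_of_mem _ hi), ?_⟩
      rw [← mul_assoc]
      rfl
    | zero => exact fun u => ⟨0, 0, zero_mem _, by simp⟩
    | add x y _ _ hx hy =>
      intro u
      obtain ⟨N, z, hz, ez⟩ := hx u
      obtain ⟨N', z', hz', ez'⟩ := hy u
      refine ⟨N + N', (1 - k) ^ N' * z + (1 - k) ^ N * z',
        add_mem (Ideal.mul_mem_left _ _ hz) (Ideal.mul_mem_left _ _ hz'), ?_⟩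
      simp only [Subalgebra.coe_add, Subalgebra.coe_mul, Subalgebra.coe_pow, ← ez, ← ez', pow_add]
      ring
    | smul a x _ hx =>
      intro u
      obtain ⟨N, z, hz, ez⟩ := hx (u * a)
      exact ⟨N, z, hz, by rw [← ez, smul_eq_mul]; ring⟩
  obtain ⟨N, z, hz, ez⟩ := hQ _ hkI 1
  rw [one_mul] at ez
  have hz' : (1 - k) ^ N * k = z := Subtype.ext (by push_cast; exact ez)
  let π := Ideal.Quotient.mk IF
  have hnil : π k ^ (N + 1) * π (1 - k) ^ (N + 1) = 0 := by
    rw [← map_pow, ← map_pow, ← map_mul, Ideal.Quotient.eq_zero_iff_mem,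
      show k ^ (N + 1) * (1 - k) ^ (N + 1) = ((1 - k) ^ N * k) * ((1 - k) * k ^ N) by ring, hz']
    exact Ideal.mul_mem_right _ _ hz
  obtain ⟨x, y, hxy⟩ := (show IsCoprime (π k) (π (1 - k)) from
    ⟨1, 1, by rw [one_mul, one_mul, ← map_add, add_sub_cancel, map_one]⟩).pow (m := N + 1) (n := N + 1)
  obtain ⟨x, rfl⟩ := Ideal.Quotient.mk_surjective x
  obtain ⟨y, rfl⟩ := Ideal.Quotient.mk_surjective y
  have hb : IsIdempotentElem (π y * π (1 - k) ^ (N + 1)) := by
    rw [IsIdempotentElem]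
    linear_combination (π y * π (1 - k) ^ (N + 1)) * hxy - (π x * π y) * hnil
  obtain ⟨e, he, hee⟩ := (bijOn_idempotents_of_isIntegral I F).surjOn hb
  have he1 : e - y * (1 - k) ^ (N + 1) ∈ IF := by
    rw [← Ideal.Quotient.eq, map_mul, map_pow]; exact hee
  have he2 : 1 - e - x * k ^ (N + 1) ∈ IF := by
    rw [← Ideal.Quotient.eq, map_sub, map_one, map_mul, map_pow, ← hxy]
    show _ - Ideal.Quotient.mk IF e = _
    rw [show Ideal.Quotient.mk IF e = π y * π (1 - k) ^ (N + 1) from hee]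
    ring
  have hJ : W ⊔ Ideal.span {1 - e} = ⊤ := by
    by_contra hne
    obtain ⟨M, hM, hle'⟩ := Ideal.exists_le_maximal _ hne
    have hIF : IF ≤ M := by
      have := (henselianRing_of_isIntegral' I F).jac
      exact this.trans (sInf_le ⟨bot_le, hM⟩)
    refine hM.ne_top ((Ideal.eq_top_iff_one M).mpr ?_)
    have h1 : e - y * (1 - k) ^ (N + 1) + y * (1 - k) ^ (N + 1) + (1 - e) ∈ M := by
      refine add_mem (add_mem (hIF he1) (hle' (Ideal.mem_sup_left ?_))) (hle' (Ideal.mem_sup_right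
        (Ideal.mem_span_singleton_self _)))
      exact W.mul_mem_left _ (Ideal.pow_mem_of_mem W hwW _ (Nat.succ_pos N))
    simpa using h1
  have heW : e ∈ W := by
    obtain ⟨w, hw, c, hc, h1⟩ := Submodule.mem_sup.mp ((Ideal.eq_top_iff_one _).mp hJ)
    obtain ⟨c, rfl⟩ := Ideal.mem_span_singleton'.mp hc
    have : e = e * w := by linear_combination (-e) * h1 - c * he.eq
    rw [this]
    exact W.mul_mem_left _ hw
  have heu : ∀ u : B, (e : B) * u ∈ F := by
    intro u
    obtain ⟨n, hn⟩ := hW e heW u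
    have he' : IsIdempotentElem (e : B) := he.map F.val
    cases n with
    | zero => exact mul_mem e.2 (by simpa using hn)
    | succ n => rwa [he'.pow_succ_eq] at hn
  refine ⟨(e : B), he.map F.val, ?_, ?_⟩
  · have hmap : ∀ f ∈ IF, (f : B) ∈ IB := by
      intro f hf
      have := Ideal.mem_map_of_mem F.val.toRingHom hf
      rwa [Ideal.map_map, show F.val.toRingHom.comp (algebraMap A F) = algebraMap A B from F.val.comp_algebraMap] at this
    have h1 := hmap _ he2
    simp only [Subalgebra.coe_sub, Subalgebra.coe_mul, Subalgebra.coe_pow, Subalgebra.coe_one] at h1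
    have h2 : (x : B) * (k : B) ^ (N + 1) ∈ IB :=
      IB.mul_mem_left _ (Ideal.pow_mem_of_mem IB hkI _ (Nat.succ_pos N))
    simpa using add_mem h1 h2
  · refine Module.Finite.of_surjective
      (((Ideal.Quotient.mkₐ A (Ideal.span {1 - (e : B)})).comp F.val).toLinearMap) fun t => ?_
    obtain ⟨b, rfl⟩ := Ideal.Quotient.mk_surjective t
    exact ⟨⟨_, heu b⟩, Ideal.Quotient.eq.mpr (show (e : B) * b - b ∈ _ from
      Ideal.mem_span_singleton'.mpr ⟨-b, by ring⟩)⟩

theorem exists_finite_etale_lift [HenselianRing A I] (C : Type u) [CommRing C] [Algebra (A ⧸ I) C]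
    [Module.Finite (A ⧸ I) C] [Algebra.Etale (A ⧸ I) C] :
    ∃ (B : Type u) (_ : CommRing B) (_ : Algebra A B), Module.Finite A B ∧ Algebra.Etale A B ∧
      Nonempty ((A ⧸ I) ⊗[A] B ≃ₐ[A ⧸ I] C) := by
  obtain ⟨B, _, _, hB, ⟨φ⟩⟩ := exists_etale_algebra_lift (A := A) (T := A ⧸ I) (C := C)
    Ideal.Quotient.mk_surjective
  have : Module.Finite (A ⧸ I) ((A ⧸ I) ⊗[A] B) := Module.Finite.equiv φ.symm.toLinearEquiv
  have : Module.Finite A ((A ⧸ I) ⊗[A] B) := Module.Finite.trans (A ⧸ I) _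
  let q : (B ⧸ I.map (algebraMap A B)) ≃ₐ[B] B ⊗[A] (A ⧸ I) :=
    Algebra.TensorProduct.quotIdealMapEquivTensorQuot B I
  have : Module.Finite A (B ⧸ I.map (algebraMap A B)) :=
    Module.Finite.equiv ((q.restrictScalars A).trans
      (Algebra.TensorProduct.comm A B (A ⧸ I))).symm.toLinearEquiv
  obtain ⟨e, he, he1, hfin⟩ := exists_idempotent_finite_quotient I B
  have : IsLocalization.Away e (B ⧸ Ideal.span {1 - e}) :=
    IsLocalization.Away.quotient_of_isIdempotentElem he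
  have : Algebra.Etale B (B ⧸ Ideal.span {1 - e}) := Algebra.Etale.of_isLocalizationAway e
  refine ⟨B ⧸ Ideal.span {1 - e}, inferInstance, inferInstance, hfin, Algebra.Etale.comp A B _, ?_⟩
  have h0 : ∀ b ∈ I.map (algebraMap A B), (1 : A ⧸ I) ⊗ₜ[A] b = 0 := by
    intro b hb
    induction hb using Submodule.span_induction with
    | mem y hy =>
      obtain ⟨i, hi, rfl⟩ := hy
      rw [Algebra.algebraMap_eq_smul_one, ← smul_tmul, Algebra.smul_def, mul_one,
        Ideal.Quotient.algebraMap_eq, Ideal.Quotient.eq_zero_iff_mem.mpr hi, zero_tmul]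
    | zero => simp
    | add x y _ _ hx hy => rw [tmul_add, hx, hy, add_zero]
    | smul a x _ hx =>
      rw [smul_eq_mul, ← mul_one (1 : A ⧸ I), ← Algebra.TensorProduct.tmul_mul_tmul, hx, mul_zero]
  let g : (B ⧸ Ideal.span {1 - e}) →ₐ[A] (A ⧸ I) ⊗[A] B :=
    Ideal.Quotient.liftₐ _ Algebra.TensorProduct.includeRight fun a ha => by
      obtain ⟨c, rfl⟩ := Ideal.mem_span_singleton'.mp ha
      exact h0 _ (Ideal.mul_mem_left _ _ he1)
  let χ : (A ⧸ I) ⊗[A] (B ⧸ Ideal.span {1 - e}) →ₐ[A ⧸ I] (A ⧸ I) ⊗[A] B :=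
    Algebra.TensorProduct.lift (Algebra.ofId _ _) g fun _ _ => .all _ _
  let ψ : (A ⧸ I) ⊗[A] B →ₐ[A ⧸ I] (A ⧸ I) ⊗[A] (B ⧸ Ideal.span {1 - e}) :=
    Algebra.TensorProduct.map (AlgHom.id _ _) (Ideal.Quotient.mkₐ A _)
  refine ⟨(AlgEquiv.ofAlgHom χ ψ ?_ ?_).trans φ⟩
  · ext b
    simp [χ, ψ, g]
  · ext b
    obtain ⟨b, rfl⟩ := Ideal.Quotient.mk_surjective b
    simp [χ, ψ, g]

theorem bijective_tensorMap_id [HenselianRing A I] (B₁ B₂ : Type u) [CommRing B₁] [CommRing B₂]
    [Algebra A B₁] [Algebra A B₂] [Algebra.Etale A B₁] [Module.Finite A B₂] :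
    Function.Bijective (fun φ : B₁ →ₐ[A] B₂ =>
      Algebra.TensorProduct.map (AlgHom.id (A ⧸ I) (A ⧸ I)) φ) := by
  have : HenselianRing B₂ (I.map (algebraMap A B₂)) := henselianRing_of_isIntegral' I B₂
  let q : (B₂ ⧸ I.map (algebraMap A B₂)) ≃ₐ[A] (A ⧸ I) ⊗[A] B₂ :=
    ((Algebra.TensorProduct.quotIdealMapEquivTensorQuot B₂ I).restrictScalars A).trans
      (Algebra.TensorProduct.comm A B₂ (A ⧸ I))
  have hq : ∀ b : B₂, q (Ideal.Quotient.mk _ b) = 1 ⊗ₜ b := fun b => by
    simp [q]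
  refine ⟨fun φ ψ h => ?_, fun χ => ?_⟩
  · refine algHom_ext_of_le_jacobson (HenselianRing.jac (I := I.map (algebraMap A B₂))) φ ψ
      fun s => Ideal.Quotient.eq.mp (q.injective ?_)
    rw [hq, hq]
    simpa using congr($h (1 ⊗ₜ s))
  · let σ : B₁ →ₐ[A] B₂ ⧸ I.map (algebraMap A B₂) :=
      q.symm.toAlgHom.comp ((χ.restrictScalars A).comp Algebra.TensorProduct.includeRight)
    obtain ⟨τ, hτ, -⟩ := existsUnique_etale_lift_of_algebra (I.map (algebraMap A B₂)) σ
    refine ⟨τ, Algebra.TensorProduct.ext' fun a b => ?_⟩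
    have h1 : (1 : A ⧸ I) ⊗ₜ[A] τ b = χ (1 ⊗ₜ b) := by
      rw [← hq, show Ideal.Quotient.mk _ (τ b) = σ b from congr($hτ b)]
      simp [σ]
    rw [show a ⊗ₜ[A] b = a • ((1 : A ⧸ I) ⊗ₜ[A] b) by rw [smul_tmul', smul_eq_mul, mul_one],
      map_smul, map_smul]
    congr 1

end Groth.Agent.Hensel
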