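import Groth.Agent.Hensel.HenselizationProps
import Groth.Prelude.Def_PBC
import Mathlib.CategoryTheory.Limits.Constructions.Over.Connected
import Mathlib.Algebra.Category.Ring.FilteredColimits
import Mathlib.CategoryTheory.Limits.Types.Filtered

/-!
# `Henz R K` as a filtered colimit of étale algebras
-/

noncomputable section

namespace Groth.Agent.Hensel

universe u v

variable {R K : Type u} [CommRing R] [CommRing K] [Algebra R K]

namespace Nbhd

theorem trans_algebraMap {N M : Nbhd R K} (α : N.B →ₐ[R] M.B) (hα : M.toK.comp α = N.toK)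
    (h : N ≤ M) (b : N.B) :
    Nbhd.trans h (algebraMap N.B N.Stage b) = algebraMap M.B M.Stage (α b) := by
  let t : N.B →ₐ[R] M.Stage := (Nbhd.trans h).comp (IsScalarTower.toAlgHom R _ _)
  have : t = (IsScalarTower.toAlgHom R M.B M.Stage).comp α :=
    algHom_ext_of_isUnit M.ρ.toRingHom (fun _ ht => M.isUnit_of_isUnit_ρ (show IsUnit (M.ρ _) by
      rw [show M.ρ _ = 1 from ht]; exact isUnit_one)) _ _ fun b => by
        simp only [t, AlgHom.toRingHom_eq_coe, RingHom.coe_coe, AlgHom.comp_apply,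
          IsScalarTower.coe_toAlgHom', Nbhd.ρ_trans, Nbhd.ρ_algebraMap]
        exact congr($hα b).symm
  exact congr($this b)

/-- Two neighbourhoods have a common refinement. -/
theorem exists_hom₂ (N M : Nbhd R K) : ∃ (P : Nbhd R K) (α : N.B →ₐ[R] P.B) (β : M.B →ₐ[R] P.B),
    P.toK.comp α = N.toK ∧ P.toK.comp β = M.toK := by
  have : Algebra.Etale R (TensorProduct R N.B M.B) :=
    Algebra.Etale.comp R N.B (TensorProduct R N.B M.B)
  obtain ⟨P, e, he⟩ := exists_equiv (TensorProduct R N.B M.B)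
    (Algebra.TensorProduct.lift N.toK M.toK fun _ _ => .all _ _)
  refine ⟨P, e.symm.toAlgHom.comp Algebra.TensorProduct.includeLeft,
    e.symm.toAlgHom.comp Algebra.TensorProduct.includeRight, ?_, ?_⟩ <;>
  · ext b; simp [he]

/-- A neighbourhood in which a given admissible element becomes invertible. -/
theorem exists_away (N : Nbhd R K) (s : N.S) :
    ∃ (M : Nbhd R K) (α : N.B →ₐ[R] M.B), M.toK.comp α = N.toK ∧ IsUnit (α s) ∧
      Function.Injective fun f : M.B →ₐ[R] K => f.comp α := by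
  have : Algebra.Etale R (Localization.Away (s : N.B)) :=
    have : Algebra.Etale N.B (Localization.Away (s : N.B)) := inferInstance
    Algebra.Etale.comp R N.B _
  obtain ⟨M, e, he⟩ := exists_equiv (Localization.Away (s : N.B))
    (IsLocalization.Away.liftAlgHom (A := R) (s : N.B) (f := N.toK) s.2)
  refine ⟨M, e.symm.toAlgHom.comp (IsScalarTower.toAlgHom R N.B _), ?_, ?_, fun f g h => ?_⟩
  · ext b; simp [he]
  · exact (IsLocalization.Away.algebraMap_isUnit (S := Localization.Away (s : N.B)) (s : N.B)).map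
      e.symm.toAlgHom
  · have : f.comp e.symm.toAlgHom = g.comp e.symm.toAlgHom :=
      Localization.algHom_ext (Submonoid.powers (s : N.B)) (AlgHom.ext fun b => congr($h b))
    exact AlgHom.ext fun m => by simpa using congr($this (e m))

/-- Two maps of neighbourhoods are equalized by a further one. -/
theorem exists_equalizer {N M : Nbhd R K} (f g : N.B →ₐ[R] M.B) (hf : M.toK.comp f = N.toK)
    (hg : M.toK.comp g = N.toK) :
    ∃ (P : Nbhd R K) (γ : M.B →ₐ[R] P.B), P.toK.comp γ = M.toK ∧ γ.comp f = γ.comp g := by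
  let Φ : TensorProduct R N.B N.B →ₐ[R] M.B :=
    Algebra.TensorProduct.lift f g fun _ _ => .all _ _
  let e := Φ (Algebra.FormallyUnramified.elem R N.B)
  have he : M.toK e = 1 := by
    have : M.toK.comp Φ = N.toK.comp (Algebra.TensorProduct.lmul' R) := by
      ext b <;> simp [Φ, ← hf] <;> simpa using congr($(hg.trans hf.symm) b)
    show M.toK.comp Φ (Algebra.FormallyUnramified.elem R N.B) = 1
    rw [this, AlgHom.comp_apply, Algebra.FormallyUnramified.lmul_elem, map_one]
  obtain ⟨P, γ, hγ, hu, -⟩ := M.exists_away ⟨e, show IsUnit (M.toK e) by rw [he]; exact isUnit_one⟩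
  refine ⟨P, γ, hγ, AlgHom.ext fun b => ?_⟩
  have h0 := congr(γ (Φ $(Algebra.FormallyUnramified.one_tmul_sub_tmul_one_mul_elem (R := R) b)))
  simp only [map_mul, map_sub, Φ, Algebra.TensorProduct.lift_tmul, map_one, one_mul, mul_one,
    map_zero] at h0
  have := (IsUnit.mul_left_eq_zero hu).mp h0
  simp only [AlgHom.comp_apply]
  linear_combination -this

end Nbhd

namespace Henz

/-- The map from the étale algebra of a neighbourhood. -/
def ofB (N : Nbhd R K) : N.B →ₐ[R] Henz R K :=
  (of N).comp (IsScalarTower.toAlgHom R N.B N.Stage)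

@[simp] theorem proj_ofB (N : Nbhd R K) (b : N.B) : proj R K (ofB N b) = N.toK b := by
  simp [ofB]

theorem ofB_comp {N M : Nbhd R K} (α : N.B →ₐ[R] M.B) (hα : M.toK.comp α = N.toK) :
    (ofB M).comp α = ofB N := by
  ext b
  have h := Nbhd.le_of_algHom α hα
  show of M (algebraMap M.B M.Stage (α b)) = of N (algebraMap N.B N.Stage b)
  rw [← of_trans h, Nbhd.trans_algebraMap α hα h]

theorem isUnit_ofB {N : Nbhd R K} {b : N.B} (h : IsUnit (N.toK b)) : IsUnit (ofB N b) :=
  isUnit_iff.mpr (by rwa [proj_ofB])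

/-- Every element comes from an étale neighbourhood. -/
theorem exists_ofB (z : Henz R K) : ∃ N b, ofB N b = z := by
  obtain ⟨N, b, s, h⟩ := exists_fraction z
  obtain ⟨M, α, hα, ⟨u, hu⟩, -⟩ := N.exists_away s
  refine ⟨M, α b * ↑u⁻¹, ?_⟩
  have hs : IsUnit (ofB M (α s)) := (hu ▸ u.isUnit : IsUnit (α s)).map _
  refine hs.mul_left_injective ?_
  show ofB M (α b * ↑u⁻¹) * ofB M (α s) = z * ofB M (α s)
  rw [← map_mul, mul_assoc, ← hu, Units.inv_mul, mul_one, hu, ← AlgHom.comp_apply,
    ← AlgHom.comp_apply, ofB_comp α hα]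
  exact h.symm

/-- An element vanishing in the colimit vanishes in a further neighbourhood. -/
theorem exists_of_ofB_eq_zero {N : Nbhd R K} {b : N.B} (h : ofB N b = 0) :
    ∃ (M : Nbhd R K) (α : N.B →ₐ[R] M.B), M.toK.comp α = N.toK ∧ α b = 0 := by
  obtain ⟨M, hM, hM'⟩ := of_eq_of (N := N) (y := 0) (h.trans (map_zero _).symm)
  obtain ⟨P, α, β, hα, hβ⟩ := N.exists_hom₂ M
  have hP : M ≤ P := Nbhd.le_of_algHom β hβ
  have h1 := congr(Nbhd.trans hP $hM')
  have h2 : Nbhd.trans hP (Nbhd.trans hM (algebraMap N.B N.Stage b)) =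
      algebraMap P.B P.Stage (α b) := by
    rw [← Nbhd.trans_algebraMap α hα (hM.trans hP)]
    exact DirectedSystem.map_map (f := fun _ _ h => Nbhd.trans (R := R) (K := K) h) hM hP _
  rw [map_zero, map_zero] at h1
  erw [h2] at h1
  obtain ⟨s, hs⟩ := (IsLocalization.map_eq_zero_iff P.S P.Stage _).mp h1
  obtain ⟨Q, γ, hγ, hu, -⟩ := P.exists_away s
  refine ⟨Q, γ.comp α, by rw [← AlgHom.comp_assoc, hγ, hα], ?_⟩
  have := congr(γ $hs)
  rw [map_mul, map_zero] at this
  exact (IsUnit.mul_right_eq_zero hu).mp this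

theorem exists_of_ofB_eq {N : Nbhd R K} {b c : N.B} (h : ofB N b = ofB N c) :
    ∃ (M : Nbhd R K) (α : N.B →ₐ[R] M.B), M.toK.comp α = N.toK ∧ α b = α c := by
  obtain ⟨M, α, hα, h0⟩ := exists_of_ofB_eq_zero (b := b - c) (by rw [map_sub, h, sub_self])
  exact ⟨M, α, hα, sub_eq_zero.mp (by rw [← map_sub]; exact h0)⟩

/-- Reducedness passes to the colimit from the étale algebras. -/
theorem isReduced_of_forall (h : ∀ N : Nbhd R K, IsReduced N.B) : IsReduced (Henz R K) := by
  refine ⟨fun z ⟨n, hn⟩ => ?_⟩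
  obtain ⟨N, b, rfl⟩ := exists_ofB z
  rw [← map_pow] at hn
  obtain ⟨M, α, hα, h0⟩ := exists_of_ofB_eq_zero hn
  have := h M
  rw [← ofB_comp α hα, AlgHom.comp_apply,
    IsReduced.pow_eq_zero (show (α b) ^ n = 0 by rw [← map_pow]; exact h0), map_zero]

end Henz

section category

open CategoryTheory Limits

variable (R K)

/-- The category of étale neighbourhoods. -/
structure NbhdCat : Type u where
  /-- the neighbourhood -/
  N : Nbhd R K

instance : SmallCategory (NbhdCat R K) where
  Hom X Y := {α : X.N.B →ₐ[R] Y.N.B // Y.N.toK.comp α = X.N.toK}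
  id X := ⟨AlgHom.id R _, AlgHom.comp_id _⟩
  comp f g := ⟨g.1.comp f.1, by rw [← AlgHom.comp_assoc, g.2, f.2]⟩

instance : IsFiltered (NbhdCat R K) where
  cocone_objs X Y :=
    have ⟨P, α, β, hα, hβ⟩ := X.N.exists_hom₂ Y.N
    ⟨⟨P⟩, ⟨α, hα⟩, ⟨β, hβ⟩, trivial⟩
  cocone_maps X Y f g :=
    have ⟨P, γ, hγ, h⟩ := Nbhd.exists_equalizer f.1 g.1 f.2 g.2
    ⟨⟨P⟩, ⟨γ, hγ⟩, Subtype.ext h⟩
  nonempty := ⟨⟨Classical.arbitrary _⟩⟩

/-- The diagram of étale algebras. -/
def nbhdDiagram : NbhdCat R K ⥤ Under (CommRingCat.of R) where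
  obj X := Under.mk (CommRingCat.ofHom (algebraMap R X.N.B))
  map f := Under.homMk (CommRingCat.ofHom f.1.toRingHom) (by
    ext r; exact f.1.commutes r)

/-- The cocone to `Henz`. -/
def nbhdCocone : Cocone (nbhdDiagram R K) where
  pt := Under.mk (CommRingCat.ofHom (algebraMap R (Henz R K)))
  ι :=
    { app X := Under.homMk (CommRingCat.ofHom (Henz.ofB X.N).toRingHom) (by
        ext r; exact (Henz.ofB X.N).commutes r)
      naturality X Y f := by
        apply Under.UnderMorphism.ext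
        ext b
        exact congr($(Henz.ofB_comp f.1 f.2) b) }

/-- `Henz` is the colimit of its étale neighbourhoods. -/
def isColimitNbhdCocone : IsColimit (nbhdCocone R K) := by
  have : IsConnected (NbhdCat R K) := IsFiltered.isConnected _
  have : PreservesColimit (nbhdDiagram R K ⋙ Under.forget _) (forget CommRingCat.{u}) :=
    inferInstance
  have : ReflectsColimit (nbhdDiagram R K ⋙ Under.forget _) (forget CommRingCat.{u}) :=
    reflectsColimit_of_reflectsIsomorphisms _ _
  refine isColimitOfReflects (Under.forget _) (isColimitOfReflects (forget CommRingCat.{u}) ?_)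
  refine Types.FilteredColimit.isColimitOf' _ _ (fun z => ?_) fun X (x : X.N.B) (y : X.N.B) h => ?_
  · obtain ⟨N, b, hb⟩ := Henz.exists_ofB z
    exact ⟨⟨N⟩, b, hb.symm⟩
  · obtain ⟨M, α, hα, hxy⟩ := Henz.exists_of_ofB_eq (b := x) (c := y) h
    exact ⟨⟨M⟩, ⟨α, hα⟩, hxy⟩

theorem isIndEtale_henz : EtPBC.IsIndEtale R (Henz R K) := by
  refine ⟨NbhdCat R K, inferInstance, inferInstance, nbhdDiagram R K, nbhdCocone R K,
    isColimitNbhdCocone R K, fun X => ?_, ⟨Iso.refl _⟩⟩
  have : (nbhdDiagram R K).obj X = Under.mk (CommRingCat.ofHom (algebraMap R X.N.B)) := rfl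
  show letI := (algebraMap R X.N.B).toAlgebra; Algebra.Etale R X.N.B
  rw [toAlgebra_algebraMap]
  infer_instance

end category

theorem isIndEtale_of_algEquiv {A B B' : Type u} [CommRing A] [CommRing B] [CommRing B']
    [Algebra A B] [Algebra A B'] (h : EtPBC.IsIndEtale A B) (e : B ≃ₐ[A] B') :
    EtPBC.IsIndEtale A B' := by
  obtain ⟨J, _, _, D, c, hc, hD, ⟨i⟩⟩ := h
  refine ⟨J, inferInstance, inferInstance, D, c, hc, hD, ⟨i ≪≫ CategoryTheory.Under.isoMk
    e.toRingEquiv.toCommRingCatIso ?_⟩⟩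
  ext r
  exact e.commutes r

end Groth.Agent.Hensel
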