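import Groth.Agent.Alg6.LocLoc
import Groth.Agent.Alg6.AssDepth
import Mathlib.RingTheory.Depth.Rees
import Mathlib.RingTheory.Flat.FaithfullyFlat.Algebra
import Mathlib.RingTheory.KrullDimension.Module

/-!
# Depth under flat local extensions with trivial closed fibre
-/

namespace Groth.Agent.Hensel

universe u v

open IsLocalRing RingTheory.Sequence CategoryTheory Abelian TensorProduct

variable {R : Type u} [CommRing R] [IsLocalRing R] [IsNoetherianRing R]

theorem depth_congr {M N : Type u} [AddCommGroup M] [Module R M] [AddCommGroup N] [Module R N]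
    (e : M ≃ₗ[R] N) : LocCoh.depth R M = LocCoh.depth R N :=
  Groth.Agent.Alg6.depth_eq_of_semilinear (RingHom.id R) Function.surjective_id e.toAddEquiv
    fun r x => e.map_smul r x

theorem succ_le_depth_iff {M : Type u} [AddCommGroup M] [Module R M] [Module.Finite R M] {x : R}
    (hx : x ∈ maximalIdeal R) (hreg : IsSMulRegular M x) (n : ℕ) :
    ((n + 1 : ℕ) : ℕ∞) ≤ LocCoh.depth R M ↔ (n : ℕ∞) ≤ LocCoh.depth R (QuotSMulTop x M) := by
  rcases subsingleton_or_nontrivial M with hM | hM
  · have top : ∀ (N : Type u) [AddCommGroup N] [Module R N] [Subsingleton N],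
        LocCoh.depth R N = ⊤ := fun N _ _ _ => if_pos (Subsingleton.elim _ _)
    have : Subsingleton (QuotSMulTop x M) := (Submodule.mkQ_surjective _).subsingleton
    simp [top]
  have hne := Groth.Agent.Alg6.maximal_smul_top_ne_top (R := R) (M := M)
  have : Nontrivial (QuotSMulTop x M) := by
    refine Submodule.Quotient.nontrivial_iff.mpr fun h => hne (top_le_iff.mp (h.ge.trans ?_))
    rw [← Submodule.ideal_span_singleton_smul]
    exact Submodule.smul_mono_left (by simpa [Ideal.span_le] using hx)
  have hne' := Groth.Agent.Alg6.maximal_smul_top_ne_top (R := R) (M := QuotSMulTop x M)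
  constructor
  · intro h
    obtain ⟨rs, hrs, hmem, hlen⟩ := Groth.Agent.Alg6.exists_length_ge_of_le_idealDepth hne h
    have hrs' : IsWeaklyRegular M (rs.take (n + 1)) := by
      rw [← List.take_append_drop (n + 1) rs] at hrs
      exact ((isWeaklyRegular_append_iff M _ _).mp hrs).1
    have hmem' : ∀ r ∈ rs.take (n + 1), r ∈ maximalIdeal R := fun r hr =>
      hmem r (List.mem_of_mem_take hr)
    have hreg' : IsRegular M (rs.take (n + 1)) := ⟨hrs', fun h' => hne (top_le_iff.mp
      (h'.le.trans (Submodule.smul_mono_left (Ideal.span_le.mpr hmem'))))⟩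
    have h30 := (ModuleCat.exists_isRegular_tfae (maximalIdeal R) (n + 1) (ModuleCat.of R M)
      hne.lt_top).out 3 0
    have hext : ∀ N : ModuleCat.{u} R, Nontrivial N → Module.Finite R N →
        Module.support R N ⊆ PrimeSpectrum.zeroLocus (maximalIdeal R : Set R) →
        ∀ i < n + 1, Subsingleton (Ext N (ModuleCat.of R M) i) :=
      h30.mp ⟨rs.take (n + 1), by rw [List.length_take]; omega, hmem', hreg'⟩
    have := ((ModuleCat.exists_isRegular_tfae (maximalIdeal R) n
      (ModuleCat.of R (QuotSMulTop x M)) hne'.lt_top).out 0 3).mp (fun N hN hN' hN'' i hi => by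
        have zero1 := AddCommGrpCat.isZero_of_iff_subsingleton.mpr (hext N hN hN' hN'' i (by omega))
        have zero2 := AddCommGrpCat.isZero_of_iff_subsingleton.mpr
          (hext N hN hN' hN'' (i + 1) (by omega))
        exact AddCommGrpCat.subsingleton_of_isZero <| ShortComplex.Exact.isZero_of_both_zeros
          ((Ext.covariant_sequence_exact₃' N
            (IsSMulRegular.smulShortComplex_shortExact (M := ModuleCat.of R M) hreg))
            i (i + 1) rfl) (zero1.eq_zero_of_src _) (zero2.eq_zero_of_tgt _))
    obtain ⟨ss, rfl, hss, hss'⟩ := this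
    exact Groth.Agent.Alg6.length_le_idealDepth hss'.toIsWeaklyRegular hss
  · intro h
    obtain ⟨rs, hrs, hmem, hlen⟩ := Groth.Agent.Alg6.exists_length_ge_of_le_idealDepth hne' h
    refine le_trans ?_ (Groth.Agent.Alg6.length_le_idealDepth (I := maximalIdeal R)
      (IsWeaklyRegular.cons hreg hrs) (fun r hr => ?_))
    · simpa using hlen
    · rcases List.mem_cons.mp hr with rfl | hr
      exacts [hx, hmem r hr]

theorem depth_tensorProduct_eq (S : Type u) [CommRing S] [IsLocalRing S] [IsNoetherianRing S]
    [Algebra R S] [IsLocalHom (algebraMap R S)] [Module.Flat R S]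
    (hm : (maximalIdeal R).map (algebraMap R S) = maximalIdeal S)
    (M : Type u) [AddCommGroup M] [Module R M] [Module.Finite R M] :
    LocCoh.depth S (S ⊗[R] M) = LocCoh.depth R M := by
  have : Module.FaithfullyFlat R S := Module.FaithfullyFlat.of_flat_of_isLocalHom
  refine ENat.eq_of_forall_natCast_le_iff fun n => ?_
  induction n generalizing M with
  | zero => simp
  | succ n ih =>
    by_cases hass : maximalIdeal R ∈ associatedPrimes R M
    · have hassS : maximalIdeal S ∈ associatedPrimes S (S ⊗[R] M) := by
        obtain ⟨-, z, hz⟩ := Groth.Agent.Alg6.mem_ass_iff.mp hass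
        have hz0 : z ≠ 0 := fun h => (maximalIdeal.isMaximal R).ne_top
          ((Ideal.eq_top_iff_one _).mpr ((hz 1).mpr (by simp [h])))
        refine Groth.Agent.Alg6.mem_ass_iff.mpr ⟨inferInstance, (1 : S) ⊗ₜ[R] z, fun a => ⟨fun ha => ?_,
          fun ha => ?_⟩⟩
        · rw [← hm] at ha
          induction ha using Submodule.span_induction with
          | mem a ha =>
            obtain ⟨r, hr, rfl⟩ := ha
            rw [TensorProduct.smul_tmul', smul_eq_mul, mul_one, Algebra.algebraMap_eq_smul_one,
              TensorProduct.smul_tmul, (hz r).mp hr, TensorProduct.tmul_zero]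
          | zero => simp
          | add a b _ _ ha hb => rw [add_smul, ha, hb, add_zero]
          | smul c a _ ha => rw [smul_eq_mul, mul_smul, ha, smul_zero]
        · by_contra hu
          exact hz0 ((Module.FaithfullyFlat.one_tmul_eq_zero_iff R M (A := S) z).mp
            ((show IsUnit a from not_not.mp hu).smul_eq_zero.mp ha))
      have h1 : ¬ ((n + 1 : ℕ) : ℕ∞) ≤ LocCoh.depth R M := fun h =>
        Groth.Agent.Alg6.one_le_depth_iff.mp (le_trans (by simp) h) hass
      have h2 : ¬ ((n + 1 : ℕ) : ℕ∞) ≤ LocCoh.depth S (S ⊗[R] M) := fun h =>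
        Groth.Agent.Alg6.one_le_depth_iff.mp (le_trans (by simp) h) hassS
      simp only [h1, h2]
    · obtain ⟨x, hx, hreg⟩ := (Groth.Agent.Alg6.exists_isSMulRegular_mem_iff (M := M) (maximalIdeal R)).mpr
        (fun p hp hle => hass (by
          rwa [(maximalIdeal.isMaximal R).eq_of_le (IsAssociatedPrime.isPrime hp).ne_top hle]))
      have hregS : IsSMulRegular (S ⊗[R] M) (algebraMap R S x) := by
        intro a b hab
        refine Module.Flat.lTensor_preserves_injective_linearMap (M := S) (LinearMap.lsmul R M x) hreg ?_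
        have e : (LinearMap.lsmul R M x).lTensor S = LinearMap.lsmul R (S ⊗[R] M) x :=
          TensorProduct.ext' fun s m => by simp [TensorProduct.smul_tmul']
        simpa [e, algebraMap_smul] using hab
      rw [succ_le_depth_iff (R := S) (map_nonunit (algebraMap R S) x hx) hregS,
        succ_le_depth_iff hx hreg, depth_congr (QuotSMulTop.algebraMapTensorEquivTensorQuotSMulTop x M S)]
      exact ih _

theorem depth_eq_of_flat_of_map_maximalIdeal_eq (S : Type u) [CommRing S] [IsLocalRing S]
    [IsNoetherianRing S] [Algebra R S] [IsLocalHom (algebraMap R S)] [Module.Flat R S]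
    (hm : (maximalIdeal R).map (algebraMap R S) = maximalIdeal S) :
    LocCoh.depth S S = LocCoh.depth R R := by
  rw [← depth_tensorProduct_eq S hm R]
  exact depth_congr (AlgebraTensorModule.rid R S S).symm

theorem isCohenMacaulayLocalRing_iff (S : Type u) [CommRing S] [IsLocalRing S]
    [IsNoetherianRing S] [Algebra R S] [IsLocalHom (algebraMap R S)] [Module.Flat R S]
    (hm : (maximalIdeal R).map (algebraMap R S) = maximalIdeal S)
    (hdim : ringKrullDim S = ringKrullDim R) :
    LocCoh.IsCohenMacaulayLocalRing S ↔ LocCoh.IsCohenMacaulayLocalRing R := by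
  have key : ∀ (A : Type u) [CommRing A] [IsLocalRing A] [IsNoetherianRing A],
      LocCoh.IsCohenMacaulayLocalRing A ↔
        ringKrullDim A = ((LocCoh.depth A A : ℕ∞) : WithBot ℕ∞) :=
    fun A _ _ _ => ⟨fun h => (Module.supportDim_self_eq_ringKrullDim (R := A)).symm.trans h.supportDim_eq_depth,
      fun h => { supportDim_eq_depth := (Module.supportDim_self_eq_ringKrullDim (R := A)).trans h }⟩
  rw [key, key, hdim, depth_eq_of_flat_of_map_maximalIdeal_eq S hm]

end Groth.Agent.Hensel
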