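import Groth.Agent.Hensel.TensorReduced
import Mathlib.RingTheory.Smooth.IntegralClosure
import Mathlib.RingTheory.IntegralClosure.IntegrallyClosed
import Mathlib.RingTheory.LocalRing.Basic

/-!
# Normality of henselizations
-/

noncomputable section

namespace Groth.Agent.Hensel

universe u v

open IsLocalRing TensorProduct

section descent

/-- Normality descends along faithfully flat maps. -/
theorem isIntegrallyClosed_of_faithfullyFlat (R S : Type u) [CommRing R] [CommRing S] [Algebra R S]
    [Module.FaithfullyFlat R S] [IsDomain S] [IsIntegrallyClosed S] :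
    IsDomain R ∧ IsIntegrallyClosed R := by
  have hinj := FaithfulSMul.algebraMap_injective R S
  have hdom : IsDomain R := hinj.isDomain _
  refine ⟨hdom, (isIntegrallyClosed_iff (FractionRing R)).mpr fun {x} hx => ?_⟩
  let j : FractionRing R →+* FractionRing S :=
    IsFractionRing.lift (A := R) (g := (algebraMap S (FractionRing S)).comp (algebraMap R S))
      ((IsFractionRing.injective S (FractionRing S)).comp hinj)
  have hj : ∀ r, j (algebraMap R _ r) = algebraMap S _ (algebraMap R S r) := fun r =>
    IsFractionRing.lift_algebraMap _ r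
  obtain ⟨a, b, hb, rfl⟩ := IsFractionRing.div_surjective (A := R) x
  have hint : IsIntegral S (j (algebraMap R _ a / algebraMap R _ b)) := by
    obtain ⟨p, hp, hpx⟩ := hx
    refine ⟨p.map (algebraMap R S), hp.map _, ?_⟩
    rw [Polynomial.eval₂_map, show (algebraMap S (FractionRing S)).comp (algebraMap R S) =
      j.comp (algebraMap R (FractionRing R)) from RingHom.ext fun r => (hj r).symm,
      ← Polynomial.hom_eval₂, hpx, map_zero]
  obtain ⟨c, hc⟩ := IsIntegrallyClosed.isIntegral_iff.mp hint
  have hb0 : b ≠ 0 := nonZeroDivisors.ne_zero hb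
  have hb' : algebraMap R (FractionRing R) b ≠ 0 := IsFractionRing.to_map_ne_zero_of_mem_nonZeroDivisors hb
  have h1 : algebraMap R S a = c * algebraMap R S b := by
    apply IsFractionRing.injective S (FractionRing S)
    rw [map_mul, hc, ← hj, ← hj, ← map_mul, div_mul_cancel₀ _ hb']
  have h2 : a ∈ Ideal.span {b} := by
    rw [← Ideal.comap_map_eq_self_of_faithfullyFlat (B := S) (Ideal.span {b}), Ideal.mem_comap,
      Ideal.map_span, Set.image_singleton, Ideal.mem_span_singleton']
    exact ⟨c, h1.symm⟩
  obtain ⟨d, rfl⟩ := Ideal.mem_span_singleton'.mp h2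
  exact ⟨d, by rw [map_mul, mul_div_assoc, div_self hb', mul_one]⟩

end descent

section henz

variable {R : Type u} [CommRing R] {L : Type u} [Field L] [Algebra R L]

theorem exists_algebraMap_eq_of_isIntegral_stage [IsDomain R] [IsIntegrallyClosed R] (N : Nbhd R L)
    (y : N.Stage ⊗[R] FractionRing R) (hy : IsIntegral N.Stage y) :
    ∃ s : N.Stage, y = s ⊗ₜ[R] 1 := by
  have hbij : Function.Bijective
      (TensorProduct.toIntegralClosure R N.Stage (FractionRing R)) :=
    TensorProduct.toIntegralClosure_bijective_of_tower (S := N.B)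
      TensorProduct.toIntegralClosure_bijective_of_smooth
      (TensorProduct.toIntegralClosure_bijective_of_isLocalization N.S)
  obtain ⟨w, hw⟩ := hbij.2 ⟨y, hy⟩
  replace hw : Algebra.TensorProduct.map (AlgHom.id N.Stage N.Stage)
      (integralClosure R (FractionRing R)).val w = y := congrArg Subtype.val hw
  rw [← hw]
  clear hw
  induction w with
  | zero => exact ⟨0, by simp⟩
  | tmul s k =>
    obtain ⟨a, ha⟩ := IsIntegrallyClosed.isIntegral_iff.mp k.2
    refine ⟨a • s, ?_⟩
    rw [Algebra.TensorProduct.map_tmul, AlgHom.id_apply, Subalgebra.coe_val, ← ha,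
      Algebra.algebraMap_eq_smul_one, TensorProduct.smul_tmul]
  | add u v hu hv =>
    obtain ⟨s, hs⟩ := hu
    obtain ⟨t, ht⟩ := hv
    exact ⟨s + t, by rw [map_add, hs, ht, add_tmul]⟩

/-- `Henz` is integrally closed in its base change to the fraction field. -/
theorem exists_eq_tmul_one_of_isIntegral [IsDomain R] [IsIntegrallyClosed R]
    (z : Henz R L ⊗[R] FractionRing R) (hz : IsIntegral (Henz R L) z) :
    ∃ h : Henz R L, z = h ⊗ₜ[R] 1 := by
  classical
  obtain ⟨p, hp, hpz⟩ := hz
  obtain ⟨N, y, rfl⟩ := exists_map_of_eq (FractionRing R) z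
  obtain ⟨M, q, hq⟩ := Henz.exists_of_polynomial p
  obtain ⟨P, hNP, hMP⟩ := exists_ge_ge N M
  let y' := Algebra.TensorProduct.map (Nbhd.trans hNP) (AlgHom.id R (FractionRing R)) y
  have hy' : Algebra.TensorProduct.map (Henz.of P) (AlgHom.id R (FractionRing R)) y' =
      Algebra.TensorProduct.map (Henz.of N) (AlgHom.id R (FractionRing R)) y := by
    simp only [y']
    clear y' hpz
    induction y with
    | zero => simp
    | tmul a t => simp [Henz.of_trans]
    | add a b ha hb => simp [ha, hb]
  have hl : p ∈ Polynomial.lifts (Henz.of P).toRingHom := (Polynomial.mem_lifts p).mpr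
    ⟨q.map (Nbhd.trans hMP).toRingHom, by
      rw [Polynomial.map_map, ← hq]
      congr 1
      exact RingHom.ext fun a => Henz.of_trans hMP a⟩
  obtain ⟨q', hq', -, hq'm⟩ := Polynomial.lifts_and_natDegree_eq_and_monic hl hp
  have hint : IsIntegral P.Stage y' := by
    refine ⟨q', hq'm, injective_map_of (FractionRing R) P ?_⟩
    rw [map_zero]
    refine Eq.trans ?_ hpz
    rw [← hq', Polynomial.eval₂_map, ← hy']
    show (Algebra.TensorProduct.map (Henz.of P) (AlgHom.id R (FractionRing R))).toRingHom _ = _
    rw [Polynomial.hom_eval₂]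
    congr 1
  obtain ⟨s, hs⟩ := exists_algebraMap_eq_of_isIntegral_stage P y' hint
  exact ⟨Henz.of P s, by rw [← hy', hs]; simp⟩

theorem exists_mul_mul_eq (x : Henz R L ⊗[R] FractionRing R) [IsDomain R] :
    ∃ y, x * x * y = x := by
  classical
  obtain ⟨N, w, rfl⟩ := exists_map_of_eq (FractionRing R) x
  have : Algebra.EssFiniteType R N.Stage :=
    have : Algebra.EssFiniteType N.B N.Stage := .of_isLocalization _ N.S
    Algebra.EssFiniteType.comp R N.B N.Stage
  have : Algebra.FormallyUnramified R N.Stage :=
    have : Algebra.FormallyUnramified N.B N.Stage := .of_isLocalization N.S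
    Algebra.FormallyUnramified.comp R N.B N.Stage
  let D := FractionRing R ⊗[R] N.Stage
  have := Algebra.FormallyUnramified.finite_of_free (FractionRing R) D
  have : IsArtinianRing D := IsArtinianRing.of_finite (FractionRing R) _
  have : IsReduced D := Algebra.FormallyUnramified.isReduced_of_field (FractionRing R) D
  let c := Algebra.TensorProduct.comm R N.Stage (FractionRing R)
  let e := IsArtinianRing.equivPi D
  let : ∀ I : MaximalSpectrum D, Field (D ⧸ I.asIdeal) := fun I => Ideal.Quotient.field _
  refine ⟨Algebra.TensorProduct.map (Henz.of N) (AlgHom.id R (FractionRing R))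
    (c.symm (e.symm fun I => (e (c w) I)⁻¹)), ?_⟩
  rw [← map_mul, ← map_mul]
  congr 1
  apply c.injective
  apply e.injective
  ext I
  simp only [map_mul, AlgEquiv.apply_symm_apply, Pi.mul_apply]
  rcases eq_or_ne (e (c w) I) 0 with h | h <;> simp [h]

theorem isDomain_isIntegrallyClosed_henz [IsDomain R] [IsIntegrallyClosed R]
    [IsLocalRing (Henz R L)] : IsDomain (Henz R L) ∧ IsIntegrallyClosed (Henz R L) := by
  let Q := Henz R L ⊗[R] FractionRing R
  let i : Henz R L →ₐ[Henz R L] Q := Algebra.TensorProduct.includeLeft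
  have hinj : Function.Injective i :=
    Algebra.TensorProduct.includeLeft_injective (S := Henz R L)
      (IsFractionRing.injective R (FractionRing R))
  have hnt : Nontrivial Q := hinj.nontrivial
  have hfield : IsField Q := by
    refine ⟨exists_pair_ne _, mul_comm, fun {x} hx => ?_⟩
    obtain ⟨y, hy⟩ := exists_mul_mul_eq x
    have he : IsIdempotentElem (x * y) := by
      rw [IsIdempotentElem]; linear_combination y * hy
    obtain ⟨h, hh⟩ := exists_eq_tmul_one_of_isIntegral (x * y) ⟨Polynomial.X ^ 2 - Polynomial.X,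
      Polynomial.monic_X_pow_sub (by simp), by
        simp [sq, he.eq]⟩
    have hh' : x * y = i h := hh
    have : IsIdempotentElem h := hinj (by rw [map_mul, ← hh']; exact he)
    have h01 : h = 0 ∨ h = 1 := by
      rcases IsLocalRing.isUnit_or_isUnit_one_sub_self h with hu | hu
      · exact Or.inr (hu.mul_left_cancel (this.eq.trans (mul_one h).symm))
      · exact Or.inl (hu.mul_left_eq_zero.mp (by rw [mul_sub, mul_one, this.eq, sub_self]))
    rcases h01 with rfl | rfl
    · exact absurd (by rw [← hy, mul_assoc, hh', map_zero, mul_zero]) hx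
    · exact ⟨y, by rw [hh', map_one]⟩
  let := hfield.toField
  have hdom : IsDomain (Henz R L) := hinj.isDomain _
  refine ⟨hdom, (isIntegrallyClosed_iff (FractionRing (Henz R L))).mpr fun {x} hx => ?_⟩
  let j : FractionRing (Henz R L) →ₐ[Henz R L] Q :=
    IsFractionRing.liftAlgHom (g := Algebra.ofId (Henz R L) Q) hinj
  obtain ⟨h, hh⟩ := exists_eq_tmul_one_of_isIntegral (j x) (hx.map j)
  exact ⟨h, j.toRingHom.injective (by
    show j (algebraMap _ _ h) = j x
    rw [j.commutes, hh]; rfl)⟩

end henz

theorem IsHenzLike.normal_iff {R S : Type u} [CommRing R] [IsLocalRing R] [CommRing S]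
    [IsLocalRing S] [Algebra R S] [IsLocalHom (algebraMap R S)] (h : IsHenzLike R S) :
    (IsDomain R ∧ IsIntegrallyClosed R) ↔ (IsDomain S ∧ IsIntegrallyClosed S) := by
  have := h.faithfullyFlat
  refine ⟨fun ⟨_, _⟩ => ?_, fun ⟨_, _⟩ => isIntegrallyClosed_of_faithfullyFlat R S⟩
  obtain ⟨L, _, _, _, _, ⟨e⟩⟩ := h
  obtain ⟨h1, h2⟩ := isDomain_isIntegrallyClosed_henz (R := R) (L := L)
  exact ⟨e.toRingEquiv.symm.toMulEquiv.isDomain _, IsIntegrallyClosed.of_equiv e.toRingEquiv⟩

end Groth.Agent.Hensel
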