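import Groth.Agent.Hensel.Pair

/-!
# Henselian pairs: factorizations and idempotents
-/

namespace Groth.Agent.Hensel

open Polynomial

universe u v

variable {A : Type u} [CommRing A] {I : Ideal A}

/-- Coprime monic factorizations lift over a henselian pair. -/
theorem exists_factor_lift (I : Ideal A) [HenselianRing A I] {f : A[X]} (hf : f.Monic)
    {g₀ h₀ : (A ⧸ I)[X]} (hg₀ : g₀.Monic) (hh₀ : h₀.Monic) (hc : IsCoprime g₀ h₀)
    (he : f.map (Ideal.Quotient.mk I) = g₀ * h₀) :
    ∃ g h : A[X], g.Monic ∧ h.Monic ∧ IsCoprime g h ∧ f = g * h ∧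
      g.map (Ideal.Quotient.mk I) = g₀ ∧ h.map (Ideal.Quotient.mk I) = h₀ := by
  rcases subsingleton_or_nontrivial (A ⧸ I) with hs | hs
  · refine ⟨1, f, monic_one, hf, isCoprime_one_left, (one_mul f).symm, Subsingleton.elim _ _,
      Subsingleton.elim _ _⟩
  have hn : f.natDegree = g₀.natDegree + h₀.natDegree := by
    rw [← hf.natDegree_map (Ideal.Quotient.mk I), he, hg₀.natDegree_mul hh₀]
  let P : MonicDegreeEq A f.natDegree := .mk f hf rfl
  let σ := (UniversalCoprimeFactorizationRing.homEquiv (A ⧸ I) g₀.natDegree h₀.natDegree hn P).symm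
    ⟨(.mk g₀ hg₀ rfl, .mk h₀ hh₀ rfl), he.symm, hc⟩
  obtain ⟨τ, hτ⟩ := exists_etale_lift I σ
  set q := UniversalCoprimeFactorizationRing.homEquiv A g₀.natDegree h₀.natDegree hn P τ with hq
  have h1 := UniversalCoprimeFactorizationRing.homEquiv_comp_fst A g₀.natDegree h₀.natDegree hn P τ
    (Ideal.Quotient.mkₐ A I)
  have h2 := UniversalCoprimeFactorizationRing.homEquiv_comp_snd A g₀.natDegree h₀.natDegree hn P τ
    (Ideal.Quotient.mkₐ A I)
  rw [hτ, Equiv.apply_symm_apply] at h1 h2
  refine ⟨q.1.1.1, q.1.2.1, q.1.1.monic, q.1.2.monic, q.2.2, ?_, congr(($h1).1).symm,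
    congr(($h2).1).symm⟩
  rw [q.2.1]; simp [P]

theorem map_le_jacobson_of_isIntegral {B : Type v} [CommRing B] [Algebra A B]
    [Algebra.IsIntegral A B] (hI : I ≤ Ideal.jacobson ⊥) :
    I.map (algebraMap A B) ≤ Ideal.jacobson ⊥ := by
  rw [Ideal.map_le_iff_le_comap]
  intro a ha
  simp only [Ideal.mem_comap, Ideal.jacobson, Ideal.mem_sInf, Set.mem_setOf_eq]
  intro m hm
  have : m.IsMaximal := hm.2
  have := Ideal.isMaximal_comap_of_isIntegral_of_isMaximal (R := A) m
  have ha' := Ideal.mem_sInf.mp (hI ha) (I := m.comap (algebraMap A B)) ⟨bot_le, this⟩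
  exact ha'

/-- Idempotents agreeing modulo an ideal in the Jacobson radical are equal. -/
theorem eq_of_isIdempotentElem_of_sub_mem {B : Type v} [CommRing B] {J : Ideal B}
    (hJ : J ≤ Ideal.jacobson ⊥) {e e' : B} (he : IsIdempotentElem e) (he' : IsIdempotentElem e')
    (h : e - e' ∈ J) : e = e' := by
  have h3 : (e - e') * ((e - e') * (e - e') - 1) = 0 := by
    linear_combination (e + 1 - 3 * e') * he.eq + (3 * e - e' - 1) * he'.eq
  have hu : IsUnit ((e - e') * (e - e') - 1) := by
    have := Ideal.mem_jacobson_bot.mp (hJ h) (e' - e)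
    convert this.neg using 1
    ring
  exact sub_eq_zero.mp (hu.mul_left_eq_zero.mp h3)

theorem exists_idempotent_lift_of_finite (I : Ideal A) [HenselianRing A I] {B : Type v}
    [CommRing B] [Algebra A B] [Module.Finite A B] (b : B)
    (hb : b * b - b ∈ I.map (algebraMap A B)) :
    ∃ e : B, IsIdempotentElem e ∧ e - b ∈ I.map (algebraMap A B) := by
  have hrange : LinearMap.range (Algebra.lmul A B (b * b - b)) ≤ I • (⊤ : Submodule A B) := by
    rintro _ ⟨x, rfl⟩
    rw [Ideal.smul_top_eq_map]
    exact Ideal.mul_mem_right x _ hb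
  obtain ⟨p, hp, -, hpI, hp0⟩ :=
    LinearMap.exists_monic_and_natDegree_eq_and_coeff_mem_pow_and_aeval_eq_zero A _ I hrange
  have hpb : aeval (b * b - b) p = 0 := by
    rw [Polynomial.aeval_algHom_apply] at hp0
    simpa using LinearMap.congr_fun hp0 1
  rcases subsingleton_or_nontrivial (A ⧸ I) with hs | hs
  · have hI : I = ⊤ := Ideal.Quotient.subsingleton_iff.mp hs
    refine ⟨0, IsIdempotentElem.zero, ?_⟩
    rw [hI, Ideal.map_top]; trivial
  set d := p.natDegree
  have hpmap : p.map (Ideal.Quotient.mk I) = X ^ d := by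
    ext k
    rw [coeff_map, coeff_X_pow]
    rcases lt_trichotomy k d with hk | rfl | hk
    · rw [if_neg hk.ne, Ideal.Quotient.eq_zero_iff_mem]
      exact Ideal.pow_le_self (Nat.sub_pos_of_lt hk).ne' (hpI k)
    · rw [if_pos rfl, hp.coeff_natDegree, map_one]
    · rw [if_neg hk.ne', coeff_eq_zero_of_natDegree_lt hk, map_zero]
  let f : A[X] := p.comp (X * X - X)
  have hdeg : (X * X - X : A[X]).natDegree ≠ 0 ∧ (X * X - X : A[X]).Monic := by
    have hm : (X * X - X : A[X]).Monic := by
      rw [← sq]; exact monic_X_pow_sub ((degree_X_le (R := A)).trans_lt (by norm_num))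
    refine ⟨?_, hm⟩
    have : Nontrivial A := (Ideal.Quotient.mk I).domain_nontrivial
    rw [← sq, natDegree_sub_eq_left_of_natDegree_lt] <;> simp
  have hf : f.Monic := hp.comp hdeg.2 hdeg.1
  have hfmap : f.map (Ideal.Quotient.mk I) = X ^ d * (X - 1) ^ d := by
    rw [Polynomial.map_comp, hpmap, ← mul_pow]
    simp [mul_sub]
  have hm1 : ((X - 1 : (A ⧸ I)[X]) ^ d).Monic := by simpa using (monic_X_sub_C (1 : A ⧸ I)).pow d
  obtain ⟨g, h, -, -, ⟨c, c', hcc⟩, hgh, hgmap, hhmap⟩ :=
    exists_factor_lift I hf (monic_X_pow d) hm1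
      (IsCoprime.pow (show IsCoprime (X : (A ⧸ I)[X]) (X - 1) from ⟨1, -1, by ring⟩)) hfmap
  have hfb : aeval b g * aeval b h = 0 := by
    rw [← map_mul, ← hgh, aeval_comp]; simpa using hpb
  let e : B := aeval b (c * g)
  have hsum : e + aeval b (c' * h) = 1 := by rw [← map_add, hcc, map_one]
  have he : IsIdempotentElem e := by
    show e * e = e
    have : e * aeval b (c' * h) = 0 := by
      simp only [e, map_mul]; linear_combination (aeval b c * aeval b c') * hfb
    linear_combination e * hsum - this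
  refine ⟨e, he, ?_⟩
  let π := Ideal.Quotient.mk (I.map (algebraMap A B))
  let φ : A ⧸ I →+* B ⧸ I.map (algebraMap A B) :=
    Ideal.quotientMap _ (algebraMap A B) Ideal.le_comap_map
  have hev : ∀ q : A[X], π (aeval b q) = (q.map (Ideal.Quotient.mk I)).eval₂ φ (π b) := by
    intro q
    rw [eval₂_map, aeval_def, hom_eval₂]
    rfl
  have hidem : π b * π b = π b := by rw [← map_mul]; exact Ideal.Quotient.eq.mpr hb
  rw [← Ideal.Quotient.eq]
  show π e = π b
  have h1 := congr(π $hsum)
  rw [map_add, map_one, hev, hev, Polynomial.map_mul, Polynomial.map_mul, hgmap, hhmap] at h1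
  rw [hev, Polynomial.map_mul, hgmap]
  simp only [eval₂_mul, eval₂_pow, eval₂_X, eval₂_sub, eval₂_one] at h1 ⊢
  rcases Nat.eq_zero_or_pos d with hd | hd
  · have h0 : (1 : B) = 0 := by
      rw [eq_one_of_monic_natDegree_zero hp hd] at hpb; simpa using hpb
    have : Subsingleton B := subsingleton_of_zero_eq_one h0.symm
    exact Subsingleton.elim _ _
  have hpow : π b ^ d = π b := IsIdempotentElem.pow_eq hidem hd.ne'
  have hker : π b * (π b - 1) ^ d = 0 := by
    obtain ⟨k, hk⟩ := Nat.exists_eq_succ_of_ne_zero hd.ne'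
    rw [hk]
    rw [pow_succ', ← mul_assoc, mul_sub, hidem, mul_one, sub_self, zero_mul]
  linear_combination π b * h1
    + eval₂ φ (π b) (c.map (Ideal.Quotient.mk I)) * (1 - π b) * hpow
    - eval₂ φ (π b) (c'.map (Ideal.Quotient.mk I)) * hker
    - eval₂ φ (π b) (c.map (Ideal.Quotient.mk I)) * hidem

theorem exists_idempotent_lift_of_isIntegral (I : Ideal A) [HenselianRing A I] {B : Type v}
    [CommRing B] [Algebra A B] [Algebra.IsIntegral A B] (b : B)
    (hb : b * b - b ∈ I.map (algebraMap A B)) :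
    ∃ e : B, IsIdempotentElem e ∧ e - b ∈ I.map (algebraMap A B) := by
  classical
  have hb' : b * b - b ∈ Ideal.span (algebraMap A B '' I) := hb
  obtain ⟨n, r, x, hx⟩ := (Submodule.mem_span_set'.mp hb')
  let S : Subalgebra A B := Algebra.adjoin A (insert b (Set.range r))
  have : Module.Finite A S := ⟨(Submodule.fg_top _).mpr (fg_adjoin_of_finite
    ((Set.finite_range r).insert b) fun _ _ => Algebra.IsIntegral.isIntegral _)⟩
  let b' : S := ⟨b, Algebra.subset_adjoin (Set.mem_insert _ _)⟩
  have hb2 : b' * b' - b' ∈ I.map (algebraMap A S) := by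
    choose i hi hxi using fun j => (x j).2
    have : b' * b' - b' = ∑ j, (⟨r j, Algebra.subset_adjoin (Set.mem_insert_of_mem _ ⟨j, rfl⟩)⟩ : S)
        * algebraMap A S (i j) := by
      apply Subtype.ext
      simp [b', ← hx, hxi]
    rw [this]
    exact sum_mem fun j _ => Ideal.mul_mem_left _ _ (Ideal.mem_map_of_mem _ (hi j))
  obtain ⟨e, he, heb⟩ := exists_idempotent_lift_of_finite I b' hb2
  refine ⟨e, he.map S.val, ?_⟩
  have := Ideal.mem_map_of_mem S.val heb
  rw [map_sub] at this
  rwa [show (I.map (algebraMap A S)).map S.val = I.map (algebraMap A B) from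
    (Ideal.map_map (algebraMap A S) S.val.toRingHom).trans (congrArg (Ideal.map · I) S.val.comp_algebraMap)] at this

theorem bijOn_idempotents_of_isIntegral (I : Ideal A) [HenselianRing A I] (B : Type v)
    [CommRing B] [Algebra A B] [Algebra.IsIntegral A B] :
    Set.BijOn (Ideal.Quotient.mk (I.map (algebraMap A B)))
      {e : B | IsIdempotentElem e} {e | IsIdempotentElem e} := by
  refine ⟨fun e he => IsIdempotentElem.map he _, fun e he e' he' h =>
    eq_of_isIdempotentElem_of_sub_mem (map_le_jacobson_of_isIntegral HenselianRing.jac) he he'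
      (Ideal.Quotient.eq.mp h), ?_⟩
  intro x hx
  obtain ⟨b, rfl⟩ := Ideal.Quotient.mk_surjective x
  obtain ⟨e, he, heb⟩ := exists_idempotent_lift_of_isIntegral I b
    (Ideal.Quotient.eq.mp (by simpa [IsIdempotentElem] using hx))
  exact ⟨e, he, Ideal.Quotient.eq.mpr heb⟩

/-- An idempotent lift in `A[X]/(f)` produces a root of `f ≡ X ^ N * (X - 1)` near `1`. -/
theorem exists_root_of_idempotent_lift (jac : I ≤ Ideal.jacobson ⊥) {N : ℕ} (hN : 0 < N) {f : A[X]}
    (hf : f.Monic) (hmap : f.map (Ideal.Quotient.mk I) = X ^ N * (X - 1))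
    (hlift : IsIdempotentElem (Ideal.Quotient.mk (I.map (algebraMap A (AdjoinRoot f)))
        (AdjoinRoot.root f) ^ N) →
      ∃ e : AdjoinRoot f, IsIdempotentElem e ∧
        Ideal.Quotient.mk (I.map (algebraMap A (AdjoinRoot f))) e =
          Ideal.Quotient.mk (I.map (algebraMap A (AdjoinRoot f))) (AdjoinRoot.root f) ^ N) :
    ∃ α, f.IsRoot α ∧ α - 1 ∈ I := by
  let B := AdjoinRoot f
  have := hf.finite_adjoinRoot
  have := hf.free_adjoinRoot
  let r : B := AdjoinRoot.root f
  have hfr : aeval r f = 0 := by rw [AdjoinRoot.aeval_eq, AdjoinRoot.mk_self]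
  let π := Ideal.Quotient.mk (I.map (algebraMap A B))
  let φ : A ⧸ I →+* B ⧸ I.map (algebraMap A B) :=
    Ideal.quotientMap _ (algebraMap A B) Ideal.le_comap_map
  have hev : ∀ q : A[X], π (aeval r q) = (q.map (Ideal.Quotient.mk I)).eval₂ φ (π r) := by
    intro q
    rw [eval₂_map, aeval_def, hom_eval₂]
    rfl
  have hrel : π r ^ N * (π r - 1) = 0 := by simpa [hfr, hmap] using (hev f).symm
  have hN' : IsIdempotentElem (π r ^ N) := by
    have : ∀ k, π r ^ (N + k) = π r ^ N := by
      intro k
      induction k with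
      | zero => rfl
      | succ k ih => rw [← add_assoc, pow_succ, ih]; linear_combination hrel
    show π r ^ N * π r ^ N = π r ^ N
    rw [← pow_add, this]
  obtain ⟨e, he, hpe⟩ := hlift hN'
  change π e = π r ^ N at hpe
  have hker : (r - 1) * e ∈ I.map (algebraMap A B) := by
    rw [← Ideal.Quotient.eq_zero_iff_mem]
    show π ((r - 1) * e) = 0
    rw [map_mul, map_sub, map_one, show π e = π r ^ N from hpe]
    linear_combination hrel
  let Ne : Submodule A B := LinearMap.range (LinearMap.mulRight A e)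
  have hfg : Ne.FG := by
    show (LinearMap.range (LinearMap.mulRight A e)).FG
    rw [LinearMap.range_eq_map]; exact Module.Finite.fg_top.map _
  have hspan : Ne ≤ Submodule.span A {e} := by
    refine Submodule.le_of_le_smul_of_le_jacobson_bot hfg jac ?_
    rintro _ ⟨z, rfl⟩
    obtain ⟨q, rfl⟩ := AdjoinRoot.mk_surjective z
    obtain ⟨t, ht⟩ := X_sub_C_dvd_sub_C_eval (a := (1 : A)) (p := q)
    refine Submodule.mem_sup.mpr ⟨q.eval 1 • e, Submodule.smul_mem _ _ (Submodule.subset_span rfl),
      aeval r t * ((r - 1) * e), ?_, ?_⟩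
    · have hm : aeval r t * ((r - 1) * e) ∈ I • (⊤ : Submodule A B) := by
        rw [Ideal.smul_top_eq_map]; exact Ideal.mul_mem_left _ _ hker
      have := Submodule.mem_map_of_mem (f := LinearMap.mulRight A e) hm
      rw [Submodule.map_smul'', Submodule.map_top] at this
      simpa [Ne, mul_assoc, he.eq] using this
    · have := congr(aeval r $ht)
      simp only [map_sub, map_mul, aeval_X, aeval_C, map_one] at this
      show _ = AdjoinRoot.mk f q * e
      rw [← AdjoinRoot.aeval_eq, Algebra.smul_def]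
      linear_combination -e * this
  obtain ⟨α, hα⟩ := Submodule.mem_span_singleton.mp (hspan ⟨r, rfl⟩)
  have hroot : f.eval α • e = 0 := by
    obtain ⟨t, ht⟩ := X_sub_C_dvd_sub_C_eval (a := α) (p := f)
    have := congr(aeval r $ht)
    simp only [map_sub, map_mul, aeval_X, aeval_C, hfr] at this
    rw [Algebra.smul_def] at hα ⊢
    simp only [LinearMap.mulRight_apply] at hα
    linear_combination (-e) * this + aeval r t * hα
  -- evaluation at `1` on `B / I B`
  let ev : B →+* A ⧸ I := AdjoinRoot.lift (Ideal.Quotient.mk I) 1 (by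
    rw [← eval_map, hmap]; simp)
  have hevA : ∀ a, ev (algebraMap A B a) = Ideal.Quotient.mk I a := fun a => AdjoinRoot.lift_of _
  have hevr : ev r = 1 := AdjoinRoot.lift_root _
  have hevI : I.map (algebraMap A B) ≤ RingHom.ker ev := by
    rw [Ideal.map_le_iff_le_comap]
    intro i hi
    simpa [hevA] using Ideal.Quotient.eq_zero_iff_mem.mpr hi
  have heve : ev e = 1 := by
    have h1 : e - r ^ N ∈ I.map (algebraMap A B) := by
      rw [← Ideal.Quotient.eq]; simpa using hpe
    have := hevI h1
    simpa [hevr, sub_eq_zero] using this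
  refine ⟨α, ?_, ?_⟩
  · -- `a • e = 0` forces `a = 0`
    suffices ∀ a : A, a • e = 0 → a = 0 from this _ hroot
    intro a ha
    obtain ⟨κ, q, y, hy, hq⟩ := Module.Flat.isTrivialRelation_of_sum_smul_eq_zero (R := A)
      (f := ![a]) (x := ![e]) (by simpa using ha)
    choose d hd using fun k => Submodule.mem_span_singleton.mp (hspan ⟨y k, rfl⟩)
    have h1 : e = ∑ k, q 0 k • y k := by simpa using hy 0
    have h2 : e = (∑ k, q 0 k * d k) • e := by
      conv_lhs => rw [← he.eq]
      nth_rw 1 [h1]
      rw [Finset.sum_mul, Finset.sum_smul]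
      refine Finset.sum_congr rfl fun k _ => ?_
      rw [mul_smul, smul_mul_assoc, hd]; rfl
    have hu : IsUnit (∑ k, q 0 k * d k) := by
      refine isUnit_of_mk_eq_one jac ?_
      have := congr(ev $h2)
      rw [Algebra.smul_def, map_mul, heve, mul_one, hevA] at this
      exact this.symm
    refine hu.mul_left_eq_zero.mp ?_
    rw [Finset.mul_sum]
    refine Finset.sum_eq_zero fun k _ => ?_
    have := hq k
    simp only [Fin.sum_univ_one, Matrix.cons_val_fin_one] at this
    rw [← mul_assoc, this, zero_mul]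
  · rw [← Ideal.Quotient.eq, map_one]
    have := congr(ev $hα)
    simpa [Algebra.smul_def, heve, hevA, hevr] using this

/-- If idempotents lift along finite algebras, the pair is henselian. -/
theorem henselianRing_of_idempotents_lift
    (h : ∀ (B : Type u) [CommRing B] [Algebra A B], Module.Finite A B →
      Set.BijOn (Ideal.Quotient.mk (Ideal.map (algebraMap A B) I))
        {e : B | IsIdempotentElem e} {e | IsIdempotentElem e}) :
    HenselianRing A I := by
  have jac : I ≤ Ideal.jacobson ⊥ := by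
    intro x hx
    rw [Ideal.mem_jacobson_bot]
    intro y
    let J := Ideal.span {x * y + 1}
    have hbij := h (A ⧸ J) inferInstance
    have h01 : (1 : A ⧸ J) = 0 := by
      refine hbij.injOn IsIdempotentElem.one IsIdempotentElem.zero ?_
      rw [Ideal.Quotient.eq, sub_zero]
      have h1 : (1 : A ⧸ J) = algebraMap A (A ⧸ J) (-(x * y)) := by
        rw [Ideal.Quotient.algebraMap_eq, ← map_one (Ideal.Quotient.mk J), Ideal.Quotient.eq]
        simp [J, add_comm, Ideal.mem_span_singleton_self]
      rw [h1]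
      exact Ideal.mem_map_of_mem _ (neg_mem (I.mul_mem_right _ hx))
    rw [← map_one (Ideal.Quotient.mk J), Ideal.Quotient.eq_zero_iff_mem,
      Ideal.mem_span_singleton] at h01
    exact isUnit_of_dvd_one h01
  exact henselianRing_iff_gabberCond.mpr ⟨jac, fun N hN f hf hmap =>
    have := hf.finite_adjoinRoot
    exists_root_of_idempotent_lift jac hN hf hmap fun hx => (h _ inferInstance).surjOn hx⟩

end Groth.Agent.Hensel
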