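import Groth.Agent.Hensel.HenselizationDescent
import Mathlib.RingTheory.Localization.BaseChange
import Mathlib.RingTheory.LocalProperties.Reduced
import Mathlib.RingTheory.Flat.EquationalCriterion
import Mathlib.RingTheory.Artinian.Module
import Mathlib.RingTheory.Unramified.Finite
import Mathlib.RingTheory.LocalRing.ResidueField.Ideal

/-!
# Base changes of henselizations
-/

noncomputable section

namespace Groth.Agent.Hensel

universe u v

open IsLocalRing TensorProduct

variable {R : Type u} [CommRing R] {L : Type u} [Field L] [Algebra R L]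

/-- The colimit is an algebra over each of its stages. -/
@[implicit_reducible]
def stageAlgebra (N : Nbhd R L) : Algebra N.Stage (Henz R L) := (Henz.of N).toRingHom.toAlgebra

theorem flat_stage (N : Nbhd R L) :
    letI := stageAlgebra N
    Module.Flat N.Stage (Henz R L) := by
  let := stageAlgebra N
  refine Module.Flat.iff_forall_isTrivialRelation.mpr fun {l f x} hfx => ?_
  classical
  obtain ⟨M, hNM, hM⟩ := Henz.exists_of_finset N (Finset.univ.image x)
  choose y hy using fun i => hM (x i) (Finset.mem_image_of_mem _ (Finset.mem_univ i))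
  have h0 : Henz.of M (∑ i, Nbhd.trans hNM (f i) * y i) = Henz.of M 0 := by
    rw [map_zero, map_sum, ← hfx]
    refine Finset.sum_congr rfl fun i _ => ?_
    rw [map_mul, Henz.of_trans, hy, Algebra.smul_def]
    rfl
  obtain ⟨M', hM', h1⟩ := Henz.of_eq_of h0
  obtain ⟨P, hNP, hM'P, hflat⟩ := exists_flat_trans N M'
  let : Algebra N.Stage P.Stage := (Nbhd.trans hNP).toRingHom.toAlgebra
  have : Module.Flat N.Stage P.Stage := hflat
  have mm : ∀ {A B C : Nbhd R L} (h₁ : A ≤ B) (h₂ : B ≤ C) (z : A.Stage),
      Nbhd.trans h₂ (Nbhd.trans h₁ z) = Nbhd.trans (h₁.trans h₂) z := fun h₁ h₂ z =>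
    DirectedSystem.map_map (f := fun _ _ h => Nbhd.trans (R := R) (K := L) h) h₁ h₂ z
  have h2 : ∑ i, f i • Nbhd.trans (hM'.trans hM'P) (y i) = 0 := by
    have := congr(Nbhd.trans hM'P $h1)
    rw [map_zero, map_zero, mm, map_sum] at this
    rw [← this]
    refine Finset.sum_congr rfl fun i _ => ?_
    rw [map_mul, mm, Algebra.smul_def]
    rfl
  obtain ⟨k, a, z, hz, ha⟩ := Module.Flat.isTrivialRelation_of_sum_smul_eq_zero h2
  refine ⟨k, a, fun j => Henz.of P (z j), fun i => ?_, ha⟩
  have hz' : Nbhd.trans (hM'.trans hM'P) (y i) = ∑ j, a i j • z j := hz i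
  rw [← hy, ← Henz.of_trans (hM'.trans hM'P), hz', map_sum]
  refine Finset.sum_congr rfl fun j _ => ?_
  rw [Algebra.smul_def, Algebra.smul_def, map_mul]
  exact congrArg (· * _) (Henz.of_trans hNP _)

theorem faithfullyFlat_stage (N : Nbhd R L) :
    letI := stageAlgebra N
    Module.FaithfullyFlat N.Stage (Henz R L) := by
  let := stageAlgebra N
  have := flat_stage N
  have : Nontrivial (Henz R L) := (Henz.proj R L).toRingHom.domain_nontrivial
  have : IsLocalRing (Henz R L) := .of_nonunits_add fun a b ha hb => by
    simp only [mem_nonunits_iff, Henz.isUnit_iff, isUnit_iff_ne_zero, not_not] at ha hb ⊢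
    rw [map_add, ha, hb, add_zero]
  have : IsLocalHom (algebraMap N.Stage (Henz R L)) := ⟨fun y hy => N.isUnit_of_isUnit_ρ (by
    have := hy.map (Henz.proj R L)
    rwa [RingHom.algebraMap_toAlgebra] at this)⟩
  exact Module.FaithfullyFlat.of_flat_of_isLocalHom

variable (T : Type u) [CommRing T] [Algebra R T]

theorem isReduced_stage_tensor [IsReduced T] (N : Nbhd R L) : IsReduced (N.Stage ⊗[R] T) := by
  have : IsReduced (T ⊗[R] N.B) := isReduced_of_etale T (T ⊗[R] N.B)
  let e := IsLocalization.tensorProductEquivOfMapIncludeRight R T N.S N.Stage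
    (Localization (N.S.map (Algebra.TensorProduct.includeRight (R := R) (A := T) (B := N.B))))
  exact isReduced_of_injective
    (e.toRingEquiv.toRingHom.comp (Algebra.TensorProduct.comm R N.Stage T).toRingEquiv.toRingHom)
    (e.injective.comp (Algebra.TensorProduct.comm R N.Stage T).injective)

theorem exists_map_of_eq (x : Henz R L ⊗[R] T) :
    ∃ N : Nbhd R L, ∃ y, Algebra.TensorProduct.map (Henz.of N) (AlgHom.id R T) y = x := by
  induction x with
  | zero => exact ⟨Classical.arbitrary _, 0, map_zero _⟩
  | tmul z t =>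
    obtain ⟨N, y, rfl⟩ := Henz.exists_of z
    exact ⟨N, y ⊗ₜ t, rfl⟩
  | add a b ha hb =>
    obtain ⟨N, y, rfl⟩ := ha
    obtain ⟨M, y', rfl⟩ := hb
    obtain ⟨P, h₁, h₂⟩ := exists_ge_ge N M
    have key : ∀ {A : Nbhd R L} (h : A ≤ P) (w : A.Stage ⊗[R] T),
        Algebra.TensorProduct.map (Henz.of P) (AlgHom.id R T)
          (Algebra.TensorProduct.map (Nbhd.trans h) (AlgHom.id R T) w) =
          Algebra.TensorProduct.map (Henz.of A) (AlgHom.id R T) w := fun h w => by
      induction w with
      | zero => simp
      | tmul a t => simp [Henz.of_trans]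
      | add a b ha hb => simp [ha, hb]
    exact ⟨P, Algebra.TensorProduct.map (Nbhd.trans h₁) (AlgHom.id R T) y +
      Algebra.TensorProduct.map (Nbhd.trans h₂) (AlgHom.id R T) y', by rw [map_add, key, key]⟩

theorem injective_map_of (N : Nbhd R L) :
    Function.Injective (Algebra.TensorProduct.map (Henz.of N) (AlgHom.id R T)) := by
  let := stageAlgebra N
  have : IsScalarTower R N.Stage (Henz R L) := .of_algebraMap_eq fun r =>
    ((Henz.of N).commutes r).symm
  have := faithfullyFlat_stage N
  let e := AlgebraTensorModule.cancelBaseChange R N.Stage N.Stage (Henz R L) T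
  have h : ∀ w, Algebra.TensorProduct.map (Henz.of N) (AlgHom.id R T) w =
      e ((1 : Henz R L) ⊗ₜ[N.Stage] w) := fun w => by
    induction w with
    | zero => simp
    | tmul a t => simp [e, Algebra.smul_def, RingHom.algebraMap_toAlgebra]
    | add a b ha hb => simp [tmul_add, ha, hb]
  intro a b hab
  rw [h, h] at hab
  exact Module.FaithfullyFlat.tensorProduct_mk_injective (A := N.Stage) (B := Henz R L)
    (N.Stage ⊗[R] T) (e.injective hab)

theorem isReduced_henz_tensor [IsReduced T] : IsReduced (Henz R L ⊗[R] T) := by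
  refine ⟨fun x hx => ?_⟩
  obtain ⟨N, y, rfl⟩ := exists_map_of_eq T x
  have := isReduced_stage_tensor T N
  rw [((IsNilpotent.map_iff (injective_map_of T N)).mp hx).eq_zero, map_zero]

/-- Every element of a base change to a field is separable in each residue field. -/
theorem isSeparable_of_algHom {k : Type u} [Field k] [Algebra R k] {E : Type u} [Field E]
    [Algebra k E] (g : k ⊗[R] Henz R L →ₐ[k] E) (x : k ⊗[R] Henz R L) :
    IsSeparable k (g x) := by
  obtain ⟨N, y, hy⟩ := exists_map_of_eq k (Algebra.TensorProduct.comm R k (Henz R L) x)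
  have : Algebra.EssFiniteType R N.Stage :=
    have : Algebra.EssFiniteType N.B N.Stage := .of_isLocalization _ N.S
    Algebra.EssFiniteType.comp R N.B N.Stage
  have : Algebra.FormallyUnramified R N.Stage :=
    have : Algebra.FormallyUnramified N.B N.Stage := .of_isLocalization N.S
    Algebra.FormallyUnramified.comp R N.B N.Stage
  let g' : k ⊗[R] N.Stage →ₐ[k] E :=
    g.comp (Algebra.TensorProduct.map (AlgHom.id k k) (Henz.of N))
  have hgx : g x = g' (Algebra.TensorProduct.comm R N.Stage k y) := by
    refine congrArg g ((Algebra.TensorProduct.comm R k (Henz R L)).injective ?_)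
    rw [← hy]
    clear hy g'
    induction y with
    | zero => simp
    | tmul a t => simp
    | add a b ha hb => simp [ha, hb]
  rw [hgx]
  generalize Algebra.TensorProduct.comm R N.Stage k y = w
  have : (RingHom.ker g').IsPrime := RingHom.ker_isPrime _
  have := Algebra.FormallyUnramified.finite_of_free k (k ⊗[R] N.Stage)
  have : IsArtinianRing (k ⊗[R] N.Stage) := IsArtinianRing.of_finite k _
  have : (RingHom.ker g').IsMaximal := inferInstance
  let : Field ((k ⊗[R] N.Stage) ⧸ RingHom.ker g') := Ideal.Quotient.field _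
  have : Algebra.FormallyUnramified k ((k ⊗[R] N.Stage) ⧸ RingHom.ker g') :=
    .of_surjective (Ideal.Quotient.mkₐ k _) Ideal.Quotient.mk_surjective
  have := (Algebra.FormallyUnramified.iff_isSeparable k _).mp this
  have h := Algebra.IsSeparable.isSeparable k (Ideal.Quotient.mkₐ k (RingHom.ker g') w)
  rw [IsSeparable, ← minpoly.algHom_eq (Ideal.kerLiftAlg g') (Ideal.kerLiftAlg_injective g')] at h
  exact h

end Groth.Agent.Hensel
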