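import Groth.Agent.Hensel.Henselization
import Groth.Agent.Hensel.PairBasic

/-!
# Properties of henselizations transported to the abstract predicates
-/

noncomputable section

namespace Groth.Agent.Hensel

universe u

open IsLocalRing

theorem henselianRing_of_ringEquiv {A A' : Type u} [CommRing A] [CommRing A'] (e : A ≃+* A')
    (I : Ideal A) [HenselianRing A I] : HenselianRing A' (I.map (e : A →+* A')) := by
  let : Algebra A A' := (e : A →+* A').toAlgebra
  have : Algebra.IsIntegral A A' :=
    ⟨fun x => e.apply_symm_apply x ▸ (isIntegral_algebraMap : IsIntegral A (algebraMap A A' (e.symm x)))⟩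
  exact henselianRing_of_isIntegral' I A'

theorem henselianLocalRing_of_ringEquiv {A A' : Type u} [CommRing A] [HenselianLocalRing A]
    [CommRing A'] [IsLocalRing A'] (e : A ≃+* A') : HenselianLocalRing A' := by
  have : HenselianRing A (maximalIdeal A) := (henselianRing_maximalIdeal_iff A).mpr inferInstance
  have h := henselianRing_of_ringEquiv e (maximalIdeal A)
  have he : (maximalIdeal A).map (e : A →+* A') = maximalIdeal A' := by
    refine le_antisymm (Ideal.map_le_iff_le_comap.mpr fun a ha => ?_) fun x hx => ?_
    · exact map_nonunit (e : A →+* A') a ha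
    · have := Ideal.mem_map_of_mem (e : A →+* A')
        (show e.symm x ∈ maximalIdeal A from map_nonunit (e.symm : A' →+* A) x hx)
      simpa using this
  rw [he] at h
  exact henselianLocalRing_of_henselianRing A'

section general

variable {A : Type u} [CommRing A] (I : Ideal A) {B : Type u} [CommRing B] [Algebra A B]

theorem surjective_quotientMap_pow
    (h : ∀ b : B, ∃ a : A, b - algebraMap A B a ∈ I.map (algebraMap A B)) (n : ℕ) :
    Function.Surjective (Ideal.quotientMap ((I ^ n).map (algebraMap A B)) (algebraMap A B)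
      Ideal.le_comap_map) := by
  have key : ∀ n b, ∃ a : A, b - algebraMap A B a ∈ (I ^ n).map (algebraMap A B) := by
    intro n
    induction n with
    | zero => intro b; exact ⟨0, by simp [Ideal.map_top]⟩
    | succ n ih =>
      intro b
      obtain ⟨a, ha⟩ := ih b
      suffices ∀ x ∈ (I ^ n).map (algebraMap A B),
          ∃ a : A, x - algebraMap A B a ∈ (I ^ (n + 1)).map (algebraMap A B) by
        obtain ⟨a', ha'⟩ := this _ ha
        exact ⟨a + a', by rw [map_add, ← sub_sub]; exact ha'⟩
      intro x hx
      induction hx using Submodule.span_induction with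
      | mem x hx =>
        obtain ⟨a, -, rfl⟩ := hx
        exact ⟨a, by simp⟩
      | zero => exact ⟨0, by simp⟩
      | add x y _ _ hx hy =>
        obtain ⟨a, ha⟩ := hx; obtain ⟨c, hc⟩ := hy
        exact ⟨a + c, by rw [map_add, add_sub_add_comm]; exact add_mem ha hc⟩
      | smul r x hx' hx =>
        obtain ⟨a, ha⟩ := hx; obtain ⟨c, hc⟩ := h r
        refine ⟨c * a, ?_⟩
        have e : r • x - algebraMap A B (c * a) =
            (r - algebraMap A B c) * x + algebraMap A B c * (x - algebraMap A B a) := by
          rw [smul_eq_mul, map_mul]; ring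
        rw [e]
        refine add_mem ?_ (Ideal.mul_mem_left _ _ ha)
        rw [pow_succ', Ideal.map_mul]
        exact Ideal.mul_mem_mul hc hx'
  intro x
  obtain ⟨b, rfl⟩ := Ideal.Quotient.mk_surjective x
  obtain ⟨a, ha⟩ := key n b
  exact ⟨Ideal.Quotient.mk _ a, by
    rw [Ideal.quotientMap_mk]; exact (Ideal.Quotient.eq.mpr ha).symm⟩

theorem henselianRing_map_quotient_pow (n : ℕ) :
    HenselianRing (A ⧸ I ^ n) (I.map (Ideal.Quotient.mk (I ^ n))) := by
  refine henselianRing_of_forall_isNilpotent _ fun x hx => ⟨n, ?_⟩
  have := Ideal.pow_mem_pow hx n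
  rwa [← Ideal.map_pow, Ideal.map_quotient_self, Ideal.mem_bot] at this

theorem algHom_mem_map {T : Type u} [CommRing T] [Algebra A T] (φ : T →ₐ[A] B) {x : T}
    (hx : x ∈ I.map (algebraMap A T)) : φ x ∈ I.map (algebraMap A B) := by
  have h := Ideal.mem_map_of_mem φ.toRingHom hx
  rw [Ideal.map_map, show φ.toRingHom.comp (algebraMap A T) = algebraMap A B from φ.comp_algebraMap] at h
  exact h

variable (A) in
theorem pairHenselization_comp_self (hB : Hens2.IsPairHenselization A I B) {g : B →+* B}
    (hg : g.comp (algebraMap A B) = algebraMap A B) : g = RingHom.id B :=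
  (hB.2 B _ (algebraMap A B) hB.1 le_rfl).unique hg (RingHom.id_comp _)

/-- Henselizations of a pair are unique up to isomorphism. -/
theorem exists_algEquiv_of_isPairHenselization {B' : Type u} [CommRing B'] [Algebra A B']
    (hB : Hens2.IsPairHenselization A I B) (hB' : Hens2.IsPairHenselization A I B') :
    Nonempty (B ≃ₐ[A] B') := by
  obtain ⟨g, hg, -⟩ := hB.2 B' _ (algebraMap A B') hB'.1 le_rfl
  obtain ⟨g', hg', -⟩ := hB'.2 B _ (algebraMap A B) hB.1 le_rfl
  have h1 : g.comp g' = RingHom.id B' :=
    pairHenselization_comp_self A I hB' (by rw [RingHom.comp_assoc, hg', hg])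
  have h2 : g'.comp g = RingHom.id B :=
    pairHenselization_comp_self A I hB (by rw [RingHom.comp_assoc, hg, hg'])
  exact ⟨AlgEquiv.ofRingEquiv (f := RingEquiv.ofRingHom g g' h1 h2) fun r => congr($hg r)⟩

theorem exists_algEquiv_pairHenz (hB : Hens2.IsPairHenselization A I B) :
    Nonempty (PairHenz A I ≃ₐ[A] B) :=
  exists_algEquiv_of_isPairHenselization I (isPairHenselization_pairHenz A I) hB

theorem flat_of_isPairHenselization (hB : Hens2.IsPairHenselization A I B) : Module.Flat A B := by
  obtain ⟨e⟩ := exists_algEquiv_pairHenz I hB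
  exact .of_linearEquiv e.toLinearEquiv.symm

theorem exists_sub_mem_of_isPairHenselization (hB : Hens2.IsPairHenselization A I B) (b : B) :
    ∃ a : A, b - algebraMap A B a ∈ I.map (algebraMap A B) := by
  obtain ⟨e⟩ := exists_algEquiv_pairHenz I hB
  obtain ⟨a, ha⟩ := Ideal.Quotient.mk_surjective (Henz.proj A (A ⧸ I) (e.symm b))
  refine ⟨a, ?_⟩
  have h1 : e.symm b - algebraMap A _ a ∈ I.map (algebraMap A (PairHenz A I)) := by
    rw [← ker_proj_pairHenz, RingHom.mem_ker, map_sub, AlgHom.commutes, ← ha, sub_eq_zero]
    rfl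
  simpa using algHom_mem_map _ e.toAlgHom h1

theorem bijective_quotientMap_pow_of_isPairHenselization (hB : Hens2.IsPairHenselization A I B)
    (n : ℕ) : Function.Bijective (Ideal.quotientMap ((I ^ n).map (algebraMap A B))
      (algebraMap A B) Ideal.le_comap_map) := by
  refine ⟨?_, surjective_quotientMap_pow I (exists_sub_mem_of_isPairHenselization I hB) n⟩
  obtain ⟨g, hg, -⟩ := hB.2 (A ⧸ I ^ n) _ (Ideal.Quotient.mk _) (henselianRing_map_quotient_pow I n)
    le_rfl
  refine Ideal.quotientMap_injective' fun a ha => ?_
  have h := Ideal.mem_map_of_mem g (Ideal.mem_comap.mp ha)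
  rw [Ideal.map_map, hg, Ideal.map_quotient_self, Ideal.mem_bot, ← RingHom.comp_apply, hg,
    Ideal.Quotient.eq_zero_iff_mem] at h
  exact h

theorem henselianRing_map_of_algEquiv {B' : Type u} [CommRing B'] [Algebra A B']
    [HenselianRing B (I.map (algebraMap A B))] (e : B ≃ₐ[A] B') :
    HenselianRing B' (I.map (algebraMap A B')) := by
  have h := henselianRing_of_ringEquiv e.toRingEquiv (I.map (algebraMap A B))
  rwa [Ideal.map_map, show (e.toRingEquiv : B →+* B').comp (algebraMap A B) = algebraMap A B' from
    e.toAlgHom.comp_algebraMap] at h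

theorem isPairHenselization_of_algEquiv {B' : Type u} [CommRing B'] [Algebra A B']
    (hB : Hens2.IsPairHenselization A I B) (e : B ≃ₐ[A] B') :
    Hens2.IsPairHenselization A I B' := by
  have := hB.1
  refine ⟨henselianRing_map_of_algEquiv I e, fun C _ J f hC hf => ?_⟩
  obtain ⟨g, hg, huniq⟩ := hB.2 C J f hC hf
  refine ⟨g.comp e.symm.toAlgHom.toRingHom, ?_, fun g' hg' => ?_⟩
  · show (g.comp _).comp _ = f
    rw [RingHom.comp_assoc, show e.symm.toAlgHom.toRingHom.comp (algebraMap A B') = algebraMap A B
      from e.symm.toAlgHom.comp_algebraMap, hg]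
  · have := huniq (g'.comp e.toAlgHom.toRingHom) (by
      show (g'.comp _).comp _ = f
      rw [RingHom.comp_assoc, show e.toAlgHom.toRingHom.comp (algebraMap A B) = algebraMap A B'
        from e.toAlgHom.comp_algebraMap]
      exact hg')
    rw [← this, RingHom.comp_assoc]
    ext x
    simp

end general

section localRing

variable (R : Type u) [CommRing R] [IsLocalRing R] (S : Type u) [CommRing S] [IsLocalRing S]
  [Algebra R S] [IsLocalHom (algebraMap R S)]

theorem map_maximalIdeal_of_algEquiv {T : Type u} [CommRing T] [IsLocalRing T] [Algebra R T]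
    (h : (maximalIdeal R).map (algebraMap R T) = maximalIdeal T) (e : T ≃ₐ[R] S) :
    (maximalIdeal R).map (algebraMap R S) = maximalIdeal S := by
  refine le_antisymm (Ideal.map_le_iff_le_comap.mpr fun a ha => map_nonunit _ a ha) fun x hx => ?_
  have : e.symm x ∈ maximalIdeal T := map_nonunit (e.symm : S →+* T) x hx
  rw [← h] at this
  simpa using algHom_mem_map _ e.toAlgHom this

theorem map_maximalIdeal_of_isHenselization [Hensel.IsHenselization R S] :
    (maximalIdeal R).map (algebraMap R S) = maximalIdeal S := by
  obtain ⟨e⟩ := exists_algEquiv_localHenz R S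
  exact map_maximalIdeal_of_algEquiv R S map_maximalIdeal_henz e

theorem map_maximalIdeal_of_isStrictHenselization [Hensel.IsStrictHenselization R S] :
    (maximalIdeal R).map (algebraMap R S) = maximalIdeal S := by
  obtain ⟨e⟩ := exists_algEquiv_strictHenz R S
  exact map_maximalIdeal_of_algEquiv R S map_maximalIdeal_henz e

theorem faithfullyFlat_of_isHenselization [Hensel.IsHenselization R S] :
    Module.FaithfullyFlat R S := by
  obtain ⟨e⟩ := exists_algEquiv_localHenz R S
  exact .of_linearEquiv R (LocalHenz R) e.toLinearEquiv.symm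

theorem faithfullyFlat_of_isStrictHenselization [Hensel.IsStrictHenselization R S] :
    Module.FaithfullyFlat R S := by
  obtain ⟨e⟩ := exists_algEquiv_strictHenz R S
  exact .of_linearEquiv R (StrictHenz R) e.toLinearEquiv.symm

theorem exists_sub_mem_of_isHenselization [Hensel.IsHenselization R S] (b : S) :
    ∃ a : R, b - algebraMap R S a ∈ (maximalIdeal R).map (algebraMap R S) := by
  obtain ⟨e⟩ := exists_algEquiv_localHenz R S
  obtain ⟨a, ha⟩ := residue_surjective (Henz.proj R (ResidueField R) (e.symm b))
  refine ⟨a, ?_⟩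
  have h1 : e.symm b - algebraMap R _ a ∈ (maximalIdeal R).map (algebraMap R (LocalHenz R)) := by
    rw [map_maximalIdeal_henz, maximalIdeal_henz, RingHom.mem_ker, map_sub, AlgHom.commutes, ← ha,
      sub_eq_zero]
    rfl
  simpa using algHom_mem_map _ e.toAlgHom h1

theorem bijective_residueFieldMap_of_isHenselization [Hensel.IsHenselization R S] :
    Function.Bijective (ResidueField.map (algebraMap R S)) := by
  refine ⟨(ResidueField.map (algebraMap R S)).injective, fun x => ?_⟩
  obtain ⟨b, rfl⟩ := residue_surjective x
  obtain ⟨a, ha⟩ := exists_sub_mem_of_isHenselization R S b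
  rw [map_maximalIdeal_of_isHenselization, ← residue_eq_zero_iff, map_sub, sub_eq_zero] at ha
  exact ⟨residue R a, ha.symm⟩

theorem bijective_quotientMap_pow_of_isHenselization [Hensel.IsHenselization R S] (n : ℕ) :
    Function.Bijective (Ideal.quotientMap
      (Ideal.map (algebraMap R S) (maximalIdeal R ^ n)) (algebraMap R S) Ideal.le_comap_map) := by
  have := faithfullyFlat_of_isHenselization R S
  exact ⟨Ideal.quotientMap_injective' (Ideal.comap_map_eq_self_of_faithfullyFlat _).le,
    surjective_quotientMap_pow _ (exists_sub_mem_of_isHenselization R S) n⟩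

theorem isHenselization_of_algEquiv {T : Type u} [CommRing T] [IsLocalRing T] [Algebra R T]
    [IsLocalHom (algebraMap R T)] [hT : Hensel.IsHenselization R T] (e : T ≃ₐ[R] S) :
    Hensel.IsHenselization R S := by
  have := hT.henselian
  refine ⟨henselianLocalRing_of_ringEquiv e.toRingEquiv, fun C _ _ f hf => ?_⟩
  obtain ⟨g, hg, huniq⟩ := hT.universal C f hf
  refine ⟨g.comp e.symm.toAlgHom.toRingHom, ?_, fun g' hg' => ?_⟩
  · show (g.comp _).comp _ = f
    rw [RingHom.comp_assoc, show e.symm.toAlgHom.toRingHom.comp (algebraMap R S) = algebraMap R T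
      from e.symm.toAlgHom.comp_algebraMap, hg]
  · have := huniq (g'.comp e.toAlgHom.toRingHom) (by
      show (g'.comp _).comp _ = f
      rw [RingHom.comp_assoc, show e.toAlgHom.toRingHom.comp (algebraMap R T) = algebraMap R S
        from e.toAlgHom.comp_algebraMap]
      exact hg')
    rw [← this, RingHom.comp_assoc]
    ext x
    simp

theorem isPairHenselization_iff_isHenselization :
    Hens2.IsPairHenselization R (maximalIdeal R) S ↔ Hensel.IsHenselization R S := by
  constructor
  · intro h
    obtain ⟨e⟩ := exists_algEquiv_pairHenz (maximalIdeal R) h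
    let e' : LocalHenz R ≃ₐ[R] S := e
    exact isHenselization_of_algEquiv R S e'
  · intro h
    obtain ⟨e⟩ := exists_algEquiv_localHenz R S
    exact isPairHenselization_of_algEquiv _ (isPairHenselization_pairHenz R (maximalIdeal R)) e

end localRing

end Groth.Agent.Hensel
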