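import Mathlib.RingTheory.MvPolynomial.Homogeneous
import Mathlib.RingTheory.Polynomial.Basic
import Mathlib.RingTheory.Finiteness.Ideal
import Mathlib.RingTheory.Ideal.Quotient.Operations

/-!
# A Noetherianity criterion for adically separated rings

If `J` is finitely generated, `A ⧸ J` is Noetherian and finitely generated ideals are closed in
the `J`-adic topology, then `A` is Noetherian.
-/

namespace Groth.Agent.Hensel

open MvPolynomial

universe u

theorem homogeneousComponent_mul_of_isHomogeneous {σ R : Type*} [CommRing R] (H : MvPolynomial σ R)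
    {F : MvPolynomial σ R} {d : ℕ} (hF : F.IsHomogeneous d) (n : ℕ) :
    homogeneousComponent n (H * F) = if d ≤ n then homogeneousComponent (n - d) H * F else 0 := by
  conv_lhs => rw [← sum_homogeneousComponent H, Finset.sum_mul, map_sum]
  have hterm : ∀ j, homogeneousComponent n (homogeneousComponent j H * F) =
      if n = j + d then homogeneousComponent j H * F else 0 := fun j =>
    homogeneousComponent_of_mem ((homogeneousComponent_isHomogeneous j H).mul hF)
  simp only [hterm]
  split_ifs with h
  · rw [Finset.sum_eq_single (n - d) (fun j _ hj => if_neg (by omega)) (fun hj => ?_),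
      if_pos (by omega)]
    rw [homogeneousComponent_eq_zero _ _ (by simp at hj; omega), zero_mul]
    split_ifs <;> rfl
  · exact Finset.sum_eq_zero fun j _ => if_neg (by omega)

theorem eval_mem_mul_of_coeff_mem {σ A : Type*} [CommRing A] {J : Ideal A} (t : σ → A)
    {D : MvPolynomial σ A} {n : ℕ} (hD : D.IsHomogeneous n)
    (hJ : D.map (Ideal.Quotient.mk J) = 0) :
    D.eval t ∈ J * Ideal.span (Set.range t) ^ n := by
  rw [eval_eq]
  refine Ideal.sum_mem _ fun e he => Ideal.mul_mem_mul ?_ ?_
  · rw [← Ideal.Quotient.eq_zero_iff_mem, ← coeff_map, hJ, coeff_zero]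
  · refine (Ideal.mem_span_pow_iff_exists_isHomogeneous t _).mpr
      ⟨monomial e 1, isHomogeneous_monomial 1 ?_, by simp [eval_monomial, Finsupp.prod]⟩
    by_contra h
    exact (mem_support_iff.mp he) (hD.coeff_eq_zero h)

/-- If the closed ideals include all finitely generated ones, the ring is Noetherian. -/
theorem isNoetherianRing_of_forall_fg_closed {A : Type u} [CommRing A] (J : Ideal A) (hJ : J.FG)
    [IsNoetherianRing (A ⧸ J)]
    (hclosed : ∀ K : Ideal A, K.FG → ∀ y, (∀ n : ℕ, y ∈ K ⊔ J ^ n) → y ∈ K) :
    IsNoetherianRing A := by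
  classical
  obtain ⟨r, t, ht⟩ := Submodule.fg_iff_exists_fin_generating_family.mp hJ
  replace ht : Ideal.span (Set.range t) = J := ht
  refine ⟨fun I => ?_⟩
  let q : MvPolynomial (Fin r) A →+* MvPolynomial (Fin r) (A ⧸ J) :=
    MvPolynomial.map (Ideal.Quotient.mk J)
  let s : Set (MvPolynomial (Fin r) (A ⧸ J)) :=
    {F | ∃ (d : ℕ) (G : MvPolynomial (Fin r) A), G.IsHomogeneous d ∧ q G = F ∧
      G.eval t ∈ I ⊔ J ^ (d + 1)}
  obtain ⟨s', hs', hspan⟩ := (Submodule.fg_span_iff_fg_span_finset_subset s).mp
    (IsNoetherian.noetherian (Ideal.span s))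
  choose d G hG hqG hmem using fun F : s' => hs' F.2
  choose x hx z hz hxz using fun F : s' => Submodule.mem_sup.mp (hmem F)
  let K : Ideal A := Ideal.span (Set.range x)
  have hxK : ∀ F, x F ∈ K := fun F => Ideal.subset_span ⟨F, rfl⟩
  have hKI : K ≤ I := Ideal.span_le.mpr (Set.range_subset_iff.mpr hx)
  suffices I = K by
    rw [this]; exact Submodule.fg_span (Set.finite_range x)
  refine le_antisymm (fun y hy => hclosed K (Submodule.fg_span (Set.finite_range x)) y fun n => ?_) hKI
  induction n with
  | zero => simp
  | succ n ih =>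
    obtain ⟨a, ha, w, hw, rfl⟩ := Submodule.mem_sup.mp ih
    have hwI : w ∈ I := by simpa using sub_mem hy (hKI ha)
    refine add_mem (Submodule.mem_sup_left ha) ?_
    obtain ⟨P, hP, rfl⟩ := (Ideal.mem_span_pow_iff_exists_isHomogeneous t w).mp (ht.symm ▸ hw)
    have hPs : q P ∈ Ideal.span (s' : Set (MvPolynomial (Fin r) (A ⧸ J))) := by
      rw [show Ideal.span (s' : Set _) = Ideal.span s from hspan.symm]
      exact Ideal.subset_span ⟨n, P, hP, rfl, Submodule.mem_sup_left hwI⟩
    obtain ⟨H, hH⟩ := Submodule.mem_span_finset'.mp hPs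
    choose H' hH' using fun F : s' => MvPolynomial.map_surjective _ Ideal.Quotient.mk_surjective (H F)
    let E : s' → MvPolynomial (Fin r) A := fun F =>
      if d F ≤ n then homogeneousComponent (n - d F) (H' F) else 0
    have hEG : ∀ F, (E F * G F).IsHomogeneous n := fun F => by
      simp only [E]
      split_ifs with h
      · have := (homogeneousComponent_isHomogeneous (n - d F) (H' F)).mul (hG F)
        rwa [Nat.sub_add_cancel h] at this
      · rw [zero_mul]; exact isHomogeneous_zero _ _ _
    let D := P - ∑ F, E F * G F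
    have hD : D.IsHomogeneous n := hP.sub (IsHomogeneous.sum _ _ _ fun F _ => hEG F)
    have hqD : q D = 0 := by
      have e : ∀ (m : ℕ) (p : MvPolynomial (Fin r) A),
          q (homogeneousComponent m p) = homogeneousComponent m (q p) := fun m p => by
        ext c
        simp only [q, coeff_map, coeff_homogeneousComponent]
        split_ifs <;> simp
      rw [← homogeneousComponent_eq_self hD, e, map_sub, map_sub, map_sum, map_sum, ← hH, map_sum,
        ← Finset.sum_sub_distrib]
      refine Finset.sum_eq_zero fun F _ => sub_eq_zero.mpr ?_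
      rw [smul_eq_mul, ← hH' F]
      show homogeneousComponent n (q (H' F) * F.1) = _
      rw [homogeneousComponent_mul_of_isHomogeneous _
          (show F.1.IsHomogeneous (d F) from hqG F ▸ (hG F).map _)]
      have h1 : homogeneousComponent n (q (E F * G F)) = q (E F * G F) :=
        homogeneousComponent_eq_self ((hEG F).map _)
      rw [h1, map_mul, hqG]
      simp only [E]
      split_ifs with h
      · rw [e]
      · rw [map_zero, zero_mul]
    have hDJ : D.eval t ∈ J ^ (n + 1) := by
      have := eval_mem_mul_of_coeff_mem t hD hqD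
      rwa [ht, ← pow_succ'] at this
    have hfin : P.eval t = D.eval t + ∑ F, ((E F).eval t * x F + (E F).eval t * z F) := by
      simp only [← mul_add, hxz, D, map_sub, map_sum, map_mul, sub_add_cancel]
    rw [hfin]
    refine add_mem (Submodule.mem_sup_right hDJ) (Ideal.sum_mem _ fun F _ => add_mem
      (Submodule.mem_sup_left (Ideal.mul_mem_left _ _ (hxK F))) (Submodule.mem_sup_right ?_))
    simp only [E]
    split_ifs with h
    · have h2 := Ideal.mul_mem_mul
        ((Ideal.mem_span_pow_iff_exists_isHomogeneous t _).mpr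
          ⟨_, homogeneousComponent_isHomogeneous (n - d F) (H' F), rfl⟩) (hz F)
      rw [ht, ← pow_add] at h2
      exact Ideal.pow_le_pow_right (by omega) h2
    · simp

end Groth.Agent.Hensel
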