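import Groth.Agent.Hensel.Colim
import Groth.Agent.Hensel.EtaleReduced
import Groth.Agent.Hensel.NoethCriterion
import Mathlib.RingTheory.Flat.Localization
import Mathlib.RingTheory.Ideal.GoingDown
import Mathlib.RingTheory.Unramified.LocalStructure
import Mathlib.RingTheory.RegularLocalRing.Defs
import Mathlib.RingTheory.Filtration

/-!
# Permanence properties of henselization
-/

noncomputable section

namespace Groth.Agent.Hensel

universe u v

open IsLocalRing

section general

variable {R K : Type u} [CommRing R] [CommRing K] [Algebra R K]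

/-- The nilradical of the colimit is generated by that of the base. -/
theorem nilradical_henz :
    (nilradical R).map (algebraMap R (Henz R K)) = nilradical (Henz R K) := by
  refine le_antisymm (Ideal.map_le_iff_le_comap.mpr fun a ha =>
    mem_nilradical.mpr ((mem_nilradical.mp ha).map _)) ?_
  intro z hz
  obtain ⟨n, hn⟩ := mem_nilradical.mp hz
  obtain ⟨N, b, rfl⟩ := Henz.exists_ofB z
  rw [← map_pow] at hn
  obtain ⟨M, α, hα, h0⟩ := Henz.exists_of_ofB_eq_zero hn
  have : IsReduced (R ⧸ nilradical R) :=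
    (Ideal.isRadical_iff_quotient_reduced _).mp (Ideal.radical_isRadical _)
  let Q := TensorProduct R (R ⧸ nilradical R) M.B
  have : IsReduced Q := isReduced_of_etale (R ⧸ nilradical R) Q
  have h1 : (1 : R ⧸ nilradical R) ⊗ₜ[R] α b = (0 : Q) := by
    refine IsNilpotent.eq_zero (R := Q) ⟨n, ?_⟩
    rw [Algebra.TensorProduct.tmul_pow, one_pow, ← map_pow, h0, TensorProduct.tmul_zero]
  have h2 : α b ∈ (nilradical R).map (algebraMap R M.B) := by
    rw [← Ideal.Quotient.eq_zero_iff_mem]
    have := congr(Algebra.TensorProduct.lift (Ideal.Quotient.liftₐ (nilradical R)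
      ((Ideal.Quotient.mkₐ R ((nilradical R).map (algebraMap R M.B))).comp (Algebra.ofId R M.B))
      fun a ha => Ideal.Quotient.eq_zero_iff_mem.mpr (Ideal.mem_map_of_mem _ ha)) (Ideal.Quotient.mkₐ R ((nilradical R).map (algebraMap R M.B)))
      (fun _ _ => .all _ _) $h1)
    simpa using this
  rw [← Henz.ofB_comp α hα]
  exact algHom_mem_map _ (Henz.ofB M) h2

/-- Ascent of reducedness. -/
theorem isReduced_henz [IsReduced R] : IsReduced (Henz R K) :=
  Henz.isReduced_of_forall fun N => isReduced_of_etale R N.B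

/-- The fibres of `Henz` over the base have dimension zero. -/
theorem eq_of_le_of_comap_eq_henz {p q : Ideal (Henz R K)} [p.IsPrime] [q.IsPrime] (h : p ≤ q)
    (h' : p.comap (algebraMap R (Henz R K)) = q.comap (algebraMap R (Henz R K))) : p = q := by
  refine le_antisymm h fun z hz => ?_
  obtain ⟨N, b, rfl⟩ := Henz.exists_ofB z
  have e : ∀ P : Ideal (Henz R K), (P.comap (Henz.ofB N)).under R =
      P.comap (algebraMap R (Henz R K)) := fun P => by
    ext r
    simp [Ideal.under_def]
  have := Algebra.QuasiFinite.eq_of_le_of_under_eq (R := R) (p.comap (Henz.ofB N))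
    (q.comap (Henz.ofB N)) (Ideal.comap_mono h) (by rw [e, e, h'])
  exact (this ▸ hz : b ∈ p.comap (Henz.ofB N))

/-- The map from a stage to a larger one, viewed as an algebra, is flat. -/
theorem exists_flat_trans (N M : Nbhd R K) : ∃ (P : Nbhd R K) (hN : N ≤ P) (_ : M ≤ P),
    ((Nbhd.trans hN).toRingHom).Flat := by
  obtain ⟨P, α, β, hα, hβ⟩ := N.exists_hom₂ M
  refine ⟨P, Nbhd.le_of_algHom α hα, Nbhd.le_of_algHom β hβ, ?_⟩
  let : Algebra N.B P.B := α.toRingHom.toAlgebra
  have : IsScalarTower R N.B P.B := .of_algebraMap_eq' α.comp_algebraMap.symm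
  have : Algebra.Etale N.B P.B := Algebra.Etale.of_restrictScalars R N.B P.B
  have : Module.Flat P.B P.Stage := IsLocalization.flat P.Stage P.S
  have hfl : Module.Flat N.B P.Stage := Module.Flat.trans N.B P.B P.Stage
  let : Algebra N.Stage P.Stage := (Nbhd.trans (Nbhd.le_of_algHom α hα)).toRingHom.toAlgebra
  have : IsScalarTower N.B N.Stage P.Stage := .of_algebraMap_eq fun b =>
    (Nbhd.trans_algebraMap α hα (Nbhd.le_of_algHom α hα) b).symm
  exact (Module.flat_iff_of_isLocalization N.Stage N.S P.Stage).mpr hfl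

/-- Membership in an extended ideal is witnessed at some stage. -/
theorem exists_trans_mem_map {N : Nbhd R K} {I : Ideal N.Stage} {x : N.Stage}
    (hx : Henz.of N x ∈ I.map (Henz.of N)) :
    ∃ (M : Nbhd R K) (h : N ≤ M), Nbhd.trans h x ∈ I.map (Nbhd.trans h) := by
  have mm : ∀ {A B C : Nbhd R K} (h₁ : A ≤ B) (h₂ : B ≤ C) (y : A.Stage),
      Nbhd.trans h₂ (Nbhd.trans h₁ y) = Nbhd.trans (h₁.trans h₂) y := fun h₁ h₂ y =>
    DirectedSystem.map_map (f := fun _ _ h => Nbhd.trans (R := R) (K := K) h) h₁ h₂ y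
  have up : ∀ {A B : Nbhd R K} (hA : N ≤ A) (h : A ≤ B) {u : A.Stage},
      u ∈ I.map (Nbhd.trans hA) → Nbhd.trans h u ∈ I.map (Nbhd.trans (hA.trans h)) := by
    intro A B hA h u hu
    have h1 := Ideal.mem_map_of_mem (Nbhd.trans h).toRingHom hu
    rw [show (I.map (Nbhd.trans hA)).map (Nbhd.trans h).toRingHom =
      I.map (Nbhd.trans (hA.trans h)) from (Ideal.map_map (Nbhd.trans hA).toRingHom _).trans
        (congrArg (Ideal.map · I) (RingHom.ext fun y => mm hA h y))] at h1
    exact h1
  suffices H : ∀ z ∈ I.map (Henz.of N), ∃ (M : Nbhd R K) (h : N ≤ M) (u : M.Stage),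
      u ∈ I.map (Nbhd.trans h) ∧ Henz.of M u = z by
    obtain ⟨M, h, u, hu, e⟩ := H _ hx
    obtain ⟨P, hP, e'⟩ := Henz.of_eq_of (x := u) (y := Nbhd.trans h x)
      (e.trans (Henz.of_trans h x).symm)
    refine ⟨P, h.trans hP, ?_⟩
    rw [← mm h hP x, ← e']
    exact up h hP hu
  intro z hz
  induction hz using Submodule.span_induction with
  | mem z hz =>
    obtain ⟨y, hy, rfl⟩ := hz
    exact ⟨N, le_rfl, Nbhd.trans le_rfl y, Ideal.mem_map_of_mem _ hy, Henz.of_trans _ y⟩
  | zero => exact ⟨N, le_rfl, 0, zero_mem _, map_zero _⟩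
  | add z w _ _ hz hw =>
    obtain ⟨M, h, u, hu, rfl⟩ := hz
    obtain ⟨M', h', u', hu', rfl⟩ := hw
    obtain ⟨P, h₁, h₂⟩ := exists_ge_ge M M'
    exact ⟨P, h.trans h₁, Nbhd.trans h₁ u + Nbhd.trans h₂ u', add_mem (up h h₁ hu) (up h' h₂ hu'),
      by rw [map_add, Henz.of_trans, Henz.of_trans]⟩
  | smul c z _ hz =>
    obtain ⟨M, h, u, hu, rfl⟩ := hz
    obtain ⟨M', c', rfl⟩ := Henz.exists_of c
    obtain ⟨P, h₁, h₂⟩ := exists_ge_ge M M'
    exact ⟨P, h.trans h₁, Nbhd.trans h₂ c' * Nbhd.trans h₁ u, Ideal.mul_mem_left _ _ (up h h₁ hu),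
      by rw [map_mul, Henz.of_trans, Henz.of_trans, smul_eq_mul]⟩

end general

section field

variable {R : Type u} [CommRing R] {L : Type u} [Field L] [Algebra R L]

instance isLocalRing_stage (N : Nbhd R L) : IsLocalRing N.Stage :=
  have : Nontrivial N.Stage := N.ρ.toRingHom.domain_nontrivial
  .of_nonunits_add fun a b ha hb hab => by
    refine (hab.map N.ρ).ne_zero ?_
    rw [map_add, not_not.mp fun h => ha (N.isUnit_of_isUnit_ρ (isUnit_iff_ne_zero.mpr h)),
      not_not.mp fun h => hb (N.isUnit_of_isUnit_ρ (isUnit_iff_ne_zero.mpr h)), add_zero]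

theorem mem_of_of_mem_map {N : Nbhd R L} {I : Ideal N.Stage} {x : N.Stage}
    (hx : Henz.of N x ∈ I.map (Henz.of N)) : x ∈ I := by
  obtain ⟨M, h, hM⟩ := exists_trans_mem_map hx
  obtain ⟨P, hN, hMP, hflat⟩ := exists_flat_trans N M
  let : Algebra N.Stage P.Stage := (Nbhd.trans hN).toRingHom.toAlgebra
  have : Module.Flat N.Stage P.Stage := hflat
  have : IsLocalHom (algebraMap N.Stage P.Stage) := ⟨fun y hy => N.isUnit_of_isUnit_ρ (by
    rw [← Nbhd.ρ_trans hN]; exact hy.map P.ρ)⟩
  have : Module.FaithfullyFlat N.Stage P.Stage := Module.FaithfullyFlat.of_flat_of_isLocalHom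
  rw [← Ideal.comap_map_eq_self_of_faithfullyFlat (B := P.Stage) I, Ideal.mem_comap]
  have h1 := Ideal.mem_map_of_mem (Nbhd.trans hMP).toRingHom hM
  rw [show (I.map (Nbhd.trans h)).map (Nbhd.trans hMP).toRingHom = I.map (algebraMap N.Stage P.Stage)
    from (Ideal.map_map (Nbhd.trans h).toRingHom _).trans (congrArg (Ideal.map · I) (RingHom.ext
      fun y => DirectedSystem.map_map (f := fun _ _ h => Nbhd.trans (R := R) (K := L) h) h hMP y))]
    at h1
  convert h1 using 1
  exact (DirectedSystem.map_map (f := fun _ _ h => Nbhd.trans (R := R) (K := L) h) h hMP x).symm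

variable [IsLocalRing R] [Algebra (ResidueField R) L] [IsScalarTower R (ResidueField R) L]

/-- Ascent of Noetherianity. -/
theorem isNoetherianRing_henz [IsNoetherianRing R] : IsNoetherianRing (Henz R L) := by
  classical
  have : IsNoetherianRing (Henz R L ⧸ maximalIdeal (Henz R L)) :=
    inferInstanceAs (IsNoetherianRing (ResidueField (Henz R L)))
  refine isNoetherianRing_of_forall_fg_closed (maximalIdeal (Henz R L))
    (map_maximalIdeal_henz (R := R) (L := L) ▸ Ideal.FG.map (IsNoetherian.noetherian (maximalIdeal R)) _) ?_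
  intro J hJ y hy
  obtain ⟨k, x, rfl⟩ := Submodule.fg_iff_exists_fin_generating_family.mp hJ
  obtain ⟨N, -, hN⟩ := Henz.exists_of_finset (Classical.arbitrary (Nbhd R L))
    (insert y (Finset.univ.image x))
  obtain ⟨y', rfl⟩ := hN y (Finset.mem_insert_self _ _)
  choose x' hx' using fun i =>
    hN (x i) (Finset.mem_insert_of_mem (Finset.mem_image_of_mem _ (Finset.mem_univ i)))
  have : IsNoetherianRing N.B := Algebra.FiniteType.isNoetherianRing R N.B
  have : IsNoetherianRing N.Stage := IsLocalization.isNoetherianRing N.S _ inferInstance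
  let J' : Ideal N.Stage := Ideal.span (Set.range x')
  have hJ' : J'.map (Henz.of N) = Submodule.span (Henz R L) (Set.range x) := by
    rw [Ideal.map_span, ← Set.range_comp]
    simp [Function.comp_def, hx']
  let m : Ideal N.Stage := (maximalIdeal R).map (algebraMap R N.Stage)
  have hm : m ≤ maximalIdeal N.Stage := Ideal.map_le_iff_le_comap.mpr fun a ha hu => by
    refine not_isUnit_zero (M₀ := L) ?_
    have := (hu : IsUnit _).map N.ρ
    rwa [AlgHom.commutes, (algebraMap_eq_zero_iff_mem a).mpr ha] at this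
  have hm' : m.map (Henz.of N) = maximalIdeal (Henz R L) := by
    rw [← map_maximalIdeal_henz]
    exact (Ideal.map_map (algebraMap R N.Stage) (Henz.of N).toRingHom).trans
      (congrArg (Ideal.map · (maximalIdeal R)) (Henz.of N).comp_algebraMap)
  have hy' : ∀ n, y' ∈ J' ⊔ m ^ n := fun n => mem_of_of_mem_map (by
    rw [Ideal.map_sup, Ideal.map_pow, hJ', hm']; exact hy n)
  show Henz.of N y' ∈ Submodule.span (Henz R L) (Set.range x)
  rw [← hJ']
  refine Ideal.mem_map_of_mem _ ?_
  rcases eq_or_ne J' ⊤ with h | h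
  · simp [h]
  have : Nontrivial (N.Stage ⧸ J') := Ideal.Quotient.nontrivial_iff.mpr h
  have : IsLocalRing (N.Stage ⧸ J') := .of_surjective' _ Ideal.Quotient.mk_surjective
  have hne : m.map (Ideal.Quotient.mk J') ≠ ⊤ := fun htop => by
    have h1 := congrArg (Ideal.comap (Ideal.Quotient.mk J')) htop
    rw [Ideal.comap_map_of_surjective _ Ideal.Quotient.mk_surjective, ← RingHom.ker_eq_comap_bot,
      Ideal.mk_ker, Ideal.comap_top] at h1
    exact (maximalIdeal.isMaximal N.Stage).ne_top
      (top_le_iff.mp (h1 ▸ sup_le hm (le_maximalIdeal h)))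
  rw [← Ideal.Quotient.eq_zero_iff_mem, ← Ideal.mem_bot,
    ← Ideal.iInf_pow_eq_bot_of_isLocalRing _ hne, Ideal.mem_iInf]
  intro n
  obtain ⟨a, ha, b, hb, hab⟩ := Submodule.mem_sup.mp (hy' n)
  rw [← Ideal.map_pow, ← hab, map_add, Ideal.Quotient.eq_zero_iff_mem.mpr ha, zero_add]
  exact Ideal.mem_map_of_mem _ hb

end field

/-- Descent of Noetherianity along a faithfully flat map. -/
theorem isNoetherianRing_of_faithfullyFlat' (R S : Type u) [CommRing R] [CommRing S] [Algebra R S]
    [Module.FaithfullyFlat R S] [IsNoetherianRing S] : IsNoetherianRing R := by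
  refine (isNoetherianRing_iff_ideal_fg R).mpr fun I => ?_
  obtain ⟨s, hs, e⟩ := (Submodule.fg_span_iff_fg_span_finset_subset (algebraMap R S '' I)).mp
    (IsNoetherian.noetherian (I.map (algebraMap R S)))
  classical
  choose g hg hge using fun z : s => hs z.2
  refine ⟨Finset.univ.image g, le_antisymm
    (Ideal.span_le.mpr (by
      rintro y hy
      obtain ⟨z, -, rfl⟩ := Finset.mem_image.mp (Finset.mem_coe.mp hy)
      exact hg z)) ?_⟩
  rw [← Ideal.comap_map_eq_self_of_faithfullyFlat (B := S) (Ideal.span _),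
    ← Ideal.map_le_iff_le_comap, Ideal.map_span]
  refine e.trans_le (Submodule.span_mono fun z hz => ?_)
  exact ⟨g ⟨z, hz⟩, by simp, hge _⟩

/-- A local homomorphism to which the henselization-like results apply. -/
def IsHenzLike (R S : Type u) [CommRing R] [IsLocalRing R] [CommRing S] [Algebra R S] : Prop :=
  ∃ (L : Type u) (_ : Field L) (_ : Algebra R L) (_ : Algebra (ResidueField R) L)
    (_ : IsScalarTower R (ResidueField R) L), Nonempty (Henz R L ≃ₐ[R] S)

section transport

variable {R S : Type u} [CommRing R] [IsLocalRing R] [CommRing S] [IsLocalRing S] [Algebra R S]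
  [IsLocalHom (algebraMap R S)]

variable (R S) in
theorem isHenzLike_of_isHenselization [Hensel.IsHenselization R S] : IsHenzLike R S :=
  ⟨ResidueField R, inferInstance, inferInstance, inferInstance, inferInstance,
    exists_algEquiv_localHenz R S⟩

variable (R S) in
theorem isHenzLike_of_isStrictHenselization [Hensel.IsStrictHenselization R S] : IsHenzLike R S :=
  ⟨SeparableClosure (ResidueField R), inferInstance, inferInstance, inferInstance, inferInstance,
    exists_algEquiv_strictHenz R S⟩

variable (h : IsHenzLike R S)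

include h

theorem IsHenzLike.faithfullyFlat : Module.FaithfullyFlat R S := by
  obtain ⟨L, _, _, _, _, ⟨e⟩⟩ := h
  exact .of_linearEquiv R (Henz R L) e.toLinearEquiv.symm

theorem IsHenzLike.map_maximalIdeal : (maximalIdeal R).map (algebraMap R S) = maximalIdeal S := by
  obtain ⟨L, _, _, _, _, ⟨e⟩⟩ := h
  exact map_maximalIdeal_of_algEquiv R S map_maximalIdeal_henz e

theorem IsHenzLike.nilradical_map : (nilradical R).map (algebraMap R S) = nilradical S := by
  obtain ⟨L, _, _, _, _, ⟨e⟩⟩ := h
  refine le_antisymm (Ideal.map_le_iff_le_comap.mpr fun a ha =>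
    mem_nilradical.mpr ((mem_nilradical.mp ha).map _)) ?_
  intro z hz
  have h1 : e.symm z ∈ (nilradical R).map (algebraMap R (Henz R L)) := by
    rw [nilradical_henz]; exact mem_nilradical.mpr ((mem_nilradical.mp hz).map e.symm)
  simpa using algHom_mem_map _ e.toAlgHom h1

theorem IsHenzLike.isReduced_iff : IsReduced R ↔ IsReduced S := by
  have := h.faithfullyFlat
  refine ⟨fun hR => ?_, fun _ => isReduced_of_injective (algebraMap R S)
    (FaithfulSMul.algebraMap_injective R S)⟩
  rw [← nilradical_eq_bot_iff] at hR ⊢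
  rw [← h.nilradical_map, hR, Ideal.map_bot]

theorem IsHenzLike.eq_of_le_of_comap_eq {p q : Ideal S} [p.IsPrime] [q.IsPrime] (hle : p ≤ q)
    (heq : p.comap (algebraMap R S) = q.comap (algebraMap R S)) : p = q := by
  obtain ⟨L, _, _, _, _, ⟨e⟩⟩ := h
  have he : ∀ P : Ideal S, (P.comap e.toAlgHom).comap (algebraMap R (Henz R L)) =
      P.comap (algebraMap R S) := fun P => by
    ext r; simp
  have := eq_of_le_of_comap_eq_henz (p := p.comap e.toAlgHom) (q := q.comap e.toAlgHom)
    (Ideal.comap_mono hle) (by rw [he, he, heq])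
  exact Ideal.comap_injective_of_surjective _ e.surjective this

theorem IsHenzLike.ringKrullDim_eq : ringKrullDim S = ringKrullDim R := by
  have := h.faithfullyFlat
  refine le_antisymm (Order.krullDim_le_of_strictMono (PrimeSpectrum.comap (algebraMap R S))
    fun p q hpq => lt_of_le_of_ne (Ideal.comap_mono hpq.le) fun heq => hpq.ne ?_) ?_
  · exact PrimeSpectrum.ext (h.eq_of_le_of_comap_eq hpq.le congr(($heq).asIdeal))
  · refine iSup_le fun l => ?_
    obtain ⟨P, hP⟩ := PrimeSpectrum.comap_surjective_of_faithfullyFlat (B := S) l.last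
    have : P.asIdeal.LiesOver l.last.asIdeal := ⟨congr(($hP).asIdeal).symm⟩
    obtain ⟨L, hL, -, -⟩ := Ideal.exists_ltSeries_of_hasGoingDown l P.asIdeal
    exact le_iSup_of_le L (by rw [hL])

theorem IsHenzLike.isNoetherianRing_iff : IsNoetherianRing R ↔ IsNoetherianRing S := by
  have := h.faithfullyFlat
  refine ⟨fun _ => ?_, fun _ => isNoetherianRing_of_faithfullyFlat' R S⟩
  obtain ⟨L, _, _, _, _, ⟨e⟩⟩ := h
  have := isNoetherianRing_henz (R := R) (L := L)
  exact isNoetherianRing_of_ringEquiv _ e.toRingEquiv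

theorem IsHenzLike.spanFinrank_maximalIdeal [IsNoetherianRing R] :
    (maximalIdeal S).spanFinrank = (maximalIdeal R).spanFinrank := by
  classical
  have := h.faithfullyFlat
  have := h.isNoetherianRing_iff.mp inferInstance
  obtain ⟨t, ht, htspan⟩ :=
    (IsNoetherian.noetherian (maximalIdeal R)).exists_span_finset_card_eq_spanFinrank
  have hspanS : Ideal.span (algebraMap R S '' t) = maximalIdeal S := by
    rw [← Ideal.map_span, ← h.map_maximalIdeal]; exact congrArg _ htspan
  refine le_antisymm ?_ ?_
  · rw [← hspanS]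
    refine (Submodule.spanFinrank_span_le_ncard_of_finite (t.finite_toSet.image _)).trans ?_
    rw [← ht, ← Set.ncard_coe_finset t]
    exact Set.ncard_image_le t.finite_toSet
  · let v : t → maximalIdeal S := fun a => ⟨algebraMap R S a, by
      rw [← hspanS]; exact Ideal.subset_span ⟨a, a.2, rfl⟩⟩
    have hv : Submodule.span (ResidueField S)
        ((maximalIdeal S).toCotangent '' Set.range v) = ⊤ := by
      rw [CotangentSpace.span_image_eq_top_iff]
      refine Submodule.map_injective_of_injective (maximalIdeal S).subtype_injective ?_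
      rw [Submodule.map_span, Submodule.map_top, Submodule.range_subtype, ← Set.range_comp]
      refine Eq.trans ?_ hspanS
      congr 1
      ext z; simp [v]
    obtain ⟨b, hb, hbspan, hbli⟩ := exists_linearIndependent (ResidueField S)
      ((maximalIdeal S).toCotangent '' Set.range v)
    rw [hv] at hbspan
    rw [← Set.range_comp] at hb
    choose g hg using fun c : b => hb c.2
    have : Finite b := Finite.of_injective g fun c c' e => Subtype.ext (by rw [← hg, ← hg, e])
    have : Fintype b := Fintype.ofFinite b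
    rw [spanFinrank_maximalIdeal_eq_finrank_cotangentSpace S, ← finrank_top (ResidueField S),
      ← hbspan, finrank_span_set_eq_card hbli]
    have hgen : Submodule.span S (Set.range (v ∘ g)) = ⊤ := by
      rw [← CotangentSpace.span_image_eq_top_iff, eq_top_iff, ← hbspan]
      exact Submodule.span_mono fun c hc => ⟨v (g ⟨c, hc⟩), ⟨_, rfl⟩, hg ⟨c, hc⟩⟩
    have hgen' : Ideal.span (Set.range fun c => (g c : R)) = maximalIdeal R := by
      rw [← Ideal.comap_map_eq_self_of_faithfullyFlat (B := S) (Ideal.span _),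
        ← Ideal.comap_map_eq_self_of_faithfullyFlat (B := S) (maximalIdeal R), h.map_maximalIdeal,
        Ideal.map_span]
      congr 1
      have h2 := congrArg (Submodule.map (maximalIdeal S).subtype) hgen
      rw [Submodule.map_span, Submodule.map_top, Submodule.range_subtype] at h2
      refine Eq.trans ?_ h2
      rw [← Set.range_comp, ← Set.range_comp]
      rfl
    rw [← hgen']
    refine (Submodule.spanFinrank_span_le_ncard_of_finite (Set.finite_range _)).trans ?_
    rw [Set.toFinset_card, ← Nat.card_eq_fintype_card]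
    exact (Nat.card_coe_set_eq _).symm.trans_le (Finite.card_range_le _)

theorem IsHenzLike.isRegularLocalRing_iff [IsNoetherianRing R] :
    IsRegularLocalRing R ↔ IsRegularLocalRing S := by
  have := h.isNoetherianRing_iff.mp inferInstance
  rw [_root_.isRegularLocalRing_iff, _root_.isRegularLocalRing_iff, h.spanFinrank_maximalIdeal,
    h.ringKrullDim_eq]

end transport

end Groth.Agent.Hensel
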