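import Groth.Agent.Hensel.Local
import Mathlib.FieldTheory.PurelyInseparable.Basic
import Mathlib.RingTheory.Localization.Integral
import Mathlib.RingTheory.Polynomial.ScaleRoots
import Mathlib.RingTheory.LocalRing.ResidueField.Basic

/-!
# Integral algebras over strictly henselian local rings, absolutely integrally closed rings
-/

noncomputable section

namespace Groth.Agent.Hensel

universe u

open IsLocalRing Polynomial

variable (A B : Type u) [CommRing A] [CommRing B] [Algebra A B] [Algebra.IsIntegral A B]

theorem isLocalRing_of_isIntegral_domain [HenselianLocalRing A] [IsDomain B] : IsLocalRing B := by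
  obtain ⟨M₀, hM₀⟩ := Ideal.exists_maximal B
  refine IsLocalRing.of_unique_max_ideal ⟨M₀, hM₀, fun M hM => ?_⟩
  by_contra hne
  obtain ⟨b, hbM, hbM₀⟩ : ∃ b, b ∈ M ∧ b ∉ M₀ := by
    by_contra hh
    push Not at hh
    exact hne (hM.eq_of_le hM₀.ne_top hh)
  let F := Algebra.adjoin A ({b} : Set B)
  have : Module.Finite A F := ⟨(Submodule.fg_top _).mpr
    (fg_adjoin_of_finite (Set.finite_singleton b) fun x _ => Algebra.IsIntegral.isIntegral x)⟩
  obtain ⟨_, e, he, hM'⟩ := exists_idempotents_of_henselian A F
  have hmax : ∀ N : Ideal B, N.IsMaximal → (N.comap F.val).IsMaximal := fun N hN => by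
    have : (N.comap (algebraMap A B)).IsMaximal := Ideal.isMaximal_comap_of_isIntegral_of_isMaximal N
    refine Ideal.isMaximal_of_isIntegral_of_isMaximal_comap (R := A) _ ?_
    exact this
  let m₁ : MaximalSpectrum F := ⟨_, hmax M hM⟩
  let m₀ : MaximalSpectrum F := ⟨_, hmax M₀ hM₀⟩
  have hne' : m₀ ≠ m₁ := fun h => hbM₀ <| by
    have := SetLike.ext_iff.mp congr(($h).asIdeal) ⟨b, Algebra.subset_adjoin rfl⟩
    exact this.mpr hbM
  have h1 : e m₁ = 1 :=
    (IsIdempotentElem.iff_eq_zero_or_one.mp (he.idem m₁)).resolve_left fun h =>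
      (hM' m₁).1 (h ▸ zero_mem _)
  exact m₀.isMaximal.ne_top ((Ideal.eq_top_iff_one _).mpr (h1 ▸ (hM' m₁).2 m₀ hne'))

theorem isLocalHom_of_isIntegral_local [IsLocalRing A] [IsLocalRing B] :
    IsLocalHom (algebraMap A B) := ⟨fun r hr => by
  by_contra hn
  have := Ideal.isMaximal_comap_of_isIntegral_of_isMaximal (R := A) (maximalIdeal B)
  exact (IsLocalRing.eq_maximalIdeal this).ge hn hr⟩

theorem henselianLocalRing_of_isIntegral_local [HenselianLocalRing A] [IsLocalRing B] :
    HenselianLocalRing B := by
  have : HenselianRing B ((maximalIdeal A).map (algebraMap A B)) :=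
    henselianRing_of_isIntegral' (maximalIdeal A) B
  refine henselianLocalRing_of_radical_eq B ((maximalIdeal A).map (algebraMap A B)) ?_
  rw [Ideal.radical_eq_sInf]
  refine le_antisymm (sInf_le ⟨?_, inferInstance⟩) (le_sInf fun Q hQ => ?_)
  · have := isLocalHom_of_isIntegral_local A B
    exact Ideal.map_le_iff_le_comap.mpr fun a ha hu => ha (IsUnit.of_map (algebraMap A B) a hu)
  · obtain ⟨hQ, hQp⟩ := hQ
    have hc : (Q.comap (algebraMap A B)).IsMaximal := by
      rw [← (maximalIdeal.isMaximal A).eq_of_le (Ideal.IsPrime.ne_top inferInstance)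
        (Ideal.map_le_iff_le_comap.mp hQ)]
      infer_instance
    exact (IsLocalRing.eq_maximalIdeal (Ideal.isMaximal_of_isIntegral_of_isMaximal_comap Q hc)).ge

theorem residueField_of_isIntegral [IsLocalRing A] [IsLocalRing B] [IsLocalHom (algebraMap A B)]
    [IsSepClosed (ResidueField A)] :
    IsSepClosed (ResidueField B) ∧
      letI := (ResidueField.map (algebraMap A B)).toAlgebra
      IsPurelyInseparable (ResidueField A) (ResidueField B) := by
  let := (ResidueField.map (algebraMap A B)).toAlgebra
  have : IsScalarTower A (ResidueField A) (ResidueField B) := .of_algebraMap_eq fun a =>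
    ((ResidueField.map_residue (algebraMap A B) a).symm)
  have : Algebra.IsIntegral A (ResidueField B) := ⟨fun x => by
    obtain ⟨b, rfl⟩ := residue_surjective x
    exact (Algebra.IsIntegral.isIntegral b).map (IsScalarTower.toAlgHom A B (ResidueField B))⟩
  have : Algebra.IsIntegral (ResidueField A) (ResidueField B) :=
    Algebra.IsIntegral.tower_top (R := A)
  exact ⟨Algebra.IsAlgebraic.isSepClosed (F := ResidueField A), inferInstance⟩

theorem strictlyHenselian_localization_of_split {A : Type u} [CommRing A]
    (hA : ∀ f : A[X], f.Monic → ∃ s : Multiset A, f = (s.map fun a => X - C a).prod)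
    (p : Ideal A) [p.IsPrime] :
    ∃ _ : HenselianLocalRing (Localization.AtPrime p),
      IsSepClosed (ResidueField (Localization.AtPrime p)) := by
  let L := Localization.AtPrime p
  have key : ∀ P : L[X], P.Monic → ∃ (s : L) (m : Multiset L), IsUnit s ∧
      m.card = P.natDegree ∧ ∀ x : L, s ^ P.natDegree * P.eval x = (m.map fun a => s * x - a).prod := by
    intro P hP
    let s := IsLocalization.commonDenom p.primeCompl P.support P.coeff
    have hl : P.scaleRoots (algebraMap A L s) ∈ lifts (algebraMap A L) :=
      IsLocalization.scaleRoots_commonDenom_mem_lifts p.primeCompl P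
        (by rw [hP.leadingCoeff]; exact one_mem _)
    obtain ⟨Q, hQ, -, hQm⟩ := lifts_and_natDegree_eq_and_monic hl ((monic_scaleRoots_iff _).mpr hP)
    obtain ⟨m, hm⟩ := hA Q hQm
    have : Nontrivial A := (algebraMap A L).domain_nontrivial
    refine ⟨algebraMap A L s, m.map (algebraMap A L), IsLocalization.map_units L s, ?_, fun x => ?_⟩
    · rw [Multiset.card_map, ← natDegree_scaleRoots P (algebraMap A L s), ← hQ, hQm.natDegree_map, hm,
        natDegree_multiset_prod_X_sub_C_eq_card]
    · rw [← scaleRoots_eval_mul, ← hQ, hm, Polynomial.map_multiset_prod, eval_multiset_prod,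
        Multiset.map_map, Multiset.map_map, Multiset.map_map]
      simp [Function.comp_def]
  have hens : HenselianLocalRing L := by
    constructor
    intro f hf a₀ h₁ _
    obtain ⟨s, m, hs, -, h⟩ := key f hf
    obtain ⟨a, ha, hmem⟩ : ∃ a ∈ m, s * a₀ - a ∈ maximalIdeal L := by
      by_contra hh
      push Not at hh
      have : IsUnit (m.map fun a => s * a₀ - a).prod := by
        refine Multiset.prod_induction IsUnit _ (fun _ _ => IsUnit.mul) isUnit_one fun y hy => ?_
        obtain ⟨a, ha, rfl⟩ := Multiset.mem_map.mp hy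
        exact notMem_maximalIdeal.mp (hh a ha)
      rw [← h] at this
      exact h₁ (isUnit_of_mul_isUnit_right this)
    obtain ⟨t, ht⟩ := hs.exists_left_inv
    refine ⟨t * a, ?_, ?_⟩
    · have : s ^ f.natDegree * f.eval (t * a) = 0 := by
        rw [h]
        exact Multiset.prod_eq_zero (Multiset.mem_map.mpr ⟨a, ha, by linear_combination a * ht⟩)
      exact (hs.pow _).mul_right_eq_zero.mp this
    · have : t * a - a₀ = -t * (s * a₀ - a) := by linear_combination a₀ * ht
      rw [this]
      exact Ideal.mul_mem_left _ _ hmem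
  refine ⟨hens, IsSepClosed.of_exists_root _ fun q hq hirr _ => ?_⟩
  obtain ⟨P, hP, -, hPm⟩ := lifts_and_natDegree_eq_and_monic
    ((mem_lifts q).mpr (Polynomial.map_surjective _ residue_surjective q)) hq
  obtain ⟨s, m, hs, hcard, h⟩ := key P hPm
  obtain ⟨a, ha⟩ : ∃ a, a ∈ m := by
    refine Multiset.card_pos_iff_exists_mem.mp ?_
    rw [hcard, ← hPm.natDegree_map (residue L), hP]
    exact hirr.natDegree_pos
  obtain ⟨t, ht⟩ := hs.exists_left_inv
  have : s ^ P.natDegree * P.eval (t * a) = 0 := by
    rw [h]
    exact Multiset.prod_eq_zero (Multiset.mem_map.mpr ⟨a, ha, by linear_combination a * ht⟩)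
  exact ⟨residue L (t * a), by rw [← hP, eval_map_apply, (hs.pow _).mul_right_eq_zero.mp this, map_zero]⟩

end Groth.Agent.Hensel
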