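import Groth.Agent.Hensel.Local
import Groth.Agent.Hensel.Semilocal
import Mathlib.RingTheory.ZariskisMainTheorem
import Mathlib.RingTheory.Unramified.LocalRing
import Mathlib.RingTheory.Unramified.LocalStructure
import Mathlib.RingTheory.Flat.Localization
import Mathlib.RingTheory.Flat.FaithfullyFlat.Algebra
import Mathlib.FieldTheory.IsSepClosed
import Mathlib.RingTheory.Noetherian.Basic
import Mathlib.RingTheory.Localization.Away.Lemmas

/-!
# Splitting off the quasi-finite part over a henselian local ring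
-/

noncomputable section

namespace Groth.Agent.Hensel

universe u v

open IsLocalRing

section generalities

variable {R : Type u} [CommRing R] {S : Type v} [CommRing S] [Algebra R S]

theorem idem_mul_self_mk {e : S} (b : S) :
    Ideal.Quotient.mk (Ideal.span {1 - e}) (e * b) = Ideal.Quotient.mk _ b :=
  Ideal.Quotient.eq.mpr (Ideal.mem_span_singleton'.mpr ⟨-b, by ring⟩)

theorem module_finite_quotient_iff {e : S} (he : IsIdempotentElem e) :
    Module.Finite R (S ⧸ Ideal.span {1 - e}) ↔ (LinearMap.range (LinearMap.mulLeft R e)).FG := by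
  constructor
  · intro h
    let f : (S ⧸ Ideal.span {1 - e}) →ₗ[R] S :=
      ((Ideal.span {1 - e}).restrictScalars R).liftQ (LinearMap.mulLeft R e) (fun x hx => by
        obtain ⟨c, rfl⟩ := Ideal.mem_span_singleton'.mp hx
        show e * (c * (1 - e)) = 0
        linear_combination (-c) * he.eq) ∘ₗ
      ((Submodule.Quotient.restrictScalarsEquiv R (Ideal.span {1 - e})).symm.toLinearMap)
    rw [show LinearMap.range (LinearMap.mulLeft R e) = LinearMap.range f from ?_]
    · exact LinearMap.range_eq_map f ▸ (Module.finite_def.mp h).map f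
    ext y
    constructor
    · rintro ⟨x, rfl⟩; exact ⟨Ideal.Quotient.mk _ x, rfl⟩
    · rintro ⟨x, rfl⟩
      obtain ⟨x, rfl⟩ := Ideal.Quotient.mk_surjective x
      exact ⟨x, rfl⟩
  · intro h
    refine ⟨?_⟩
    rw [show (⊤ : Submodule R (S ⧸ Ideal.span {1 - e})) = (LinearMap.range (LinearMap.mulLeft R e)).map
      (Ideal.Quotient.mkₐ R (Ideal.span {1 - e})).toLinearMap from ?_]
    · exact h.map _
    refine (eq_top_iff.mpr fun y _ => ?_).symm
    obtain ⟨x, rfl⟩ := Ideal.Quotient.mk_surjective y
    exact ⟨e * x, ⟨x, rfl⟩, idem_mul_self_mk x⟩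

theorem module_finite_quotient_union {f g : S} (hf : IsIdempotentElem f) (hg : IsIdempotentElem g)
    (hF : Module.Finite R (S ⧸ Ideal.span {1 - f})) (hG : Module.Finite R (S ⧸ Ideal.span {1 - g})) :
    IsIdempotentElem (f + g - f * g) ∧
      Module.Finite R (S ⧸ Ideal.span {1 - (f + g - f * g)}) := by
  have h : IsIdempotentElem (f + g - f * g) := by
    rw [IsIdempotentElem]; linear_combination (1 - 2 * g + g * g) * hf.eq + (1 - f) * hg.eq
  refine ⟨h, (module_finite_quotient_iff h).mpr ?_⟩
  rw [show LinearMap.range (LinearMap.mulLeft R (f + g - f * g)) =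
    LinearMap.range (LinearMap.mulLeft R f) ⊔ LinearMap.range (LinearMap.mulLeft R g) from ?_]
  · exact ((module_finite_quotient_iff hf).mp hF).sup ((module_finite_quotient_iff hg).mp hG)
  refine le_antisymm ?_ (sup_le ?_ ?_)
  · rintro _ ⟨x, rfl⟩
    exact Submodule.mem_sup.mpr ⟨f * x, ⟨x, rfl⟩, g * ((1 - f) * x), ⟨(1 - f) * x, rfl⟩,
      by simp only [LinearMap.mulLeft_apply]; ring⟩
  · rintro _ ⟨x, rfl⟩
    refine ⟨f * x, ?_⟩
    simp only [LinearMap.mulLeft_apply]
    linear_combination (x * (1 - g)) * hf.eq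
  · rintro _ ⟨x, rfl⟩
    refine ⟨g * x, ?_⟩
    simp only [LinearMap.mulLeft_apply]
    linear_combination (x * (1 - f)) * hg.eq

/-- If a ring splits as a product, quasi-finiteness at a prime of a factor is quasi-finiteness at
the prime of the product. -/
theorem quasiFiniteAt_comap_quotient {e : S} (he : IsIdempotentElem e)
    (q : Ideal (S ⧸ Ideal.span {e})) [q.IsPrime] [Algebra.QuasiFiniteAt R q] :
    Algebra.QuasiFiniteAt R (q.comap (Ideal.Quotient.mk (Ideal.span {e}))) := by
  let Q := q.comap (Ideal.Quotient.mk (Ideal.span {e}))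
  have heQ : e ∈ Q := by
    show Ideal.Quotient.mk _ e ∈ q
    rw [Ideal.Quotient.eq_zero_iff_mem.mpr (Ideal.mem_span_singleton_self _)]
    exact zero_mem _
  have hu : IsUnit (algebraMap S (Localization.AtPrime Q) (1 - e)) :=
    IsLocalization.map_units _ (⟨1 - e, fun h => (Ideal.IsPrime.ne_top (I := Q) inferInstance)
      ((Ideal.eq_top_iff_one Q).mpr (by simpa using Q.add_mem h heQ))⟩ : Q.primeCompl)
  have hle : Ideal.span {e} ≤ RingHom.ker (algebraMap S (Localization.AtPrime Q)) := by
    rw [Ideal.span_le, Set.singleton_subset_iff]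
    refine hu.mul_left_eq_zero.mp ?_
    rw [← map_mul, mul_sub, mul_one, he.eq, sub_self, map_zero]
  let θ : (S ⧸ Ideal.span {e}) →ₐ[R] Localization.AtPrime Q :=
    Ideal.Quotient.liftₐ (Ideal.span {e}) (IsScalarTower.toAlgHom R S _) fun a ha => hle ha
  have hθ : ∀ t : q.primeCompl, IsUnit (θ t) := fun ⟨t, ht⟩ => by
    obtain ⟨t, rfl⟩ := Ideal.Quotient.mk_surjective t
    exact IsLocalization.map_units (Localization.AtPrime Q) (⟨t, ht⟩ : Q.primeCompl)
  let Θ : Localization.AtPrime q →ₐ[R] Localization.AtPrime Q :=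
    IsLocalization.liftAlgHom (M := q.primeCompl) (f := θ) hθ
  refine Algebra.QuasiFinite.of_surjective_algHom Θ fun z => ?_
  obtain ⟨x, ⟨s, hs⟩, rfl⟩ := IsLocalization.exists_mk'_eq Q.primeCompl z
  refine ⟨IsLocalization.mk' _ (Ideal.Quotient.mk (Ideal.span {e}) x)
    (⟨Ideal.Quotient.mk _ s, hs⟩ : q.primeCompl), ?_⟩
  show IsLocalization.lift hθ _ = _
  rw [IsLocalization.lift_mk'_spec]
  exact (IsLocalization.mk'_spec' (Localization.AtPrime Q) x ⟨s, hs⟩).symm

/-- A finite flat unramified local algebra with trivial residue field extension is trivial. -/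
theorem bijective_algebraMap_of_flat_unramified {R T : Type u} [CommRing R] [IsLocalRing R]
    [CommRing T] [IsLocalRing T] [Algebra R T] [IsLocalHom (algebraMap R T)] [Module.Finite R T]
    [Module.Flat R T] [Algebra.FormallyUnramified R T]
    (hres : ∀ t : T, ∃ r : R, t - algebraMap R T r ∈ maximalIdeal T) :
    Function.Bijective (algebraMap R T) := by
  have : Module.FaithfullyFlat R T := Module.FaithfullyFlat.of_flat_of_isLocalHom
  refine ⟨FaithfulSMul.algebraMap_injective R T, ?_⟩
  have hm : (maximalIdeal R).map (algebraMap R T) = maximalIdeal T :=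
    Algebra.FormallyUnramified.map_maximalIdeal
  have h : (⊤ : Submodule R T) ≤ LinearMap.range (Algebra.linearMap R T) ⊔
      maximalIdeal R • (⊤ : Submodule R T) := by
    intro t _
    obtain ⟨r, hr⟩ := hres t
    rw [← hm] at hr
    refine Submodule.mem_sup.mpr ⟨algebraMap R T r, ⟨r, rfl⟩, t - algebraMap R T r, ?_, by ring⟩
    rw [Ideal.smul_top_eq_map]
    exact hr
  exact LinearMap.range_eq_top.mp (eq_top_iff.mpr
    (Submodule.le_of_le_smul_of_le_jacobson_bot Module.Finite.fg_top
      (IsLocalRing.maximalIdeal_le_jacobson ⊥) h))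

end generalities

section henselian

variable (R : Type u) [CommRing R] [HenselianLocalRing R] {S : Type v} [CommRing S] [Algebra R S]
  [Algebra.FiniteType R S]

theorem exists_idempotent_of_quasiFiniteAt (q : Ideal S) [q.IsPrime]
    [q.LiesOver (maximalIdeal R)] [Algebra.QuasiFiniteAt R q] :
    ∃ e : S, IsIdempotentElem e ∧ e ∉ q ∧ Module.Finite R (S ⧸ Ideal.span {1 - e}) ∧
      IsLocalRing (S ⧸ Ideal.span {1 - e}) := by
  obtain ⟨S', hS', r, hrq, hb⟩ :=
    Algebra.QuasiFiniteAt.exists_fg_and_exists_notMem_and_awayMap_bijective (R := R) q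
  have : Module.Finite R S' := ⟨(Submodule.fg_top _).mpr hS'⟩
  have hu : ∀ u : S, ∃ N, ∃ a : S', (r : S) ^ N * u = a := fun u => by
    obtain ⟨a, m, e⟩ := Localization.awayMap_surjective_iff.mp hb.2 u
    exact ⟨m, a, (show (a : S) = (r : S) ^ m * u by simpa using e).symm⟩
  let q' : Ideal S' := q.comap S'.val
  have hq' : q'.IsMaximal := by
    refine Ideal.isMaximal_of_isIntegral_of_isMaximal_comap (R := R) q' ?_
    rw [show q'.comap (algebraMap R S') = q.comap (algebraMap R S) by ext; simp [q'],
      show q.comap (algebraMap R S) = maximalIdeal R from (q.over_def (maximalIdeal R)).symm]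
    infer_instance
  obtain ⟨_, e', he', hM⟩ := exists_idempotents_of_henselian R S'
  let M : MaximalSpectrum S' := ⟨q', hq'⟩
  have := isLocalRing_quotient_one_sub he'.idem hM M
  have hr : IsUnit (Ideal.Quotient.mk (Ideal.span {1 - e' M}) r) := by
    by_contra h
    have hmem : Ideal.Quotient.mk (Ideal.span {1 - e' M}) r ∈ maximalIdeal _ := h
    have hmax : ((maximalIdeal (S' ⧸ Ideal.span {1 - e' M})).comap
        (Ideal.Quotient.mk (Ideal.span {1 - e' M}))).IsMaximal :=
      Ideal.comap_isMaximal_of_surjective _ Ideal.Quotient.mk_surjective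
    rcases eq_or_ne (⟨_, hmax⟩ : MaximalSpectrum S') M with heq | hne
    · exact hrq (show r ∈ q' from (SetLike.ext_iff.mp congr(($heq).asIdeal) r).mp hmem)
    · have h1 : Ideal.Quotient.mk (Ideal.span {1 - e' M}) (e' M) ∈ maximalIdeal _ :=
        (hM M).2 _ hne
      rw [show Ideal.Quotient.mk (Ideal.span {1 - e' M}) (e' M) = 1 by
        rw [← map_one (Ideal.Quotient.mk (Ideal.span {1 - e' M})), Ideal.Quotient.eq,
          Ideal.mem_span_singleton']
        exact ⟨-1, by ring⟩] at h1
      exact Ideal.IsPrime.ne_top inferInstance ((Ideal.eq_top_iff_one _).mpr h1)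
  let e : S := e' M
  have he : IsIdempotentElem e := (he'.idem M).map S'.val
  have heq : e ∉ q := fun h => (hM M).1 h
  let φ : S' ⧸ Ideal.span {1 - e' M} →ₐ[R] S ⧸ Ideal.span {1 - e} :=
    Ideal.Quotient.liftₐ _ ((Ideal.Quotient.mkₐ R _).comp S'.val) fun a ha => by
      obtain ⟨c, rfl⟩ := Ideal.mem_span_singleton'.mp ha
      exact Ideal.Quotient.eq_zero_iff_mem.mpr
        (Ideal.mem_span_singleton'.mpr ⟨(c : S), by simp [e]⟩)
  have hφ : Function.Surjective φ := fun y => by
    obtain ⟨u, rfl⟩ := Ideal.Quotient.mk_surjective y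
    obtain ⟨N, a, ha⟩ := hu u
    obtain ⟨c, hc⟩ := hr.exists_left_inv
    refine ⟨c ^ N * Ideal.Quotient.mk _ a, ?_⟩
    have h1 : φ (Ideal.Quotient.mk _ a) =
        (Ideal.Quotient.mk _ (r : S)) ^ N * Ideal.Quotient.mk (Ideal.span {1 - e}) u := by
      show Ideal.Quotient.mk _ (a : S) = _
      rw [← ha, map_mul, map_pow]
    have h2 : φ (Ideal.Quotient.mk (Ideal.span {1 - e' M}) r) =
        Ideal.Quotient.mk (Ideal.span {1 - e}) (r : S) := rfl
    rw [map_mul, map_pow, h1, ← mul_assoc, ← mul_pow, ← h2, ← map_mul, hc, map_one, one_pow,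
      one_mul]
  have : Nontrivial (S ⧸ Ideal.span {1 - e}) := by
    refine Ideal.Quotient.nontrivial_iff.mpr fun h => heq ?_
    have hu' : IsUnit (1 - e) := Ideal.span_singleton_eq_top.mp h
    have : 1 - e = 1 := hu'.mul_left_cancel (he.one_sub.eq.trans (mul_one _).symm)
    rw [sub_eq_self.mp this]
    exact zero_mem _
  exact ⟨e, he, heq, Module.Finite.of_surjective φ.toLinearMap hφ,
    IsLocalRing.of_surjective' φ.toRingHom hφ⟩

theorem exists_finite_localization_of_quasiFiniteAt (q : Ideal S) [q.IsPrime]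
    [q.LiesOver (maximalIdeal R)] [Algebra.QuasiFiniteAt R q] :
    Module.Finite R (Localization.AtPrime q) := by
  obtain ⟨e, he, heq, hfin, hloc⟩ := exists_idempotent_of_quasiFiniteAt R q
  have hq1 : 1 - e ∈ q := ((‹q.IsPrime›.mem_or_mem (show e * (1 - e) ∈ q by
    rw [mul_sub, mul_one, he.eq, sub_self]; exact zero_mem _)).resolve_left heq)
  let qb : Ideal (S ⧸ Ideal.span {1 - e}) := q.map (Ideal.Quotient.mk _)
  have hker : RingHom.ker (Ideal.Quotient.mk (Ideal.span {1 - e})) ≤ q := by
    rw [Ideal.mk_ker, Ideal.span_le, Set.singleton_subset_iff]; exact hq1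
  have hqb : qb.IsPrime := Ideal.map_isPrime_of_surjective Ideal.Quotient.mk_surjective hker
  have hcomap : qb.comap (Ideal.Quotient.mk _) = q := by
    rw [Ideal.comap_map_of_surjective _ Ideal.Quotient.mk_surjective, ← RingHom.ker_eq_comap_bot,
      sup_eq_left.mpr hker]
  have hqbmax : qb.IsMaximal := by
    refine Ideal.isMaximal_of_isIntegral_of_isMaximal_comap (R := R) qb ?_
    rw [show algebraMap R (S ⧸ Ideal.span {1 - e}) = (Ideal.Quotient.mk _).comp (algebraMap R S) from rfl,
      ← Ideal.comap_comap, hcomap,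
      show q.comap (algebraMap R S) = maximalIdeal R from (q.over_def (maximalIdeal R)).symm]
    infer_instance
  have : IsLocalization.AtPrime (S ⧸ Ideal.span {1 - e}) q := by
    constructor
    refine ⟨fun s => ?_, fun z => ?_, fun {x y} h => ?_⟩
    · by_contra hu
      have hmem : Ideal.Quotient.mk (Ideal.span {1 - e}) s.1 ∈ qb :=
        (IsLocalRing.eq_maximalIdeal hqbmax).ge hu
      exact s.2 (hcomap.le (show s.1 ∈ qb.comap (Ideal.Quotient.mk _) from hmem))
    · obtain ⟨b, rfl⟩ := Ideal.Quotient.mk_surjective z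
      exact ⟨(b, 1), by simp⟩
    · rw [Ideal.Quotient.algebraMap_eq, Ideal.Quotient.eq, Ideal.mem_span_singleton'] at h
      obtain ⟨c, hc⟩ := h
      refine ⟨⟨e, heq⟩, ?_⟩
      show e * x = e * y
      linear_combination (-e) * hc - c * he.eq
  exact Module.Finite.equiv
    (((IsLocalization.algEquiv q.primeCompl (S ⧸ Ideal.span {1 - e})
      (Localization.AtPrime q)).restrictScalars R).toLinearEquiv)

variable (S) in
theorem exists_finite_split :
    ∃ e : S, IsIdempotentElem e ∧ Module.Finite R (S ⧸ Ideal.span {1 - e}) ∧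
      ∀ (q : Ideal (S ⧸ Ideal.span ({e} : Set S))) [q.IsPrime],
        q.LiesOver (maximalIdeal R) → ¬ Algebra.QuasiFiniteAt R q := by
  classical
  let E : Set S := {e | IsIdempotentElem e ∧ Module.Finite R (S ⧸ Ideal.span {1 - e})}
  let π := Ideal.Quotient.mk ((maximalIdeal R).map (algebraMap R S))
  have : IsNoetherianRing (S ⧸ (maximalIdeal R).map (algebraMap R S)) := by
    let : Algebra (R ⧸ maximalIdeal R) (S ⧸ (maximalIdeal R).map (algebraMap R S)) :=
      (Ideal.quotientMap _ (algebraMap R S) Ideal.le_comap_map).toAlgebra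
    have : IsScalarTower R (R ⧸ maximalIdeal R) (S ⧸ (maximalIdeal R).map (algebraMap R S)) :=
      .of_algebraMap_eq fun _ => rfl
    have : Algebra.FiniteType (R ⧸ maximalIdeal R) (S ⧸ (maximalIdeal R).map (algebraMap R S)) :=
      Algebra.FiniteType.of_restrictScalars_finiteType R _ _
    let := Ideal.Quotient.field (maximalIdeal R)
    exact Algebra.FiniteType.isNoetherianRing (R ⧸ maximalIdeal R) _
  obtain ⟨t, htE, ht⟩ := (Submodule.fg_span_iff_fg_span_finset_subset (π '' E)).mp
    (IsNoetherian.noetherian (Ideal.span (π '' E)))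
  choose g hg hgt using fun z : t => htE z.2
  suffices h : ∀ s : Finset t, ∃ e : S, e ∈ E ∧ ∀ z ∈ s, g z * e = g z by
    obtain ⟨e, ⟨he, hfin⟩, hge⟩ := h Finset.univ
    refine ⟨e, he, hfin, fun q hq hover hqf => ?_⟩
    let Q := q.comap (Ideal.Quotient.mk (Ideal.span {e}))
    have : Q.IsPrime := hq.comap _
    have : Algebra.QuasiFiniteAt R Q := quasiFiniteAt_comap_quotient he q
    have : Q.LiesOver (maximalIdeal R) := ⟨by
      rw [q.over_def (maximalIdeal R)]; rfl⟩
    obtain ⟨e', he', heQ, hfin', -⟩ := exists_idempotent_of_quasiFiniteAt R Q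
    have heQ' : e ∈ Q := by
      show Ideal.Quotient.mk _ e ∈ q
      rw [Ideal.Quotient.eq_zero_iff_mem.mpr (Ideal.mem_span_singleton_self _)]
      exact zero_mem _
    have hm : (maximalIdeal R).map (algebraMap R S) ≤ Q :=
      Ideal.map_le_iff_le_comap.mpr (Q.over_def (maximalIdeal R)).le
    have hmem : π e' ∈ Ideal.span (π '' E) := Ideal.subset_span ⟨e', ⟨he', hfin'⟩, rfl⟩
    have hle : Ideal.span (π '' E) ≤ Q.map π := by
      rw [show Ideal.span (π '' E) = Submodule.span _ (↑t : Set _) from ht]
      refine Submodule.span_le.mpr fun z hz => ?_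
      rw [show z = π (g ⟨z, hz⟩) from (hgt ⟨z, hz⟩).symm, ← hge ⟨z, hz⟩ (Finset.mem_univ _)]
      exact Ideal.mem_map_of_mem _ (Ideal.mul_mem_left _ _ heQ')
    refine heQ ?_
    have h2 : e' ∈ (Q.map π).comap π := hle hmem
    rwa [Ideal.comap_map_mk hm] at h2
  intro s
  induction s using Finset.induction with
  | empty =>
    refine ⟨0, ⟨IsIdempotentElem.zero, ?_⟩, by simp⟩
    have : Subsingleton (S ⧸ Ideal.span {1 - (0 : S)}) :=
      Ideal.Quotient.subsingleton_iff.mpr (by simp)
    infer_instance
  | insert a s _ ih =>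
    obtain ⟨e, ⟨he, hfin⟩, hs⟩ := ih
    obtain ⟨h1, h2⟩ := module_finite_quotient_union (hg a).1 he (hg a).2 hfin
    refine ⟨_, ⟨h1, h2⟩, fun z hz => ?_⟩
    rcases Finset.mem_insert.mp hz with rfl | hz
    · linear_combination (1 - e) * (hg z).1.eq
    · linear_combination (1 - g a) * hs z hz

theorem exists_quasiFinite_split [Algebra.QuasiFinite R S] :
    ∃ e : S, IsIdempotentElem e ∧ Module.Finite R (S ⧸ Ideal.span {1 - e}) ∧
      Ideal.map (algebraMap R (S ⧸ Ideal.span ({e} : Set S))) (maximalIdeal R) = ⊤ := by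
  obtain ⟨e, he, hfin, hq⟩ := exists_finite_split R S
  refine ⟨e, he, hfin, ?_⟩
  by_contra hne
  obtain ⟨M, hM, hle⟩ := Ideal.exists_le_maximal _ hne
  have : M.LiesOver (maximalIdeal R) := ⟨(maximalIdeal.isMaximal R).eq_of_le
    (Ideal.IsPrime.ne_top (hM.isPrime.comap _)) (Ideal.map_le_iff_le_comap.mp hle)⟩
  exact hq M this inferInstance

end henselian

section converse

variable (R : Type u) [CommRing R] [IsLocalRing R]

theorem nonempty_algHom_of_finite_localization (S : Type u) [CommRing S] [Algebra R S]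
    [Algebra.Etale R S] (q : Ideal S) [q.IsPrime] [q.LiesOver (maximalIdeal R)]
    (hres : Function.Surjective (algebraMap R q.ResidueField))
    (hfin : Module.Finite R (Localization.AtPrime q)) : Nonempty (S →ₐ[R] R) := by
  let T := Localization.AtPrime q
  have : IsLocalHom (algebraMap R T) := ⟨fun r hr => by
    by_contra h
    rw [IsScalarTower.algebraMap_apply R S T, IsLocalization.AtPrime.isUnit_to_map_iff T q] at hr
    exact hr (show r ∈ q.under R by rw [← q.over_def (maximalIdeal R)]; exact h)⟩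
  have : Module.Flat S T := IsLocalization.flat T q.primeCompl
  have : Module.Flat R T := Module.Flat.trans R S T
  have : Algebra.FormallyUnramified R T :=
    have : Algebra.FormallyUnramified S T := .of_isLocalization q.primeCompl
    Algebra.FormallyUnramified.comp R S T
  have hb : Function.Bijective (algebraMap R T) :=
    bijective_algebraMap_of_flat_unramified fun t => by
      obtain ⟨r, hr⟩ := hres (residue T t)
      refine ⟨r, ?_⟩
      rw [← residue_eq_zero_iff, map_sub, sub_eq_zero, ← hr]
      exact IsScalarTower.algebraMap_apply R T q.ResidueField r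
  exact ⟨(AlgEquiv.ofBijective (Algebra.ofId R T) hb).symm.toAlgHom.comp
    (IsScalarTower.toAlgHom R S T)⟩

theorem henselianLocalRing_of_finite_localization
    (h : ∀ (S : Type u) [CommRing S] [Algebra R S] [Algebra.FiniteType R S] (q : Ideal S) [q.IsPrime],
      q.LiesOver (maximalIdeal R) → Algebra.QuasiFiniteAt R q →
        Module.Finite R (Localization.AtPrime q)) : HenselianLocalRing R :=
  henselianLocalRing_of_etale_retraction R fun S _ _ _ q _ hq hres =>
    nonempty_algHom_of_finite_localization R S q hres (h S q hq inferInstance)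

theorem henselianLocalRing_of_split
    (h : ∀ (S : Type u) [CommRing S] [Algebra R S] [Algebra.FiniteType R S],
      ∃ e : S, IsIdempotentElem e ∧ Module.Finite R (S ⧸ Ideal.span ({1 - e} : Set S)) ∧
        ∀ (q : Ideal (S ⧸ Ideal.span ({e} : Set S))) [q.IsPrime],
          q.LiesOver (maximalIdeal R) → ¬ Algebra.QuasiFiniteAt R q) :
    HenselianLocalRing R := by
  refine henselianLocalRing_of_etale_retraction R fun S _ _ _ q _ hq hres => ?_
  obtain ⟨g, hgq, hg⟩ := Ideal.exists_not_mem_forall_mem_of_ne_of_liesOver (maximalIdeal R) q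
  let V := Localization.Away g
  have hgu : IsUnit (Algebra.ofId S q.ResidueField g) := by
    refine isUnit_iff_ne_zero.mpr fun h0 => hgq ?_
    exact Ideal.algebraMap_residueField_eq_zero.mp h0
  let χ : V →ₐ[R] q.ResidueField :=
    IsLocalization.liftAlgHom (M := Submonoid.powers g)
      (f := IsScalarTower.toAlgHom R S q.ResidueField) (fun y => by
        obtain ⟨_, n, rfl⟩ := y
        simpa using hgu.pow n)
  have hχ : ∀ x : S, χ (algebraMap S V x) = algebraMap S q.ResidueField x := fun x =>
    IsLocalization.lift_eq _ x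
  have hχs : Function.Surjective χ := fun x => by
    obtain ⟨r, rfl⟩ := hres x
    exact ⟨algebraMap R V r, χ.commutes r⟩
  let qV : Ideal V := RingHom.ker χ
  have hqV : qV.IsMaximal := RingHom.ker_isMaximal_of_surjective χ hχs
  have hqVS : qV.under S = q := by
    ext x
    show χ (algebraMap S V x) = 0 ↔ _
    rw [hχ, Ideal.algebraMap_residueField_eq_zero]
  have hqVR : qV.LiesOver (maximalIdeal R) := ⟨by
    rw [← Ideal.under_under (B := S), hqVS, ← q.over_def (maximalIdeal R)]⟩
  have huniq : ∀ Q : Ideal V, Q.IsPrime → Q.LiesOver (maximalIdeal R) → Q = qV := by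
    intro Q hQ hover
    have hS : Q.under S = q := by
      by_contra hne
      have : (Q.under S).LiesOver (maximalIdeal R) := ⟨by
        rw [Ideal.under_under, ← Q.over_def (maximalIdeal R)]⟩
      exact hQ.ne_top (Ideal.eq_top_of_isUnit_mem _ (hg (Q.under S) inferInstance hne this)
        (IsLocalization.Away.algebraMap_isUnit g))
    rw [← IsLocalization.map_comap (Submonoid.powers g) V Q,
      ← IsLocalization.map_comap (Submonoid.powers g) V qV]
    exact congrArg (Ideal.map (algebraMap S V)) (hS.trans hqVS.symm)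
  obtain ⟨e, he, hfin, hno⟩ := h V
  have heqV : e ∉ qV := fun hmem => by
    let Q : Ideal (V ⧸ Ideal.span {e}) := qV.map (Ideal.Quotient.mk _)
    have hker : RingHom.ker (Ideal.Quotient.mk (Ideal.span {e})) ≤ qV := by
      rw [Ideal.mk_ker, Ideal.span_le, Set.singleton_subset_iff]; exact hmem
    have : Q.IsPrime := Ideal.map_isPrime_of_surjective Ideal.Quotient.mk_surjective hker
    have : Q.LiesOver (maximalIdeal R) := ⟨by
      show maximalIdeal R = Q.comap ((Ideal.Quotient.mk _).comp (algebraMap R V))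
      rw [← Ideal.comap_comap,
        Ideal.comap_map_of_surjective _ Ideal.Quotient.mk_surjective, ← RingHom.ker_eq_comap_bot,
        sup_eq_left.mpr hker]
      exact qV.over_def (maximalIdeal R)⟩
    exact hno Q this inferInstance
  have hχe : χ e = 1 :=
    (IsIdempotentElem.iff_eq_zero_or_one.mp (he.map χ)).resolve_left heqV
  let T := V ⧸ Ideal.span {1 - e}
  let χ' : T →ₐ[R] q.ResidueField :=
    Ideal.Quotient.liftₐ _ χ fun a ha => by
      obtain ⟨c, rfl⟩ := Ideal.mem_span_singleton'.mp ha
      rw [map_mul, map_sub, map_one, hχe, sub_self, mul_zero]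
  have hχ's : Function.Surjective χ' := fun x => by
    obtain ⟨v, rfl⟩ := hχs x
    exact ⟨Ideal.Quotient.mk _ v, rfl⟩
  have hkey : ∀ M : Ideal T, M.IsMaximal → M.comap (Ideal.Quotient.mk _) = qV := by
    intro M hM
    have : (M.comap (algebraMap R T)).IsMaximal := Ideal.isMaximal_comap_of_isIntegral_of_isMaximal M
    refine huniq _ (hM.isPrime.comap _) ⟨?_⟩
    exact (IsLocalRing.eq_maximalIdeal this).symm
  have hχker : (RingHom.ker χ').IsMaximal := RingHom.ker_isMaximal_of_surjective χ' hχ's
  have : IsLocalRing T := IsLocalRing.of_unique_max_ideal ⟨RingHom.ker χ', hχker, fun M hM =>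
    Ideal.comap_injective_of_surjective _ Ideal.Quotient.mk_surjective
      ((hkey M hM).trans (hkey _ hχker).symm)⟩
  have : IsLocalization.Away e T := IsLocalization.Away.quotient_of_isIdempotentElem he
  have : Algebra.Etale V T := Algebra.Etale.of_isLocalizationAway e
  have : Algebra.Etale R T := Algebra.Etale.comp R V T
  have : IsLocalHom (algebraMap R T) := ⟨fun r hr => by
    by_contra hn
    refine (hχker.ne_top) (Ideal.eq_top_of_isUnit_mem _ ?_ hr)
    rw [RingHom.mem_ker, AlgHom.commutes]
    rw [IsScalarTower.algebraMap_apply R S q.ResidueField, Ideal.algebraMap_residueField_eq_zero]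
    exact (q.over_def (maximalIdeal R)).le hn⟩
  have hb : Function.Bijective (algebraMap R T) := by
    refine bijective_algebraMap_of_flat_unramified fun t => ?_
    obtain ⟨r, hr⟩ := hres (χ' t)
    refine ⟨r, ?_⟩
    rw [← IsLocalRing.eq_maximalIdeal hχker, RingHom.mem_ker, map_sub, AlgHom.commutes, hr,
      sub_self]
  exact ⟨(AlgEquiv.ofBijective (Algebra.ofId R T) hb).symm.toAlgHom.comp
    (IsScalarTower.toAlgHom R S T)⟩

end converse

section strict

/-- A finite unramified local algebra over a strictly henselian local ring is a quotient. -/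
theorem surjective_algebraMap_of_unramified_sepClosed {R A : Type u} [CommRing R] [IsLocalRing R]
    [IsSepClosed (ResidueField R)] [CommRing A] [IsLocalRing A] [Algebra R A]
    [IsLocalHom (algebraMap R A)] [Module.Finite R A] [Algebra.FormallyUnramified R A] :
    Function.Surjective (algebraMap R A) := by
  have h : (⊤ : Submodule R A) ≤ LinearMap.range (Algebra.linearMap R A) ⊔
      maximalIdeal R • (⊤ : Submodule R A) := by
    intro t _
    obtain ⟨x, hx⟩ := IsSepClosed.algebraMap_surjective (ResidueField R) (ResidueField A)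
      (residue A t)
    obtain ⟨r, rfl⟩ := residue_surjective x
    have hr : t - algebraMap R A r ∈ maximalIdeal A := by
      rw [← residue_eq_zero_iff, map_sub, sub_eq_zero, ← hx]
      rfl
    rw [← Algebra.FormallyUnramified.map_maximalIdeal (R := R)] at hr
    refine Submodule.mem_sup.mpr ⟨algebraMap R A r, ⟨r, rfl⟩, t - algebraMap R A r, ?_, by ring⟩
    rw [Ideal.smul_top_eq_map]
    exact hr
  exact LinearMap.range_eq_top.mp (eq_top_iff.mpr
    (Submodule.le_of_le_smul_of_le_jacobson_bot Module.Finite.fg_top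
      (IsLocalRing.maximalIdeal_le_jacobson ⊥) h))

theorem exists_unramified_split (R : Type u) [CommRing R]
    [HenselianLocalRing R] [IsSepClosed (ResidueField R)] (S : Type u) [CommRing S] [Algebra R S]
    [Algebra.Unramified R S] :
    ∃ (ι : Type u) (_ : Fintype ι) (A : ι → Type u) (_ : ∀ i, CommRing (A i))
      (_ : ∀ i, Algebra R (A i)) (B : Type u) (_ : CommRing B) (_ : Algebra R B),
      (∀ i, Function.Surjective (algebraMap R (A i))) ∧
      Ideal.map (algebraMap R B) (maximalIdeal R) = ⊤ ∧
      Nonempty (S ≃ₐ[R] ((∀ i, A i) × B)) := by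
  obtain ⟨e, he, hfin, htop⟩ := exists_quasiFinite_split R (S := S)
  obtain ⟨_, e', he', hM⟩ := exists_idempotents_of_henselian R (S ⧸ Ideal.span {1 - e})
  obtain ⟨θ⟩ := exists_algEquiv_pi_quotient (A := R) he'
  refine ⟨MaximalSpectrum (S ⧸ Ideal.span {1 - e}), inferInstance,
    fun n => (S ⧸ Ideal.span {1 - e}) ⧸ Ideal.span {1 - e' n}, inferInstance, inferInstance,
    S ⧸ Ideal.span {e}, inferInstance, inferInstance, fun n => ?_, htop, ?_⟩
  · have := isLocalRing_quotient_one_sub he'.idem hM n
    have : IsLocalHom (algebraMap R ((S ⧸ Ideal.span {1 - e}) ⧸ Ideal.span {1 - e' n})) :=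
      ⟨fun r hr => by
        by_contra hn
        have := Ideal.isMaximal_comap_of_isIntegral_of_isMaximal (R := R)
          (maximalIdeal ((S ⧸ Ideal.span {1 - e}) ⧸ Ideal.span {1 - e' n}))
        exact (IsLocalRing.eq_maximalIdeal this).ge hn hr⟩
    have : Algebra.FormallyUnramified R ((S ⧸ Ideal.span {1 - e}) ⧸ Ideal.span {1 - e' n}) :=
      .of_surjective ((Ideal.Quotient.mkₐ R (Ideal.span {1 - e' n})).comp
        (Ideal.Quotient.mkₐ R (Ideal.span {1 - e})))
        (Ideal.Quotient.mk_surjective.comp Ideal.Quotient.mk_surjective)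
    exact surjective_algebraMap_of_unramified_sepClosed
  · let ψ : S →ₐ[R] (S ⧸ Ideal.span {1 - e}) × (S ⧸ Ideal.span {e}) :=
      (Ideal.Quotient.mkₐ R _).prod (Ideal.Quotient.mkₐ R _)
    have hψ : Function.Bijective ψ := by
      refine ⟨(injective_iff_map_eq_zero ψ).mpr fun x hx => ?_, fun ⟨y, z⟩ => ?_⟩
      · obtain ⟨a, ha⟩ := Ideal.mem_span_singleton'.mp
          (Ideal.Quotient.eq_zero_iff_mem.mp congr(Prod.fst $hx))
        obtain ⟨b, hb⟩ := Ideal.mem_span_singleton'.mp
          (Ideal.Quotient.eq_zero_iff_mem.mp congr(Prod.snd $hx))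
        linear_combination (-e) * ha + (e - 1) * hb - (a + b) * he.eq
      · obtain ⟨a, rfl⟩ := Ideal.Quotient.mk_surjective y
        obtain ⟨b, rfl⟩ := Ideal.Quotient.mk_surjective z
        refine ⟨e * a + (1 - e) * b, Prod.ext (Ideal.Quotient.eq.mpr ?_) (Ideal.Quotient.eq.mpr ?_)⟩
        · exact Ideal.mem_span_singleton'.mpr ⟨b - a, by ring⟩
        · exact Ideal.mem_span_singleton'.mpr ⟨a - b, by ring⟩
    exact ⟨(AlgEquiv.ofBijective ψ hψ).trans (AlgEquiv.prodCongr θ AlgEquiv.refl)⟩

end strict

end Groth.Agent.Hensel
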