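import Groth.Agent.Hensel.Gabber
import Mathlib.RingTheory.Polynomial.UniversalFactorizationRing
import Mathlib.RingTheory.Unramified.LocalStructure

/-!
# Henselian pairs: sections of étale algebras
-/

namespace Groth.Agent.Hensel

open Polynomial

universe u v w

/-- Two maps out of an unramified algebra which agree after a map detecting units are equal. -/
theorem algHom_ext_of_isUnit {R : Type u} {S : Type v} {T : Type w} [CommRing R] [CommRing S]
    [CommRing T] [Algebra R S] [Algebra R T] [Algebra.EssFiniteType R S]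
    [Algebra.FormallyUnramified R S] {K : Type*} [CommRing K] (π : T →+* K)
    (hπ : ∀ t, π t = 1 → IsUnit t) (f g : S →ₐ[R] T) (h : ∀ s, π (f s) = π (g s)) : f = g := by
  let Φ : TensorProduct R S S →ₐ[R] T := Algebra.TensorProduct.lift f g fun _ _ => .all _ _
  let e := Φ (Algebra.FormallyUnramified.elem R S)
  have he : IsUnit e := hπ _ <| by
    have key : π.comp Φ.toRingHom =
        (π.comp f.toRingHom).comp (Algebra.TensorProduct.lmul' R).toRingHom :=
      Algebra.TensorProduct.ringHom_ext (by ext; simp [Φ]) (by ext; simp [Φ, h])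
    have := congr($key (Algebra.FormallyUnramified.elem R S))
    simpa [Algebra.FormallyUnramified.lmul_elem, e] using this
  ext s
  have := congr(Φ $(Algebra.FormallyUnramified.one_tmul_sub_tmul_one_mul_elem (R := R) s))
  rw [map_mul, map_zero] at this
  have := he.mul_left_eq_zero.mp this
  simp [Φ] at this
  exact (sub_eq_zero.mp this).symm

theorem algHom_ext_of_le_jacobson {R : Type u} {S : Type v} {T : Type w} [CommRing R] [CommRing S]
    [CommRing T] [Algebra R S] [Algebra R T] [Algebra.EssFiniteType R S]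
    [Algebra.FormallyUnramified R S] {J : Ideal T} (hJ : J ≤ Ideal.jacobson ⊥)
    (f g : S →ₐ[R] T) (h : ∀ s, f s - g s ∈ J) : f = g :=
  algHom_ext_of_isUnit (Ideal.Quotient.mk J) (fun _ ht => isUnit_of_mk_eq_one hJ ht) f g
    fun s => Ideal.Quotient.eq.mpr (h s)

variable {A : Type u} [CommRing A] {I : Ideal A}

theorem exists_subalgebra_of_quasiFinite {U : Type v} [CommRing U] [Algebra A U]
    [Algebra.FiniteType A U] [Algebra.QuasiFinite A U] :
    ∃ F : Subalgebra A U, Module.Finite A F ∧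
      Ideal.span {r : U | r ∈ F ∧ ∀ u, ∃ N, r ^ N * u ∈ F} = ⊤ := by
  have hloc : ∀ q : PrimeSpectrum U, ∃ S' : Subalgebra A U, S'.toSubmodule.FG ∧
      ∃ r ∈ S', r ∉ q.asIdeal ∧ ∀ u, ∃ N, r ^ N * u ∈ S' := fun q => by
    obtain ⟨S', hS', r, hr, hb⟩ :=
      Algebra.QuasiFiniteAt.exists_fg_and_exists_notMem_and_awayMap_bijective (R := A) q.asIdeal
    refine ⟨S', hS', r, r.2, hr, fun u => ?_⟩
    obtain ⟨a, m, e⟩ := Localization.awayMap_surjective_iff.mp hb.2 u
    exact ⟨m, by have := a.2; rwa [show (a : U) = r ^ m * u by simpa using e] at this⟩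
  choose S' hS' r hr hrq hu using hloc
  obtain ⟨t, ht⟩ : ∃ t : Finset (PrimeSpectrum U), Ideal.span (r '' ↑t) = ⊤ := by
    have htop : Ideal.span (Set.range r) = ⊤ := by
      by_contra h
      obtain ⟨m, hm, hle⟩ := Ideal.exists_le_maximal _ h
      exact hrq ⟨m, hm.isPrime⟩ (hle (Ideal.subset_span ⟨_, rfl⟩))
    obtain ⟨T, hT, hT'⟩ := Submodule.mem_span_finite_of_mem_span
      (show (1 : U) ∈ Submodule.span U (Set.range r) by
        rw [show Submodule.span U (Set.range r) = ⊤ from htop]; trivial)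
    classical
    choose f hf using fun x : T => hT x.2
    refine ⟨Finset.univ.image f, (Ideal.eq_top_iff_one _).mpr ?_⟩
    refine Submodule.span_mono (fun x hx => ?_) hT'
    exact ⟨f ⟨x, hx⟩, by simp, hf ⟨x, hx⟩⟩
  choose T hT using fun q => hS' q
  classical
  let F := Algebra.adjoin A (↑(t.biUnion T) : Set U)
  have hle : ∀ q ∈ t, S' q ≤ F := fun q hq => by
    intro x hx
    have : x ∈ Submodule.span A (T q : Set U) := by rw [hT q]; exact hx
    exact (Submodule.span_le (p := F.toSubmodule)).mpr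
      (fun y hy => Algebra.subset_adjoin (Finset.mem_biUnion.mpr ⟨q, hq, hy⟩)) this
  refine ⟨F, ⟨(Submodule.fg_top _).mpr (fg_adjoin_of_finite (Finset.finite_toSet _) ?_)⟩, ?_⟩
  · intro x hx
    obtain ⟨q, -, hq⟩ := Finset.mem_biUnion.mp hx
    have : x ∈ S' q := by
      show x ∈ (S' q).toSubmodule
      rw [← hT q]; exact Submodule.subset_span hq
    exact IsIntegral.of_mem_of_fg _ (hS' q) _ this
  · refine top_le_iff.mp (ht ▸ Ideal.span_mono ?_)
    rintro _ ⟨q, hq, rfl⟩
    exact ⟨hle q hq (hr q), fun u => (hu q u).imp fun N h => hle q hq h⟩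

/-- Sections modulo `I` of étale algebras lift over a Gabber pair. -/
theorem GabberCond.exists_etale_lift (hG : GabberCond I) {U : Type v} [CommRing U] [Algebra A U]
    [Algebra.Etale A U] (σ : U →ₐ[A] A ⧸ I) :
    ∃ τ : U →ₐ[A] A, (Ideal.Quotient.mkₐ A I).comp τ = σ := by
  obtain ⟨F, _, htop⟩ := exists_subalgebra_of_quasiFinite (A := A) (U := U)
  let P := {r : U | r ∈ F ∧ ∀ u, ∃ N, r ^ N * u ∈ F}
  let C : U → Ideal F := fun u =>
    { carrier := {g | (g : U) * u ∈ F}
      zero_mem' := by simp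
      add_mem' := fun {a b} ha hb => by
        show ((a + b : F) : U) * u ∈ F
        rw [Subalgebra.coe_add, add_mul]; exact add_mem ha hb
      smul_mem' := fun c g hg => by
        show ((c • g : F) : U) * u ∈ F
        rw [smul_eq_mul, Subalgebra.coe_mul, mul_assoc]; exact mul_mem c.2 hg }
  let W : Ideal F := ⨅ u, (C u).radical
  have hW : ∀ g : F, g ∈ W → ∀ u, ∃ N, (g : U) ^ N * u ∈ F := fun g hg u => by
    obtain ⟨N, hN⟩ := (Submodule.mem_iInf _).mp hg u
    exact ⟨N, by simpa [C] using hN⟩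
  have hP : ∀ r (hr : r ∈ P), (⟨r, hr.1⟩ : F) ∈ W := fun r hr =>
    (Submodule.mem_iInf _).mpr fun u => by
      obtain ⟨N, hN⟩ := hr.2 u
      exact ⟨N, by simpa [C] using hN⟩
  -- the image of `W` in `A ⧸ I` is an ideal containing `1`
  have key : ∀ x ∈ Ideal.span P, ∀ c : A ⧸ I, ∃ g ∈ W, σ (g : U) = c * σ x := by
    intro x hx
    induction hx using Submodule.span_induction with
    | mem r hr =>
      intro c
      obtain ⟨a, rfl⟩ := Ideal.Quotient.mk_surjective c
      exact ⟨algebraMap A F a * ⟨r, hr.1⟩, W.mul_mem_left _ (hP r hr), by simp⟩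
    | zero => exact fun c => ⟨0, zero_mem _, by simp⟩
    | add x y _ _ hx hy =>
      intro c
      obtain ⟨g₁, h₁, e₁⟩ := hx c
      obtain ⟨g₂, h₂, e₂⟩ := hy c
      exact ⟨g₁ + g₂, add_mem h₁ h₂, by simp [e₁, e₂, mul_add]⟩
    | smul a x _ hx =>
      intro c
      obtain ⟨g, hg, e⟩ := hx (c * σ a)
      exact ⟨g, hg, by simp [e, mul_assoc]⟩
  obtain ⟨Δ, hΔW, hΔ⟩ := key 1 (htop ▸ trivial) 1
  exact hG.exists_lift_of_subalgebra F Δ (hW Δ hΔW) σ (by simpa using hΔ)

/-- The étale lifting property implies that a pair is henselian. -/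
theorem henselianRing_of_etale_lift
    (h : ∀ (U : Type u) [CommRing U] [Algebra A U] [Algebra.Etale A U] (σ : U →ₐ[A] A ⧸ I),
      ∃ τ : U →ₐ[A] A, (Ideal.Quotient.mkₐ A I).comp τ = σ) :
    HenselianRing A I where
  jac := by
    intro x hx
    rw [Ideal.mem_jacobson_bot]
    intro y
    have : Algebra.Etale A (Localization.Away (x * y + 1)) := inferInstance
    have hu : IsUnit (algebraMap A (A ⧸ I) (x * y + 1)) := by
      rw [Ideal.Quotient.algebraMap_eq, map_add, map_mul, Ideal.Quotient.eq_zero_iff_mem.mpr hx,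
        zero_mul, zero_add, map_one]
      exact isUnit_one
    let σ : Localization.Away (x * y + 1) →ₐ[A] A ⧸ I :=
      IsLocalization.Away.liftAlgHom (x * y + 1) (f := Algebra.ofId A (A ⧸ I)) hu
    obtain ⟨τ, -⟩ := h _ σ
    simpa using (IsLocalization.Away.algebraMap_isUnit (S := Localization.Away (x * y + 1))
      (x * y + 1)).map τ
  is_henselian := by
    intro f hf a₀ h₁ h₂
    let P : StandardEtalePair A := ⟨f, hf, derivative f, 1, 0, 1, by simp⟩
    have ha : P.HasMap (Ideal.Quotient.mk I a₀) := by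
      refine ⟨?_, ?_⟩
      · rw [← Ideal.Quotient.algebraMap_eq, aeval_algebraMap_apply, aeval_def, Algebra.algebraMap_self,
          eval₂_id, Ideal.Quotient.algebraMap_eq, Ideal.Quotient.eq_zero_iff_mem]
        exact h₁
      · rw [← Ideal.Quotient.algebraMap_eq, aeval_algebraMap_apply, aeval_def, Algebra.algebraMap_self,
          eval₂_id, Ideal.Quotient.algebraMap_eq]
        exact h₂
    obtain ⟨τ, hτ⟩ := h P.Ring (P.lift _ ha)
    refine ⟨τ P.X, ?_, ?_⟩
    · have := (P.hasMap_X.map τ).1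
      rwa [aeval_def, Algebra.algebraMap_self, eval₂_id] at this
    · rw [← Ideal.Quotient.eq]
      simpa using congr($hτ P.X)

theorem henselianRing_iff_gabberCond : HenselianRing A I ↔ GabberCond I :=
  ⟨fun _ => .of_henselianRing A I,
    fun h => henselianRing_of_etale_lift fun _ _ _ _ σ => h.exists_etale_lift σ⟩

section Henselian

variable (I) [HenselianRing A I]

theorem exists_etale_lift {U : Type v} [CommRing U] [Algebra A U] [Algebra.Etale A U]
    (σ : U →ₐ[A] A ⧸ I) : ∃ τ : U →ₐ[A] A, (Ideal.Quotient.mkₐ A I).comp τ = σ :=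
  (GabberCond.of_henselianRing A I).exists_etale_lift σ

theorem existsUnique_etale_lift {U : Type v} [CommRing U] [Algebra A U] [Algebra.Etale A U]
    (σ : U →ₐ[A] A ⧸ I) : ∃! τ : U →ₐ[A] A, (Ideal.Quotient.mkₐ A I).comp τ = σ := by
  obtain ⟨τ, hτ⟩ := exists_etale_lift I σ
  exact ⟨τ, hτ, fun τ' hτ' => algHom_ext_of_le_jacobson HenselianRing.jac τ' τ fun s =>
    Ideal.Quotient.eq.mp (congr($(hτ'.trans hτ.symm) s))⟩

/-- Relative version: maps from an étale algebra to a henselian pair lift uniquely. -/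
theorem existsUnique_etale_lift_of_algebra {R : Type v} [CommRing R] [Algebra R A]
    {U : Type w} [CommRing U] [Algebra R U] [Algebra.Etale R U] (σ : U →ₐ[R] A ⧸ I) :
    ∃! τ : U →ₐ[R] A, (Ideal.Quotient.mkₐ R I).comp τ = σ := by
  let σ' : TensorProduct R A U →ₐ[A] A ⧸ I :=
    Algebra.TensorProduct.lift (Algebra.ofId A _) σ fun _ _ => .all _ _
  obtain ⟨τ, hτ⟩ := exists_etale_lift I σ'
  refine ⟨(τ.restrictScalars R).comp Algebra.TensorProduct.includeRight, ?_, fun τ' hτ' => ?_⟩
  · ext s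
    simpa [σ'] using congr($hτ (1 ⊗ₜ s))
  · refine algHom_ext_of_le_jacobson (HenselianRing.jac (I := I)) _ _ fun s => ?_
    rw [← Ideal.Quotient.eq]
    have h' : Ideal.Quotient.mk I (τ' s) = σ s := congr($hτ' s)
    rw [h']
    simpa [σ'] using (congr($hτ (1 ⊗ₜ s))).symm

end Henselian

end Groth.Agent.Hensel
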