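import Groth.Agent.Hensel.StrictPoints
import Groth.Agent.Hensel.Local
import Mathlib.AlgebraicGeometry.Morphisms.Etale
import Mathlib.AlgebraicGeometry.Morphisms.FormallyUnramified
import Mathlib.RingTheory.Etale.StandardEtale
import Mathlib.RingTheory.AdjoinRoot

/-!
# Strictly henselian local rings and étale schemes over them
-/

noncomputable section

namespace Groth.Agent.Hensel

universe u

open IsLocalRing CategoryTheory CategoryTheory.Limits AlgebraicGeometry TensorProduct

theorem exists_section_of_sepClosed (R : Type u) [CommRing R] [HenselianLocalRing R]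
    [IsSepClosed (ResidueField R)] (S : Type u) [CommRing S] [Algebra R S] [Algebra.Etale R S]
    (q : Ideal S) [q.IsPrime] (hq : q.comap (algebraMap R S) = maximalIdeal R) :
    ∃ ψ : S →ₐ[R] R, (maximalIdeal R).comap ψ.toRingHom = q := by
  let ρ : ResidueField R →+* q.ResidueField :=
    Ideal.Quotient.lift (maximalIdeal R) (algebraMap R q.ResidueField) fun a ha => by
      rw [IsScalarTower.algebraMap_apply R S q.ResidueField, Ideal.algebraMap_residueField_eq_zero]
      exact hq.ge ha
  let : Algebra (ResidueField R) q.ResidueField := ρ.toAlgebra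
  have : IsScalarTower R (ResidueField R) q.ResidueField := .of_algebraMap_eq fun r => rfl
  let σ₀ : S →ₐ[R] q.ResidueField := IsScalarTower.toAlgHom R S q.ResidueField
  let σ : ResidueField R ⊗[R] S →ₐ[ResidueField R] q.ResidueField :=
    Algebra.TensorProduct.lift (Algebra.ofId _ _) σ₀ fun _ _ => .all _ _
  choose c hc using fun s : S => mem_range_of_formallyUnramified_sepClosed σ (1 ⊗ₜ s)
  have hinj := (algebraMap (ResidueField R) q.ResidueField).injective
  have hc' : ∀ s, σ₀ s = algebraMap _ _ (c s) := fun s => by simpa [σ] using hc s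
  let τ₀ : S →ₐ[R] R ⧸ maximalIdeal R :=
    { toFun := c
      map_one' := hinj (((hc' 1).symm.trans (map_one σ₀)).trans (map_one (algebraMap _ q.ResidueField)).symm)
      map_mul' := fun x y => hinj (by
        rw [← hc', map_mul σ₀, hc', hc']; exact (map_mul _ _ _).symm)
      map_zero' := hinj (((hc' 0).symm.trans (map_zero σ₀)).trans (map_zero (algebraMap _ q.ResidueField)).symm)
      map_add' := fun x y => hinj (by
        rw [← hc', map_add σ₀, hc', hc']; exact (map_add _ _ _).symm)
      commutes' := fun r => hinj (by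
        show algebraMap _ _ (c (algebraMap R S r)) = algebraMap _ _ (residue R r)
        rw [← hc', AlgHom.commutes]
        exact IsScalarTower.algebraMap_apply R (ResidueField R) q.ResidueField r) }
  obtain ⟨ψ, hψ, -⟩ := existsUnique_etale_lift_of_algebra (maximalIdeal R) τ₀
  refine ⟨ψ, Ideal.ext fun s => ?_⟩
  show ψ s ∈ maximalIdeal R ↔ _
  rw [← residue_eq_zero_iff, show residue R (ψ s) = c s from congr($hψ s),
    ← Ideal.algebraMap_residueField_eq_zero (I := q), show algebraMap S q.ResidueField s = σ₀ s from rfl,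
    hc', map_eq_zero]

theorem strictlyHenselian_iff_exists_section (A : Type u) [CommRing A] [IsLocalRing A] :
    (HenselianLocalRing A ∧ IsSepClosed (ResidueField A)) ↔
      ∀ (X : Scheme.{u}) (f : X ⟶ Spec (CommRingCat.of A)), Etale f →
        ∀ x : X, f.base x = closedPoint A →
          ∃ u : Spec (CommRingCat.of A) ⟶ X, u ≫ f = 𝟙 _ ∧ u.base (closedPoint A) = x := by
  constructor
  · rintro ⟨_, _⟩ X f _ x hx
    obtain ⟨S, j, hj, ⟨y, rfl⟩, -⟩ := Scheme.exists_affine_mem_range_and_range_subset
      (x := x) (U := (⊤ : X.Opens)) (by simp)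
    obtain ⟨φR, hφR⟩ := Spec.map_surjective (j ≫ f)
    algebraize [φR.hom]
    have : Algebra.Etale A S := by
      have h : Etale (Spec.map φR) := by rw [hφR]; infer_instance
      exact (HasRingHomProperty.Spec_iff (P := @Etale)).mp h
    have hq : y.asIdeal.comap (algebraMap A S) = maximalIdeal A := by
      have h1 : (Spec.map φR).base y = closedPoint A := by
        rw [hφR, Scheme.Hom.comp_base]; exact hx
      exact congr(($h1).asIdeal)
    obtain ⟨ψ, hψ⟩ := exists_section_of_sepClosed A S y.asIdeal hq
    refine ⟨Spec.map (CommRingCat.ofHom ψ.toRingHom) ≫ j, ?_, ?_⟩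
    · rw [Category.assoc, ← hφR, ← Spec.map_comp, ← Spec.map_id]
      congr 1
      ext r
      exact ψ.commutes r
    · rw [Scheme.Hom.comp_apply]
      congr 1
      exact PrimeSpectrum.ext hψ
  · intro h
    have key : ∀ (S : Type u) [CommRing S] [Algebra A S] [Algebra.Etale A S] (q : Ideal S)
        (_ : q.IsPrime), q.comap (algebraMap A S) = maximalIdeal A → Nonempty (S →ₐ[A] A) := by
      intro S _ _ hS q hqp hq
      have : Etale (Spec.map (CommRingCat.ofHom (algebraMap A S))) := by
        rw [HasRingHomProperty.Spec_iff (P := @Etale)]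
        exact RingHom.etale_algebraMap.mpr hS
      obtain ⟨u, hu, -⟩ := h _ (Spec.map (CommRingCat.ofHom (algebraMap A S))) this ⟨q, hqp⟩
        (PrimeSpectrum.ext hq)
      obtain ⟨χ, rfl⟩ := Spec.map_surjective u
      have e1 : CommRingCat.ofHom (algebraMap A S) ≫ χ = 𝟙 _ := by
        apply Spec.map_injective
        rw [Spec.map_comp, Spec.map_id, hu]
      exact ⟨{ χ.hom with commutes' := fun r => congr(($e1).hom r) }⟩
    refine ⟨henselianLocalRing_of_etale_retraction A fun S _ _ _ q hqp hq _ =>
      key S q hqp hq.over.symm, IsSepClosed.of_exists_root _ fun p hp hirr hsep => ?_⟩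
    obtain ⟨P, hP, -, hPm⟩ := Polynomial.lifts_and_natDegree_eq_and_monic
      ((Polynomial.mem_lifts p).mpr (Polynomial.map_surjective _ residue_surjective p)) hp
    let E : StandardEtalePair A := ⟨P, hPm, Polynomial.derivative P, 1, 0, 1, by simp⟩
    have := Fact.mk hirr
    let K := AdjoinRoot p
    have hroot : Polynomial.aeval (AdjoinRoot.root p) p = 0 := by
      rw [AdjoinRoot.aeval_eq, AdjoinRoot.mk_self]
    have hmap : E.HasMap (AdjoinRoot.root p) := by
      have hev : ∀ Q : Polynomial A, Polynomial.aeval (AdjoinRoot.root p) Q =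
          Polynomial.aeval (AdjoinRoot.root p) (Q.map (residue A)) := fun Q =>
        (Polynomial.aeval_map_algebraMap (ResidueField A) _ Q).symm
      refine ⟨?_, ?_⟩
      · rw [hev]; show Polynomial.aeval _ (P.map _) = 0; rw [hP, hroot]
      · rw [hev]
        show IsUnit (Polynomial.aeval _ (Polynomial.map _ (Polynomial.derivative P)))
        rw [← Polynomial.derivative_map, hP]
        exact isUnit_iff_ne_zero.mpr (hsep.aeval_derivative_ne_zero hroot)
    let ψ : E.Ring →ₐ[A] K := E.lift _ hmap
    obtain ⟨τ⟩ := key E.Ring (RingHom.ker ψ) (RingHom.ker_isPrime ψ) (by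
      show (RingHom.ker ψ.toRingHom).comap (algebraMap A E.Ring) = _
      rw [RingHom.comap_ker, show ψ.toRingHom.comp (algebraMap A E.Ring) =
        (algebraMap (ResidueField A) K).comp (residue A) from ψ.comp_algebraMap,
        RingHom.ker_comp_of_injective _ (algebraMap (ResidueField A) K).injective, ker_residue])
    refine ⟨residue A (τ E.X), ?_⟩
    have := (E.hasMap_X.map τ).1
    rw [Polynomial.aeval_def, Algebra.algebraMap_self, Polynomial.eval₂_id] at this
    rw [← hP, Polynomial.eval_map_apply, this, map_zero]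

theorem section_eq_of_le_jacobson (R : Type u) [CommRing R] (I : Ideal R)
    (hI : I ≤ (⊥ : Ideal R).jacobson)
    (X : Scheme.{u}) (p : X ⟶ Spec (CommRingCat.of R)) [FormallyUnramified p] [LocallyOfFiniteType p]
    (t₁ t₂ : Spec (CommRingCat.of R) ⟶ X) (h₁ : t₁ ≫ p = 𝟙 _) (h₂ : t₂ ≫ p = 𝟙 _)
    (h : Spec.map (CommRingCat.ofHom (Ideal.Quotient.mk I)) ≫ t₁ =
      Spec.map (CommRingCat.ofHom (Ideal.Quotient.mk I)) ≫ t₂) :
    t₁ = t₂ := by
  let ι := Spec.map (CommRingCat.ofHom (Ideal.Quotient.mk I))
  let t : Spec (CommRingCat.of R) ⟶ pullback p p := pullback.lift t₁ t₂ (h₁.trans h₂.symm)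
  let Δ := pullback.diagonal p
  have hιt : ι ≫ t = (ι ≫ t₁) ≫ Δ := by
    apply pullback.hom_ext
    · simp only [t, Δ, Category.assoc, pullback.lift_fst, pullback.diagonal_fst, Category.comp_id]
    · simp only [t, Δ, Category.assoc, pullback.lift_snd, pullback.diagonal_snd, Category.comp_id]; exact h.symm
  have hrange : Set.range t.base ⊆ Set.range Δ.base := by
    rintro _ ⟨y, rfl⟩
    obtain ⟨m, hm, hle⟩ := Ideal.exists_le_maximal y.asIdeal y.isPrime.ne_top
    have hIm : I ≤ m := hI.trans (sInf_le ⟨bot_le, hm⟩)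
    let z : PrimeSpectrum R := ⟨m, hm.isPrime⟩
    have hz : t.base z ∈ Set.range Δ.base := by
      have hmap : (m.map (Ideal.Quotient.mk I)).IsPrime :=
        Ideal.map_isPrime_of_surjective Ideal.Quotient.mk_surjective (by rwa [Ideal.mk_ker])
      have he : ι.base ⟨m.map (Ideal.Quotient.mk I), hmap⟩ = z := PrimeSpectrum.ext (by
        show (m.map (Ideal.Quotient.mk I)).comap (Ideal.Quotient.mk I) = m
        exact Ideal.comap_map_mk hIm)
      rw [← he, ← Scheme.Hom.comp_apply, hιt, Scheme.Hom.comp_apply]
      exact Set.mem_range_self _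
    exact (((PrimeSpectrum.le_iff_specializes y z).mp hle).map t.continuous).mem_open
      Δ.isOpenEmbedding.isOpen_range hz
  have := IsOpenImmersion.lift_fac Δ t hrange
  have e1 := congr($this ≫ pullback.fst p p)
  have e2 := congr($this ≫ pullback.snd p p)
  simp only [t, Δ, Category.assoc, pullback.diagonal_fst, pullback.diagonal_snd, Category.comp_id] at e1 e2
  erw [pullback.lift_fst] at e1
  erw [pullback.lift_snd] at e2
  exact e1.symm.trans e2

end Groth.Agent.Hensel
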