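import Groth.Agent.Hensel.TensorReduced
import Mathlib.RingTheory.HopkinsLevitzki
import Mathlib.RingTheory.Localization.Submodule

/-!
# Fibres of henselizations
-/

noncomputable section

namespace Groth.Agent.Hensel

universe u v

open IsLocalRing TensorProduct

variable {R S : Type u} [CommRing R] [IsLocalRing R] [CommRing S] [IsLocalRing S] [Algebra R S]
  [IsLocalHom (algebraMap R S)] (h : IsHenzLike R S)

include h

theorem IsHenzLike.isReduced_tensor (T : Type u) [CommRing T] [Algebra R T] [IsReduced T] :
    IsReduced (S ⊗[R] T) := by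
  obtain ⟨L, _, _, _, _, ⟨e⟩⟩ := h
  have := isReduced_henz_tensor (R := R) (L := L) T
  let E : S ⊗[R] T ≃ₐ[R] Henz R L ⊗[R] T := Algebra.TensorProduct.congr e.symm AlgEquiv.refl
  exact isReduced_of_injective E.toAlgHom E.injective

/-- The fibres are finite products of separable extensions. -/
theorem IsHenzLike.exists_fibre_equiv_pi [IsNoetherianRing R] (p : Ideal R) [p.IsPrime] :
    ∃ (n : ℕ) (K : Fin n → Type u) (_ : ∀ i, Field (K i)) (_ : ∀ i, Algebra p.ResidueField (K i)),
      (∀ i, Algebra.IsSeparable p.ResidueField (K i)) ∧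
      Nonempty ((p.ResidueField ⊗[R] S) ≃ₐ[p.ResidueField] (Π i, K i)) := by
  classical
  have := h.isNoetherianRing_iff.mp inferInstance
  let F := p.ResidueField ⊗[R] S
  have : IsReduced F := by
    have := h.isReduced_tensor p.ResidueField
    exact isReduced_of_injective (Algebra.TensorProduct.comm R p.ResidueField S).toAlgHom
      (Algebra.TensorProduct.comm R p.ResidueField S).injective
  have : IsNoetherianRing (S ⊗[R] p.ResidueField) :=
    Algebra.EssFiniteType.isNoetherianRing S (S ⊗[R] p.ResidueField)
  have : IsNoetherianRing F :=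
    isNoetherianRing_of_ringEquiv _ (Algebra.TensorProduct.comm R S p.ResidueField).toRingEquiv
  have hfrac : ∀ x : F, ∃ s : R, algebraMap R p.ResidueField s ≠ 0 ∧
      ∃ z : S, algebraMap R F s * x = (1 : p.ResidueField) ⊗ₜ[R] z := by
    intro x
    induction x using TensorProduct.induction_on with
    | zero => exact ⟨1, by simp, 0, by simp⟩
    | tmul a z =>
      obtain ⟨num, den, hden, hq⟩ := IsFractionRing.div_surjective (A := R ⧸ p) a
      obtain ⟨den, rfl⟩ := Ideal.Quotient.mk_surjective den
      obtain ⟨num, rfl⟩ := Ideal.Quotient.mk_surjective num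
      have hd : algebraMap R p.ResidueField den ≠ 0 := by
        rw [IsScalarTower.algebraMap_apply R (R ⧸ p) p.ResidueField]
        exact IsFractionRing.to_map_ne_zero_of_mem_nonZeroDivisors hden
      refine ⟨den, hd, algebraMap R S num * z, ?_⟩
      rw [Algebra.TensorProduct.algebraMap_apply, Algebra.TensorProduct.tmul_mul_tmul, one_mul,
        show algebraMap R p.ResidueField den * a = algebraMap R p.ResidueField num by
          rw [← hq, IsScalarTower.algebraMap_apply R (R ⧸ p) p.ResidueField,
            IsScalarTower.algebraMap_apply R (R ⧸ p) p.ResidueField num,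
            Ideal.Quotient.algebraMap_eq, mul_div_cancel₀]
          exact IsFractionRing.to_map_ne_zero_of_mem_nonZeroDivisors hden,
        Algebra.algebraMap_eq_smul_one, TensorProduct.smul_tmul, ← Algebra.smul_def]
    | add x y hx hy =>
      obtain ⟨s, hs, z, hz⟩ := hx
      obtain ⟨t, ht, w, hw⟩ := hy
      refine ⟨s * t, by rw [map_mul]; exact mul_ne_zero hs ht,
        algebraMap R S t * z + algebraMap R S s * w, ?_⟩
      have e : ∀ (r : R) (v : S), (1 : p.ResidueField) ⊗ₜ[R] (algebraMap R S r * v) =
          algebraMap R F r * (1 : p.ResidueField) ⊗ₜ[R] v := fun r v => by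
        rw [Algebra.TensorProduct.algebraMap_apply, Algebra.TensorProduct.tmul_mul_tmul,
          ← Algebra.smul_def, Algebra.algebraMap_eq_smul_one, mul_one, one_mul,
          TensorProduct.smul_tmul]
      rw [tmul_add, e, e, ← hz, ← hw, map_mul]
      ring
  have hmax : ∀ P : Ideal F, P.IsPrime → P.IsMaximal := by
    intro P hP
    obtain ⟨Q, hQ, hPQ⟩ := Ideal.exists_le_maximal P hP.ne_top
    let i : S →ₐ[R] F := Algebra.TensorProduct.includeRight
    have hc : ∀ M : Ideal F, M.IsPrime → (M.comap i).comap (algebraMap R S) = p := by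
      intro M hM
      refine Eq.trans ?_ (Ideal.ker_algebraMap_residueField p)
      ext r
      simp only [Ideal.mem_comap, RingHom.mem_ker, AlgHom.commutes]
      rw [IsScalarTower.algebraMap_apply R p.ResidueField F]
      refine ⟨fun hr => ?_, fun hr => by simp [hr]⟩
      by_contra hne
      exact hM.ne_top (Ideal.eq_top_of_isUnit_mem _ hr ((isUnit_iff_ne_zero.mpr hne).map _))
    have := h.eq_of_le_of_comap_eq (p := P.comap i) (q := Q.comap i) (Ideal.comap_mono hPQ)
      ((hc P hP).trans (hc Q hQ.isPrime).symm)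
    suffices Q ≤ P from le_antisymm hPQ this ▸ hQ
    intro x hx
    obtain ⟨s, hs, z, hz⟩ := hfrac x
    have hzQ : z ∈ Q.comap i := by
      show (1 : p.ResidueField) ⊗ₜ[R] z ∈ Q
      rw [← hz]; exact Ideal.mul_mem_left _ _ hx
    rw [← this, Ideal.mem_comap, show i z = (1 : p.ResidueField) ⊗ₜ[R] z from rfl, ← hz,
      IsScalarTower.algebraMap_apply R p.ResidueField F,
      Ideal.unit_mul_mem_iff_mem _ ((isUnit_iff_ne_zero.mpr hs).map _)] at hzQ
    exact hzQ
  have : Ring.KrullDimLE 0 F := Ring.krullDimLE_zero_iff.mpr hmax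
  have : IsArtinianRing F := isArtinianRing_iff_krullDimLE_zero.mpr this
  have : Finite (MaximalSpectrum F) := inferInstance
  let σ := (Finite.equivFin (MaximalSpectrum F)).symm
  let : ∀ I : MaximalSpectrum F, Field (F ⧸ I.asIdeal) := fun I => Ideal.Quotient.field _
  refine ⟨Nat.card (MaximalSpectrum F), fun i => F ⧸ (σ i).asIdeal, fun i => inferInstance,
    fun i => inferInstance, fun i => ⟨fun y => ?_⟩,
    ⟨((IsArtinianRing.equivPi F).restrictScalars p.ResidueField).trans
      (AlgEquiv.piCongrLeft' p.ResidueField (fun I : MaximalSpectrum F => F ⧸ I.asIdeal) σ.symm)⟩⟩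
  obtain ⟨y, rfl⟩ := Ideal.Quotient.mk_surjective y
  obtain ⟨L, _, _, _, _, ⟨e⟩⟩ := h
  let E : p.ResidueField ⊗[R] Henz R L ≃ₐ[p.ResidueField] F :=
    Algebra.TensorProduct.congr AlgEquiv.refl e
  have := isSeparable_of_algHom ((Ideal.Quotient.mkₐ p.ResidueField (σ i).asIdeal).comp E.toAlgHom)
    (E.symm y)
  simpa using this

end Groth.Agent.Hensel
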