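import Groth.Agent.Hensel.PairNbhd
import Groth.Agent.Hensel.NoethCriterion
import Groth.Agent.Hensel.HenselizationProps
import Mathlib

/-!
# The henselization of a Noetherian pair is Noetherian, with the same completion
-/

noncomputable section

namespace Groth.Agent.Hensel

universe u

variable {A : Type u} [CommRing A] (I : Ideal A) {B : Type u} [CommRing B] [Algebra A B]

theorem exists_stage_finset (hB : Hens2.IsPairHenselization A I B) (s : Finset B) :
    ∃ (U : Type u) (_ : CommRing U) (_ : Algebra A U) (_ : Algebra.Etale A U),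
      IsPairNbhd I U ∧ ∃ φ : U →ₐ[A] B, ∀ x ∈ s, ∃ y, φ y = x := by
  classical
  induction s using Finset.induction with
  | empty =>
    obtain ⟨U, _, _, _, hU, φ, -⟩ := exists_of_isPairHenselization I hB (0 : B)
    exact ⟨U, inferInstance, inferInstance, inferInstance, hU, φ, by simp⟩
  | insert x s _ ih =>
    obtain ⟨U₁, _, _, _, hU₁, φ₁, h₁⟩ := ih
    obtain ⟨U₂, _, _, _, hU₂, φ₂, y₂, hy₂⟩ := exists_of_isPairHenselization I hB x
    obtain ⟨V, _, _, _, hV, ⟨γ₁⟩, ⟨γ₂⟩⟩ := exists_isPairNbhd_hom₂ I hU₁ hU₂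
    obtain ⟨u⟩ := existsUnique_algHom_of_isPairNbhd I hB V hV
    obtain ⟨v₁⟩ := existsUnique_algHom_of_isPairNbhd I hB U₁ hU₁
    obtain ⟨v₂⟩ := existsUnique_algHom_of_isPairNbhd I hB U₂ hU₂
    refine ⟨V, inferInstance, inferInstance, inferInstance, hV, u.default, fun z hz => ?_⟩
    rcases Finset.mem_insert.mp hz with rfl | hz
    · exact ⟨γ₂ y₂, by rw [← AlgHom.comp_apply, Subsingleton.elim (u.default.comp γ₂) φ₂, hy₂]⟩
    · obtain ⟨y, hy⟩ := h₁ z hz
      exact ⟨γ₁ y, by rw [← AlgHom.comp_apply, Subsingleton.elim (u.default.comp γ₁) φ₁, hy]⟩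

theorem exists_sub_mem_of_isPairNbhd {U : Type u} [CommRing U] [Algebra A U] (hU : IsPairNbhd I U) (x : U) :
    ∃ a : A, x - algebraMap A U a ∈ I.map (algebraMap A U) := by
  obtain ⟨c, hc⟩ := hU.2 (Ideal.Quotient.mk _ x)
  obtain ⟨a, rfl⟩ := Ideal.Quotient.mk_surjective c
  rw [Ideal.quotientMap_mk, eq_comm, Ideal.Quotient.eq] at hc
  exact ⟨a, hc⟩

theorem exists_sub_mem_pow {U : Type u} [CommRing U] [Algebra A U]
    (h : ∀ x : U, ∃ a : A, x - algebraMap A U a ∈ I.map (algebraMap A U)) (n : ℕ) (x : U) :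
    ∃ a : A, x - algebraMap A U a ∈ (I ^ n).map (algebraMap A U) := by
  obtain ⟨c, hc⟩ := surjective_quotientMap_pow I h n (Ideal.Quotient.mk _ x)
  obtain ⟨a, rfl⟩ := Ideal.Quotient.mk_surjective c
  rw [Ideal.quotientMap_mk, eq_comm, Ideal.Quotient.eq] at hc
  exact ⟨a, hc⟩

theorem isNoetherianRing_of_isPairHenselization [IsNoetherianRing A]
    (hB : Hens2.IsPairHenselization A I B) : IsNoetherianRing B := by
  classical
  have := hB.1
  have : IsNoetherianRing (B ⧸ I.map (algebraMap A B)) :=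
    isNoetherianRing_of_surjective (A ⧸ I) _ (Ideal.quotientMap (I.map (algebraMap A B)) (algebraMap A B) Ideal.le_comap_map)
      (by
        intro x
        obtain ⟨b, rfl⟩ := Ideal.Quotient.mk_surjective x
        obtain ⟨a, ha⟩ := exists_sub_mem_of_isPairHenselization I hB b
        exact ⟨Ideal.Quotient.mk I a, by rw [Ideal.quotientMap_mk, eq_comm, Ideal.Quotient.eq]; exact ha⟩)
  refine isNoetherianRing_of_forall_fg_closed (I.map (algebraMap A B))
    (Ideal.FG.map (IsNoetherian.noetherian I) _) fun J hJ y hy => ?_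
  obtain ⟨k, x, rfl⟩ := Submodule.fg_iff_exists_fin_generating_family.mp hJ
  obtain ⟨U, _, _, _, hU, φ, hφ⟩ := exists_stage_finset I hB (insert y (Finset.univ.image x))
  obtain ⟨y', hy'⟩ := hφ y (Finset.mem_insert_self _ _)
  choose x' hx' using fun i => hφ (x i) (Finset.mem_insert_of_mem (Finset.mem_image_of_mem _ (Finset.mem_univ i)))
  have : IsNoetherianRing U := Algebra.FiniteType.isNoetherianRing A U
  let J' : Ideal U := Ideal.span (Set.range x')
  have hJ' : J'.map φ.toRingHom = Submodule.span B (Set.range x) := by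
    rw [Ideal.map_span, ← Set.range_comp, show ⇑φ.toRingHom ∘ x' = x from funext hx']
  have hstep : ∀ n, y' ∈ J' ⊔ (I ^ n).map (algebraMap A U) := by
    intro n
    obtain ⟨z, hz, r, hr, hzr⟩ := Submodule.mem_sup.mp (hy n)
    obtain ⟨c, rfl⟩ := Submodule.mem_span_range_iff_exists_fun B |>.mp hz
    rw [← Ideal.map_pow] at hr
    choose d hd using fun i => exists_sub_mem_pow I (exists_sub_mem_of_isPairHenselization I hB) n (c i)
    let w := y' - ∑ i, algebraMap A U (d i) * x' i
    obtain ⟨a, ha⟩ := exists_sub_mem_pow I (exists_sub_mem_of_isPairNbhd I hU) n w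
    have hw : φ w ∈ (I ^ n).map (algebraMap A B) := by
      have e : φ w = r + ∑ i, (c i - algebraMap A B (d i)) * x i := by
        simp only [w, map_sub, map_sum, map_mul, AlgHom.commutes, hy', hx', sub_mul, Finset.sum_sub_distrib, ← hzr,
          smul_eq_mul]
        ring
      rw [e]
      exact add_mem hr (Ideal.sum_mem _ fun i _ => Ideal.mul_mem_right _ _ (hd i))
    have ha' : a ∈ I ^ n := by
      rw [← Ideal.Quotient.eq_zero_iff_mem]
      refine (bijective_quotientMap_pow_of_isPairHenselization I hB n).1 ?_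
      rw [Ideal.quotientMap_mk, map_zero, Ideal.Quotient.eq_zero_iff_mem]
      have := sub_mem hw (algHom_mem_map _ φ ha)
      rwa [map_sub φ w, sub_sub_cancel, AlgHom.commutes] at this
    have hwU : w ∈ (I ^ n).map (algebraMap A U) := by
      have := add_mem ha (Ideal.mem_map_of_mem (algebraMap A U) ha')
      rwa [sub_add_cancel] at this
    have hy'' : y' = (∑ i, algebraMap A U (d i) * x' i) + w := by simp [w]
    rw [hy'']
    exact add_mem (Submodule.mem_sup_left (Ideal.sum_mem _ fun i _ =>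
      Ideal.mul_mem_left _ _ (Ideal.subset_span ⟨i, rfl⟩))) (Submodule.mem_sup_right hwU)
  let IU := I.map (algebraMap A U)
  have hq : (Ideal.Quotient.mk J' y') ∈ ⨅ n : ℕ, IU ^ n • (⊤ : Submodule U (U ⧸ J')) := by
    refine Submodule.mem_iInf _ |>.mpr fun n => ?_
    obtain ⟨z, hz, w, hw, hzw⟩ := Submodule.mem_sup.mp (hstep n)
    rw [← hzw, map_add, Ideal.Quotient.eq_zero_iff_mem.mpr hz, zero_add]
    rw [Ideal.map_pow] at hw
    have : w • (1 : U ⧸ J') ∈ IU ^ n • (⊤ : Submodule U (U ⧸ J')) :=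
      Submodule.smul_mem_smul hw Submodule.mem_top
    rwa [Algebra.smul_def, mul_one] at this
  obtain ⟨⟨e, he⟩, heq⟩ := (Ideal.mem_iInf_smul_pow_eq_bot_iff IU _).mp hq
  have hey : (1 - e) * y' ∈ J' := by
    rw [← Ideal.Quotient.eq_zero_iff_mem, sub_mul, one_mul, map_sub, map_mul, sub_eq_zero]
    exact heq.symm
  have hmem := Ideal.mem_map_of_mem φ.toRingHom hey
  rw [hJ', AlgHom.toRingHom_eq_coe, RingHom.coe_coe, map_mul, hy'] at hmem
  refine (Ideal.unit_mul_mem_iff_mem _ ?_).mp hmem
  have := Ideal.mem_jacobson_bot.mp (HenselianRing.jac (algHom_mem_map I φ he)) (-1)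
  rwa [map_sub, map_one, show (1 : B) - φ e = φ e * -1 + 1 by ring]

theorem bijective_completionMap {M N : Type*} [AddCommGroup M] [Module A M] [AddCommGroup N] [Module A N]
    (f : M →ₗ[A] N) (h : ∀ n, Function.Bijective (f.reduceModIdeal (I ^ n))) :
    Function.Bijective (AdicCompletion.map I f) := by
  refine ⟨fun x y hxy => AdicCompletion.ext fun n => (h n).1 ?_, fun y => ?_⟩
  · rw [← AdicCompletion.map_val_apply, ← AdicCompletion.map_val_apply, hxy]
  · choose g hg using fun n => (h n).2 (y.val n)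
    refine ⟨⟨g, fun {m n} hmn => (h m).1 ?_⟩, AdicCompletion.ext fun n => hg n⟩
    rw [hg]
    have := congr($(AdicCompletion.transitionMap_comp_reduceModIdeal I f hmn) (g n))
    simp only [LinearMap.comp_apply] at this
    refine Eq.trans ?_ (y.2 hmn)
    rw [← hg n]
    exact this.symm

theorem bijective_completionMap_of_isPairHenselization (hB : Hens2.IsPairHenselization A I B) :
    Function.Bijective (AdicCompletion.map I (Algebra.linearMap A B)) := by
  refine bijective_completionMap I _ fun n => ⟨(injective_iff_map_eq_zero _).mpr fun x => ?_, fun x => ?_⟩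
  · obtain ⟨a, rfl⟩ := Submodule.Quotient.mk_surjective _ x
    intro hx
    have h0 : algebraMap A B a ∈ (I ^ n • ⊤ : Submodule A B) := (Submodule.Quotient.mk_eq_zero _).mp hx
    rw [Ideal.smul_top_eq_map, Submodule.restrictScalars_mem] at h0
    refine (Submodule.Quotient.mk_eq_zero _).mpr ?_
    rw [smul_eq_mul, Ideal.mul_top, ← Ideal.Quotient.eq_zero_iff_mem]
    refine (bijective_quotientMap_pow_of_isPairHenselization I hB n).1 ?_
    rw [Ideal.quotientMap_mk, map_zero, Ideal.Quotient.eq_zero_iff_mem]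
    exact h0
  · obtain ⟨b, rfl⟩ := Submodule.Quotient.mk_surjective _ x
    obtain ⟨a, ha⟩ := exists_sub_mem_pow I (exists_sub_mem_of_isPairHenselization I hB) n b
    refine ⟨Submodule.Quotient.mk a, (Submodule.Quotient.eq _).mpr ?_⟩
    rw [Ideal.smul_top_eq_map, Submodule.restrictScalars_mem, ← neg_sub]
    exact neg_mem ha

end Groth.Agent.Hensel
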