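import Groth.Agent.Hensel.TensorHenz
import Mathlib.FieldTheory.PurelyInseparable.Basic
import Mathlib.RingTheory.IntegralClosure.Algebra.Basic

/-!
# Finite and integral cases of the henselization of a tensor product at a prime
-/

noncomputable section

namespace Groth.Agent.Hensel

universe u

open IsLocalRing TensorProduct

theorem isHenselization_self (T : Type u) [CommRing T] [IsLocalRing T] (h : HenselianLocalRing T) :
    letI : IsLocalHom (algebraMap T T) := ⟨fun _ hu => hu⟩
    Hensel.IsHenselization T T := by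
  refine @Hensel.IsHenselization.mk T T _ _ _ _ _ _ h fun T' _ _ f _ => ⟨f, RingHom.ext fun _ => rfl, fun g hg => ?_⟩
  exact (RingHom.ext fun x => RingHom.congr_fun hg x : g = f)

theorem isSepClosure_of_surjective {k K : Type u} [Field k] [Field K] {i : Algebra k K} (h : IsSepClosed K)
    (hs : Function.Surjective (algebraMap k K)) : IsSepClosure k K :=
  ⟨h, ⟨fun x => by
    obtain ⟨y, rfl⟩ := hs x
    exact isSeparable_algebraMap y⟩⟩

theorem isStrictHenselization_self (T : Type u) [CommRing T] [IsLocalRing T] (h : HenselianLocalRing T)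
    (hsep : IsSepClosed (ResidueField T)) :
    letI : IsLocalHom (algebraMap T T) := ⟨fun _ hu => hu⟩
    Hensel.IsStrictHenselization T T := by
  let : IsLocalHom (algebraMap T T) := ⟨fun _ hu => hu⟩
  refine @Hensel.IsStrictHenselization.mk T T _ _ _ _ _ _ h ?_ fun T' _ _ f _ τ hτ => ?_
  · refine isSepClosure_of_surjective hsep fun x => ?_
    obtain ⟨x, rfl⟩ := residue_surjective x
    exact ⟨residue T x, rfl⟩
  · refine ⟨f, ⟨RingHom.ext fun _ => rfl, fun x => ?_⟩, fun g hg => RingHom.ext fun x => RingHom.congr_fun hg.1 x⟩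
    exact ((ResidueField.map_residue f x).symm.trans (RingHom.congr_fun hτ (residue T x)).symm)

/-- If `x` is in the image of a quasi-finite stage and `y` too and is a unit, then `x y⁻¹` is integral. -/
theorem isIntegral_mul_inv_of_stage {A : Type u} [CommRing A] [HenselianLocalRing A] {T : Type u} [CommRing T]
    [IsLocalRing T] [Algebra A T] [IsLocalHom (algebraMap A T)] {D₀ : Type u} [CommRing D₀] [Algebra A D₀]
    [Algebra.FiniteType A D₀] (χ : D₀ →ₐ[A] T) [Algebra.QuasiFiniteAt A ((maximalIdeal T).comap χ.toRingHom)]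
    (x y : D₀) (z : T) (hy : IsUnit (χ y)) (hz : z * χ y = χ x) : IsIntegral A z := by
  let P := (maximalIdeal T).comap χ.toRingHom
  have hA : (maximalIdeal T).comap (algebraMap A T) = maximalIdeal A := by
    have h0 := (local_hom_TFAE (algebraMap A T)).out 0 4
    exact h0.mp ‹IsLocalHom (algebraMap A T)›
  have : P.LiesOver (maximalIdeal A) := ⟨by
    show maximalIdeal A = ((maximalIdeal T).comap χ.toRingHom).comap (algebraMap A D₀)
    rw [Ideal.comap_comap, show χ.toRingHom.comp (algebraMap A D₀) = algebraMap A T from χ.comp_algebraMap, hA]⟩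
  have := exists_finite_localization_of_quasiFiniteAt A P
  have hu : ∀ s : P.primeCompl, IsUnit (χ (s : D₀)) := fun s => by
    by_contra h
    exact s.2 h
  let χ' : Localization.AtPrime P →ₐ[A] T := IsLocalization.liftAlgHom (f := χ) hu
  have hy' : IsUnit (algebraMap D₀ (Localization.AtPrime P) y) :=
    IsLocalization.map_units (Localization.AtPrime P) (⟨y, fun h => h hy⟩ : P.primeCompl)
  obtain ⟨w, hw⟩ := hy'.exists_left_inv
  have e : χ' (w * algebraMap D₀ _ x) = z := by
    have h1 : ∀ d, χ' (algebraMap D₀ _ d) = χ d := fun d => IsLocalization.lift_eq _ _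
    refine hy.mul_right_cancel ?_
    rw [hz, ← h1 y, ← map_mul, mul_right_comm, hw, one_mul, h1]
  exact e ▸ (Algebra.IsIntegral.isIntegral _).map χ'

section Tensor

variable (R : Type u) [CommRing R] (S : Type u) [CommRing S] [Algebra R S] (p : Ideal R) [p.IsPrime]
  (q : Ideal S) [q.IsPrime] [q.LiesOver p]
  (Rh : Type u) [CommRing Rh] [IsLocalRing Rh] [Algebra (Localization.AtPrime p) Rh]
  [IsLocalHom (algebraMap (Localization.AtPrime p) Rh)] [Algebra R Rh] [IsScalarTower R (Localization.AtPrime p) Rh]
  (Sh : Type u) [CommRing Sh] [IsLocalRing Sh] [Algebra (Localization.AtPrime q) Sh]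
  [IsLocalHom (algebraMap (Localization.AtPrime q) Sh)] [Algebra S Sh] [IsScalarTower S (Localization.AtPrime q) Sh]
  [Algebra R Sh] [IsScalarTower R S Sh] [Algebra Rh Sh] [IsScalarTower R Rh Sh]

include p q

theorem comap_algebraMap_over : (maximalIdeal Sh).comap (algebraMap R Sh) = p := by
  rw [IsScalarTower.algebraMap_eq R S Sh, ← Ideal.comap_comap, comap_algebraMap_atPrime S q Sh]
  exact (q.over_def p).symm

theorem isLocalHom_Rh_Sh
    (hmax : (maximalIdeal (Localization.AtPrime p)).map (algebraMap _ Rh) = maximalIdeal Rh) :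
    IsLocalHom (algebraMap Rh Sh) :=
  isLocalHom_of_comap hmax (by rw [← IsScalarTower.algebraMap_eq]; exact comap_algebraMap_over R S p q Sh)

theorem liesOver_tensorPrime [IsLocalHom (algebraMap Rh Sh)] :
    (tensorPrime R S Rh Sh).LiesOver (maximalIdeal Rh) := ⟨by
  have h0 := (local_hom_TFAE (algebraMap Rh Sh)).out 0 4
  rw [← h0.mp ‹IsLocalHom (algebraMap Rh Sh)›]
  ext r
  show algebraMap Rh Sh r ∈ maximalIdeal Sh ↔ tensorPt R S Rh Sh (r ⊗ₜ[R] (1 : S)) ∈ maximalIdeal Sh
  rw [Algebra.TensorProduct.lift_tmul, map_one, mul_one]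
  rfl⟩

theorem quasiFiniteAt_tensorPrime [Algebra.QuasiFiniteAt R q] :
    Algebra.QuasiFiniteAt Rh (tensorPrime R S Rh Sh) :=
  Algebra.QuasiFiniteAt.baseChange q _ (comap_includeRight_tensorPrime R S q Rh Sh).symm

theorem isLocalHom_T [IsLocalHom (algebraMap Rh Sh)] :
    IsLocalHom (algebraMap Rh (Localization.AtPrime (tensorPrime R S Rh Sh))) := ⟨fun r hr => by
  by_contra h
  rw [IsScalarTower.algebraMap_apply Rh (Rh ⊗[R] S), IsLocalization.AtPrime.isUnit_to_map_iff _ (tensorPrime R S Rh Sh)] at hr
  exact hr (((liesOver_tensorPrime R S p q Rh Sh).over ▸ (show r ∈ maximalIdeal Rh from h) :))⟩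

/-- `Sh` is the localization of `Rh ⊗ S` when the latter is henselian. -/
theorem algEquiv_henz [Hensel.IsHenselization (Localization.AtPrime p) Rh]
    [Hensel.IsHenselization (Localization.AtPrime q) Sh]
    (h : HenselianLocalRing (Localization.AtPrime (tensorPrime R S Rh Sh))) :
    Nonempty (Localization.AtPrime (tensorPrime R S Rh Sh) ≃ₐ[Rh] Sh) := by
  let : IsLocalHom (algebraMap (Localization.AtPrime (tensorPrime R S Rh Sh))
      (Localization.AtPrime (tensorPrime R S Rh Sh))) := ⟨fun _ hu => hu⟩
  have := isHenselization_self _ h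
  obtain ⟨e, he⟩ := henz_tensor R S p q Rh Sh (Localization.AtPrime (tensorPrime R S Rh Sh))
  exact ⟨AlgEquiv.ofRingEquiv (f := e) fun r => by
    rw [IsScalarTower.algebraMap_apply Rh (Rh ⊗[R] S) (Localization.AtPrime (tensorPrime R S Rh Sh))]
    exact (he _).trans (by simp)⟩

theorem algEquiv_strict [Hensel.IsStrictHenselization (Localization.AtPrime p) Rh]
    [Hensel.IsStrictHenselization (Localization.AtPrime q) Sh]
    (h : HenselianLocalRing (Localization.AtPrime (tensorPrime R S Rh Sh)))
    (hsep : IsSepClosed (ResidueField (Localization.AtPrime (tensorPrime R S Rh Sh)))) :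
    Nonempty (Localization.AtPrime (tensorPrime R S Rh Sh) ≃ₐ[Rh] Sh) := by
  let : IsLocalHom (algebraMap (Localization.AtPrime (tensorPrime R S Rh Sh))
      (Localization.AtPrime (tensorPrime R S Rh Sh))) := ⟨fun _ hu => hu⟩
  have := isStrictHenselization_self _ h hsep
  obtain ⟨e, he⟩ := strict_tensor R S p q Rh Sh (Localization.AtPrime (tensorPrime R S Rh Sh))
  exact ⟨AlgEquiv.ofRingEquiv (f := e) fun r => by
    rw [IsScalarTower.algebraMap_apply Rh (Rh ⊗[R] S) (Localization.AtPrime (tensorPrime R S Rh Sh))]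
    exact (he _).trans (by simp)⟩

theorem finite_henz [Algebra.FiniteType R S] [Algebra.QuasiFiniteAt R q]
    [Hensel.IsHenselization (Localization.AtPrime p) Rh] [Hensel.IsHenselization (Localization.AtPrime q) Sh] :
    Module.Finite Rh Sh := by
  have : HenselianLocalRing Rh := Hensel.IsHenselization.henselian (R := Localization.AtPrime p)
  have := isLocalHom_Rh_Sh R S p q Rh Sh (map_maximalIdeal_of_isHenselization _ Rh)
  have := liesOver_tensorPrime R S p q Rh Sh
  have := quasiFiniteAt_tensorPrime R S p q Rh Sh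
  have := exists_finite_localization_of_quasiFiniteAt Rh (tensorPrime R S Rh Sh)
  obtain ⟨e⟩ := algEquiv_henz R S p q Rh Sh (henselianLocalRing_of_finite Rh _)
  exact Module.Finite.equiv e.toLinearEquiv

/-- When the local ring of `Rh ⊗ S` is integral over the strictly henselian `Rh`, it is `Sh`. -/
theorem algEquiv_strict_of_isIntegral [Hensel.IsStrictHenselization (Localization.AtPrime p) Rh]
    [Hensel.IsStrictHenselization (Localization.AtPrime q) Sh]
    [Algebra.IsIntegral Rh (Localization.AtPrime (tensorPrime R S Rh Sh))] :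
    Nonempty (Localization.AtPrime (tensorPrime R S Rh Sh) ≃ₐ[Rh] Sh) := by
  have : HenselianLocalRing Rh := Hensel.IsStrictHenselization.henselian (R := Localization.AtPrime p)
  have : IsSepClosed (ResidueField Rh) :=
    (Hensel.IsStrictHenselization.isSepClosure (R := Localization.AtPrime p) (S := Rh)).sep_closed
  have := isLocalHom_of_isIntegral_local Rh (Localization.AtPrime (tensorPrime R S Rh Sh))
  exact algEquiv_strict R S p q Rh Sh (henselianLocalRing_of_isIntegral_local Rh _)
    (residueField_of_isIntegral Rh (Localization.AtPrime (tensorPrime R S Rh Sh))).1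

theorem isPurelyInseparable_strict [IsLocalHom (algebraMap Rh Sh)]
    [Hensel.IsStrictHenselization (Localization.AtPrime p) Rh] [Algebra.IsIntegral Rh Sh] :
    IsPurelyInseparable (ResidueField Rh) (ResidueField Sh) := by
  have : IsSepClosed (ResidueField Rh) :=
    (Hensel.IsStrictHenselization.isSepClosure (R := Localization.AtPrime p) (S := Rh)).sep_closed
  convert (residueField_of_isIntegral Rh Sh).2 using 1
  exact Algebra.algebra_ext _ _ fun z => by
    obtain ⟨z, rfl⟩ := residue_surjective z
    rfl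

theorem finite_strict [Algebra.FiniteType R S] [Algebra.QuasiFiniteAt R q]
    [Hensel.IsStrictHenselization (Localization.AtPrime p) Rh]
    [Hensel.IsStrictHenselization (Localization.AtPrime q) Sh] :
    Module.Finite Rh Sh := by
  have : HenselianLocalRing Rh := Hensel.IsStrictHenselization.henselian (R := Localization.AtPrime p)
  have := isLocalHom_Rh_Sh R S p q Rh Sh (map_maximalIdeal_of_isStrictHenselization _ Rh)
  have := liesOver_tensorPrime R S p q Rh Sh
  have := quasiFiniteAt_tensorPrime R S p q Rh Sh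
  have := exists_finite_localization_of_quasiFiniteAt Rh (tensorPrime R S Rh Sh)
  obtain ⟨e⟩ := algEquiv_strict_of_isIntegral R S p q Rh Sh
  exact Module.Finite.equiv e.toLinearEquiv

/-- If finitely many elements of `S_q` lie in quasi-finite algebras, `Sh` is integral over `Rh`. -/
theorem isIntegral_strict_of_stages [Hensel.IsStrictHenselization (Localization.AtPrime p) Rh]
    [Hensel.IsStrictHenselization (Localization.AtPrime q) Sh]
    (h : ∀ s : Finset (Rh ⊗[R] S), ∃ (D₀ : Type u) (_ : CommRing D₀) (_ : Algebra Rh D₀)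
      (_ : Algebra.FiniteType Rh D₀) (_ : Algebra.QuasiFinite Rh D₀)
      (χ : D₀ →ₐ[Rh] Localization.AtPrime (tensorPrime R S Rh Sh)),
      ∀ d ∈ s, algebraMap (Rh ⊗[R] S) _ d ∈ χ.range) :
    Algebra.IsIntegral Rh Sh := by
  classical
  have : HenselianLocalRing Rh := Hensel.IsStrictHenselization.henselian (R := Localization.AtPrime p)
  have := isLocalHom_Rh_Sh R S p q Rh Sh (map_maximalIdeal_of_isStrictHenselization _ Rh)
  have := isLocalHom_T R S p q Rh Sh
  have : Algebra.IsIntegral Rh (Localization.AtPrime (tensorPrime R S Rh Sh)) := ⟨fun z => by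
    obtain ⟨a, s, rfl⟩ := IsLocalization.exists_mk'_eq (tensorPrime R S Rh Sh).primeCompl z
    obtain ⟨D₀, _, _, _, _, χ, hχ⟩ := h {a, (s : Rh ⊗[R] S)}
    obtain ⟨x, hx⟩ := hχ a (Finset.mem_insert_self _ _)
    obtain ⟨y, hy⟩ := hχ (s : Rh ⊗[R] S) (Finset.mem_insert_of_mem (Finset.mem_singleton_self _))
    have hy' : χ y = algebraMap _ _ (s : Rh ⊗[R] S) := hy
    have hx' : χ x = algebraMap _ _ a := hx
    refine isIntegral_mul_inv_of_stage χ x y _ (hy' ▸ IsLocalization.map_units _ s) ?_
    rw [hx', hy', IsLocalization.mk'_spec]⟩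
  obtain ⟨e⟩ := algEquiv_strict_of_isIntegral R S p q Rh Sh
  exact ⟨fun x => e.apply_symm_apply x ▸ (Algebra.IsIntegral.isIntegral (e.symm x)).map e.toAlgHom⟩

end Tensor

end Groth.Agent.Hensel
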