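import Groth.Agent.Hensel.TensorHenzFinite
import Mathlib.FieldTheory.IsAlgClosed.AlgebraicClosure
import Mathlib.Algebra.CharP.Lemmas

/-!
# Tensor products of strict henselizations over a strict henselization
-/

noncomputable section

namespace Groth.Agent.Hensel

universe u

open IsLocalRing TensorProduct

section Local

variable (R A B : Type u) [CommRing R] [IsLocalRing R] [CommRing A] [IsLocalRing A] [Algebra R A]
  [IsLocalHom (algebraMap R A)] [Algebra.IsIntegral R A] [CommRing B] [IsLocalRing B] [Algebra R B]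
  [IsLocalHom (algebraMap R B)]

/-- The ideal of `A ⊗ B` generated by the two maximal ideals. -/
abbrev tensorMax : Ideal (A ⊗[R] B) :=
  (maximalIdeal A).map (Algebra.TensorProduct.includeLeft : A →ₐ[R] A ⊗[R] B).toRingHom ⊔
    (maximalIdeal B).map (Algebra.TensorProduct.includeRight : B →ₐ[R] A ⊗[R] B).toRingHom

omit [IsLocalRing R] [IsLocalHom (algebraMap R A)] [IsLocalHom (algebraMap R B)] [IsLocalRing A] [IsLocalRing B] in
theorem isIntegral_includeRight :
    (Algebra.TensorProduct.includeRight : B →ₐ[R] A ⊗[R] B).toRingHom.IsIntegral := by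
  intro x
  let : Algebra B (A ⊗[R] B) := Algebra.TensorProduct.rightAlgebra
  show IsIntegral B x
  exact (Algebra.TensorProduct.commRight R B A).apply_symm_apply x ▸
    (Algebra.IsIntegral.isIntegral (R := B) ((Algebra.TensorProduct.commRight R B A).symm x)).map
      (Algebra.TensorProduct.commRight R B A).toAlgHom

theorem tensorMax_ne_top : tensorMax R A B ≠ ⊤ := by
  let L := AlgebraicClosure (ResidueField B)
  let : Algebra (ResidueField R) L := ((algebraMap (ResidueField B) L).comp (algebraMap (ResidueField R) (ResidueField B))).toAlgebra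
  have : Algebra.IsIntegral R (ResidueField A) := ⟨fun x => by
    obtain ⟨a, rfl⟩ := residue_surjective x
    exact (Algebra.IsIntegral.isIntegral (R := R) a).map (IsScalarTower.toAlgHom R A (ResidueField A))⟩
  have : Algebra.IsIntegral (ResidueField R) (ResidueField A) := Algebra.IsIntegral.tower_top (R := R)
  let ε : ResidueField A →ₐ[ResidueField R] L := IsAlgClosed.lift
  let : Algebra R L := ((algebraMap (ResidueField B) L).comp ((residue B).comp (algebraMap R B))).toAlgebra
  let fA : A →ₐ[R] L := { ε.toRingHom.comp (residue A) with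
    commutes' := fun r => by
      show ε (residue A (algebraMap R A r)) = algebraMap R L r
      rw [← ResidueField.algebraMap_residue, ε.commutes]
      rfl }
  let fB : B →ₐ[R] L := { (algebraMap (ResidueField B) L).comp (residue B) with commutes' := fun r => rfl }
  let Λ := Algebra.TensorProduct.lift fA fB fun _ _ => Commute.all _ _
  refine fun htop => one_ne_zero (α := L) ?_
  have hle : tensorMax R A B ≤ RingHom.ker Λ.toRingHom := by
    refine sup_le (Ideal.map_le_iff_le_comap.mpr fun a ha => ?_) (Ideal.map_le_iff_le_comap.mpr fun b hb => ?_)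
    · show Λ (a ⊗ₜ[R] (1 : B)) = 0
      rw [Algebra.TensorProduct.lift_tmul, map_one, mul_one]
      show ε (residue A a) = 0
      rw [(residue_eq_zero_iff a).mpr ha, map_zero]
    · show Λ ((1 : A) ⊗ₜ[R] b) = 0
      rw [Algebra.TensorProduct.lift_tmul, map_one, one_mul]
      show algebraMap _ L (residue B b) = 0
      rw [(residue_eq_zero_iff b).mpr hb, map_zero]
  exact (map_one Λ).symm.trans (RingHom.mem_ker.mp (hle (htop ▸ Submodule.mem_top (x := (1 : A ⊗[R] B)))))

theorem tensorMax_le (M : Ideal (A ⊗[R] B)) [M.IsMaximal] : tensorMax R A B ≤ M := by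
  have hB : M.comap (Algebra.TensorProduct.includeRight : B →ₐ[R] A ⊗[R] B).toRingHom = maximalIdeal B :=
    IsLocalRing.eq_maximalIdeal (Ideal.isMaximal_comap_of_isIntegral_of_isMaximal' _ (isIntegral_includeRight R A B) M)
  have hR : (M.comap (Algebra.TensorProduct.includeLeft : A →ₐ[R] A ⊗[R] B).toRingHom).comap (algebraMap R A) =
      maximalIdeal R := by
    have h0 := (local_hom_TFAE (algebraMap R B)).out 0 4
    rw [← h0.mp ‹IsLocalHom (algebraMap R B)›, ← hB, Ideal.comap_comap, Ideal.comap_comap]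
    congr 1
    exact ((Algebra.TensorProduct.includeLeft : A →ₐ[R] A ⊗[R] B).comp_algebraMap).trans
      ((Algebra.TensorProduct.includeRight : B →ₐ[R] A ⊗[R] B).comp_algebraMap).symm
  have hA : M.comap (Algebra.TensorProduct.includeLeft : A →ₐ[R] A ⊗[R] B).toRingHom = maximalIdeal A := by
    refine IsLocalRing.eq_maximalIdeal (Ideal.isMaximal_of_isIntegral_of_isMaximal_comap (R := R) _ ?_)
    rw [hR]; infer_instance
  exact sup_le (Ideal.map_le_iff_le_comap.mpr hA.ge) (Ideal.map_le_iff_le_comap.mpr hB.ge)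

variable [IsPurelyInseparable (ResidueField R) (ResidueField A)]

theorem exists_pow_sub_mem (x : A ⊗[R] B) :
    ∃ (n : ℕ) (b : B), x ^ (ringExpChar (ResidueField B)) ^ n - (1 : A) ⊗ₜ[R] b ∈ tensorMax R A B := by
  let q := ringExpChar (ResidueField B)
  have : ExpChar (ResidueField R) q :=
    (algebraMap (ResidueField R) (ResidueField B)).expChar (RingHom.injective _) q
  have : Nontrivial ((A ⊗[R] B) ⧸ tensorMax R A B) := Ideal.Quotient.nontrivial_iff.mpr (tensorMax_ne_top R A B)
  let ν : ResidueField B →+* (A ⊗[R] B) ⧸ tensorMax R A B :=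
    Ideal.Quotient.lift (maximalIdeal B) ((Ideal.Quotient.mk _).comp
      (Algebra.TensorProduct.includeRight : B →ₐ[R] A ⊗[R] B).toRingHom) fun b hb =>
      Ideal.Quotient.eq_zero_iff_mem.mpr (Ideal.mem_sup_right (Ideal.mem_map_of_mem _ hb))
  have : ExpChar ((A ⊗[R] B) ⧸ tensorMax R A B) q := expChar_of_injective_ringHom ν.injective q
  suffices h : ∃ (n : ℕ) (c : ResidueField B), Ideal.Quotient.mk (tensorMax R A B) x ^ q ^ n = ν c by
    obtain ⟨n, c, hc⟩ := h
    obtain ⟨b, rfl⟩ := residue_surjective c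
    exact ⟨n, b, Ideal.Quotient.eq.mp (by rw [map_pow]; exact hc)⟩
  induction x with
  | zero => exact ⟨0, 0, by simp⟩
  | tmul a b =>
    obtain ⟨n, c, hc⟩ := IsPurelyInseparable.pow_mem (ResidueField R) q (residue A a)
    obtain ⟨r, rfl⟩ := residue_surjective c
    rw [ResidueField.algebraMap_residue, ← map_pow] at hc
    refine ⟨n, residue B (algebraMap R B r * b ^ q ^ n), ?_⟩
    have hm : a ^ q ^ n - algebraMap R A r ∈ maximalIdeal A := by
      rw [← residue_eq_zero_iff, map_sub, hc, sub_self]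
    show _ = Ideal.Quotient.mk _ ((1 : A) ⊗ₜ[R] (algebraMap R B r * b ^ q ^ n))
    rw [← map_pow, Ideal.Quotient.eq, Algebra.TensorProduct.tmul_pow,
      show (1 : A) ⊗ₜ[R] (algebraMap R B r * b ^ q ^ n) = algebraMap R A r ⊗ₜ[R] (b ^ q ^ n) by
        rw [← Algebra.smul_def, Algebra.algebraMap_eq_smul_one, smul_tmul],
      ← sub_tmul, show ((a ^ q ^ n - algebraMap R A r) ⊗ₜ[R] (b ^ q ^ n) : A ⊗[R] B) =
        ((a ^ q ^ n - algebraMap R A r) ⊗ₜ[R] (1 : B)) * ((1 : A) ⊗ₜ[R] (b ^ q ^ n)) by simp]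
    exact Ideal.mul_mem_right _ _ (Ideal.mem_sup_left (Ideal.mem_map_of_mem
      (Algebra.TensorProduct.includeLeft : A →ₐ[R] A ⊗[R] B).toRingHom hm))
  | add u v hu hv =>
    obtain ⟨n, c, hc⟩ := hu
    obtain ⟨m, d, hd⟩ := hv
    refine ⟨n + m, c ^ q ^ m + d ^ q ^ n, ?_⟩
    rw [map_add, add_pow_expChar_pow, map_add, map_pow ν, map_pow ν, ← hc, ← hd, ← pow_mul, ← pow_mul,
      ← pow_add, ← pow_add, add_comm m n]

theorem isLocalRing_tensor : IsLocalRing (A ⊗[R] B) := by
  have : Nontrivial (A ⊗[R] B) := ⟨0, 1, fun h => tensorMax_ne_top R A B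
    ((Ideal.eq_top_iff_one _).mpr (h ▸ zero_mem _))⟩
  obtain ⟨M₀, hM₀⟩ := Ideal.exists_maximal (A ⊗[R] B)
  refine IsLocalRing.of_unique_max_ideal ⟨M₀, hM₀, fun M hM => ?_⟩
  have key : ∀ (M₁ M₂ : Ideal (A ⊗[R] B)), M₁.IsMaximal → M₂.IsMaximal → M₁ ≤ M₂ := by
    intro M₁ M₂ h₁ h₂ x hx
    obtain ⟨n, b, hb⟩ := exists_pow_sub_mem R A B x
    have hb₁ : (1 : A) ⊗ₜ[R] b ∈ M₁ := by
      have := M₁.sub_mem (M₁.pow_mem_of_mem hx _ (expChar_pow_pos (ResidueField B) (ringExpChar (ResidueField B)) n)) (tensorMax_le R A B M₁ hb)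
      rwa [sub_sub_cancel] at this
    have hb₂ : (1 : A) ⊗ₜ[R] b ∈ M₂ := by
      have hB : b ∈ maximalIdeal B := by
        rw [← IsLocalRing.eq_maximalIdeal (Ideal.isMaximal_comap_of_isIntegral_of_isMaximal' _
          (isIntegral_includeRight R A B) M₁)]
        exact hb₁
      exact tensorMax_le R A B M₂ (Ideal.mem_sup_right (Ideal.mem_map_of_mem _ hB))
    refine h₂.isPrime.mem_of_pow_mem (ringExpChar (ResidueField B) ^ n) ?_
    have := M₂.add_mem (tensorMax_le R A B M₂ hb) hb₂
    rwa [sub_add_cancel] at this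
  exact le_antisymm (key M M₀ hM hM₀) (key M₀ M hM₀ hM)

theorem isLocalHom_includeRight [IsLocalRing (A ⊗[R] B)] :
    IsLocalHom (Algebra.TensorProduct.includeRight : B →ₐ[R] A ⊗[R] B).toRingHom := ⟨fun b hb => by
  by_contra h
  exact (maximalIdeal.isMaximal (A ⊗[R] B)).ne_top (Ideal.eq_top_of_isUnit_mem _
    (tensorMax_le R A B (maximalIdeal _) (Ideal.mem_sup_right (Ideal.mem_map_of_mem _ (show b ∈ maximalIdeal B from h)))) hb)⟩

end Local

section Bijective

variable (A B C : Type u) [CommRing A] [CommRing B] [CommRing C] [Algebra A B] [Algebra A C]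
  (pB : Ideal B) [pB.IsPrime] (pC : Ideal C) [pC.IsPrime] (pD : Ideal (B ⊗[A] C)) [pD.IsPrime] [pD.LiesOver pB]
  (hDC : pD.comap (Algebra.TensorProduct.includeRight : C →ₐ[A] B ⊗[A] C).toRingHom = pC)
  (Ash : Type u) [CommRing Ash] [HenselianLocalRing Ash] [IsSepClosed (ResidueField Ash)] [Algebra A Ash]
  (Bsh : Type u) [CommRing Bsh] [IsLocalRing Bsh] [Algebra (Localization.AtPrime pB) Bsh]
  [IsLocalHom (algebraMap (Localization.AtPrime pB) Bsh)]
  [Hensel.IsStrictHenselization (Localization.AtPrime pB) Bsh] [Algebra B Bsh]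
  [IsScalarTower B (Localization.AtPrime pB) Bsh] [Algebra A Bsh] [IsScalarTower A B Bsh]
  [Algebra Ash Bsh] [IsScalarTower A Ash Bsh] [IsLocalHom (algebraMap Ash Bsh)]
  (Csh : Type u) [CommRing Csh] [IsLocalRing Csh] [Algebra (Localization.AtPrime pC) Csh]
  [IsLocalHom (algebraMap (Localization.AtPrime pC) Csh)]
  [Hensel.IsStrictHenselization (Localization.AtPrime pC) Csh] [Algebra C Csh]
  [IsScalarTower C (Localization.AtPrime pC) Csh] [Algebra A Csh] [IsScalarTower A C Csh]
  [Algebra Ash Csh] [IsScalarTower A Ash Csh] [IsLocalHom (algebraMap Ash Csh)]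
  (Dsh : Type u) [CommRing Dsh] [IsLocalRing Dsh] [Algebra (Localization.AtPrime pD) Dsh]
  [IsLocalHom (algebraMap (Localization.AtPrime pD) Dsh)]
  [Hensel.IsStrictHenselization (Localization.AtPrime pD) Dsh] [Algebra (B ⊗[A] C) Dsh]
  [IsScalarTower (B ⊗[A] C) (Localization.AtPrime pD) Dsh]
  [Algebra Bsh Dsh] [IsLocalHom (algebraMap Bsh Dsh)] [Algebra B Dsh] [IsScalarTower B Bsh Dsh]
  [IsScalarTower B (B ⊗[A] C) Dsh]
  [Algebra Csh Dsh] [IsLocalHom (algebraMap Csh Dsh)]
  (hC : ∀ c : C, algebraMap Csh Dsh (algebraMap C Csh c) = algebraMap (B ⊗[A] C) Dsh (1 ⊗ₜ[A] c))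
  [Algebra Ash Dsh] [IsScalarTower Ash Bsh Dsh] [IsScalarTower Ash Csh Dsh]

include hC hDC pB

theorem bijective_tensor_strict [Algebra.IsIntegral Ash Bsh]
    [IsPurelyInseparable (ResidueField Ash) (ResidueField Bsh)] :
    Function.Bijective (Algebra.TensorProduct.lift (IsScalarTower.toAlgHom Ash Bsh Dsh)
      (IsScalarTower.toAlgHom Ash Csh Dsh) (fun _ _ => Commute.all _ _)) := by
  have : HenselianLocalRing Bsh := Hensel.IsStrictHenselization.henselian (R := Localization.AtPrime pB)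
  have : HenselianLocalRing Csh := Hensel.IsStrictHenselization.henselian (R := Localization.AtPrime pC)
  have : HenselianLocalRing Dsh := Hensel.IsStrictHenselization.henselian (R := Localization.AtPrime pD)
  have : IsSepClosed (ResidueField Csh) :=
    (Hensel.IsStrictHenselization.isSepClosure (R := Localization.AtPrime pC) (S := Csh)).sep_closed
  have : Algebra.IsSeparable (ResidueField (Localization.AtPrime pD)) (ResidueField Dsh) :=
    (Hensel.IsStrictHenselization.isSepClosure (R := Localization.AtPrime pD) (S := Dsh)).separable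
  let φ : Bsh ⊗[Ash] Csh →ₐ[Ash] Dsh := Algebra.TensorProduct.lift (IsScalarTower.toAlgHom Ash Bsh Dsh)
      (IsScalarTower.toAlgHom Ash Csh Dsh) (fun _ _ => Commute.all _ _)
  show Function.Bijective φ
  -- `G = Bsh ⊗ Csh` is strictly henselian
  have : IsLocalRing (Bsh ⊗[Ash] Csh) := isLocalRing_tensor Ash Bsh Csh
  obtain ⟨hGh, hGs, hφl⟩ : HenselianLocalRing (Bsh ⊗[Ash] Csh) ∧ IsSepClosed (ResidueField (Bsh ⊗[Ash] Csh)) ∧
      IsLocalHom φ.toRingHom := by
    have hloc := isLocalHom_includeRight Ash Bsh Csh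
    let : Algebra Csh (Bsh ⊗[Ash] Csh) := Algebra.TensorProduct.rightAlgebra
    have : Algebra.IsIntegral Csh (Bsh ⊗[Ash] Csh) := ⟨fun x => isIntegral_includeRight Ash Bsh Csh x⟩
    have : IsLocalHom (algebraMap Csh (Bsh ⊗[Ash] Csh)) := hloc
    refine ⟨henselianLocalRing_of_isIntegral_local Csh _, (residueField_of_isIntegral Csh (Bsh ⊗[Ash] Csh)).1, ?_⟩
    refine ((local_hom_TFAE φ.toRingHom).out 0 4).mpr ?_
    have hc : (((maximalIdeal Dsh).comap φ.toRingHom).comap (algebraMap Csh (Bsh ⊗[Ash] Csh))).IsMaximal := by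
      have h0 := (local_hom_TFAE (algebraMap Csh Dsh)).out 0 4
      rw [Ideal.comap_comap, show φ.toRingHom.comp (algebraMap Csh (Bsh ⊗[Ash] Csh)) = algebraMap Csh Dsh from
        RingHom.ext fun c => show φ (1 ⊗ₜ[Ash] c) = _ by simp [φ], h0.mp ‹IsLocalHom (algebraMap Csh Dsh)›]
      infer_instance
    exact IsLocalRing.eq_maximalIdeal (Ideal.isMaximal_of_isIntegral_of_isMaximal_comap (R := Csh) _ hc)
  let ψ : B ⊗[A] C →ₐ[A] Bsh ⊗[Ash] Csh := Algebra.TensorProduct.lift
    (((Algebra.TensorProduct.includeLeft : Bsh →ₐ[Ash] Bsh ⊗[Ash] Csh).restrictScalars A).comp (IsScalarTower.toAlgHom A B Bsh))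
    (((Algebra.TensorProduct.includeRight : Csh →ₐ[Ash] Bsh ⊗[Ash] Csh).restrictScalars A).comp (IsScalarTower.toAlgHom A C Csh))
    fun _ _ => Commute.all _ _
  have hφψ : φ.toRingHom.comp ψ.toRingHom = algebraMap (B ⊗[A] C) Dsh := RingHom.ext fun d => by
    show φ (ψ d) = _
    induction d with
    | zero => simp
    | add a b ha hb => simp only [map_add, ha, hb]
    | tmul b c =>
      rw [show ψ (b ⊗ₜ[A] c) = algebraMap B Bsh b ⊗ₜ[Ash] algebraMap C Csh c by simp [ψ],
        show b ⊗ₜ[A] c = algebraMap B (B ⊗[A] C) b * ((1 : B) ⊗ₜ[A] c) by simp, map_mul,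
        ← IsScalarTower.algebraMap_apply, ← hC, IsScalarTower.algebraMap_apply B Bsh Dsh]
      simp [φ]
  have hψd : ∀ d, φ (ψ d) = algebraMap (B ⊗[A] C) Dsh d := fun d => RingHom.congr_fun hφψ d
  have hcψ : (maximalIdeal (Bsh ⊗[Ash] Csh)).comap ψ.toRingHom = pD := by
    have h0 := (local_hom_TFAE φ.toRingHom).out 0 4
    rw [← h0.mp hφl, Ideal.comap_comap, hφψ]
    exact comap_algebraMap_atPrime (B ⊗[A] C) pD Dsh
  obtain ⟨F, hF, hFl⟩ := exists_localization_lift ψ.toRingHom hcψ
  let τ : ResidueField (Bsh ⊗[Ash] Csh) →+* ResidueField Dsh := ResidueField.map φ.toRingHom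
  have hτ : Function.Bijective τ := bijective_of_sepClosed (ResidueField.map F) τ (RingHom.ext fun z => by
    obtain ⟨z, rfl⟩ := residue_surjective z
    have h1 : φ.toRingHom.comp F = algebraMap (Localization.AtPrime pD) Dsh := IsLocalization.ringHom_ext pD.primeCompl (by
      rw [RingHom.comp_assoc, hF, hφψ, ← IsScalarTower.algebraMap_eq])
    rw [RingHom.comp_apply, ResidueField.map_residue, ResidueField.map_residue, ← RingHom.comp_apply φ.toRingHom F, h1]
    rfl)
  let τe := RingEquiv.ofBijective τ hτ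
  obtain ⟨h, hh, hhl, hhres⟩ := strict_lift (p := pD) (Rh := Dsh) ψ.toRingHom hcψ τe.symm.toRingHom (fun d => by
    apply τe.injective
    show τe (τe.symm _) = τ (residue _ (ψ d))
    rw [τe.apply_symm_apply, ResidueField.map_residue]
    exact congrArg _ (hψd d).symm)
  have hhd : ∀ d, h (algebraMap (B ⊗[A] C) Dsh d) = ψ d := fun d => RingHom.congr_fun hh d
  have hresφ : ∀ y, residue _ (h (φ y)) = residue _ y := fun y => by
    rw [hhres, show residue Dsh (φ y) = τ (residue _ y) from (ResidueField.map_residue φ.toRingHom y).symm]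
    exact τe.symm_apply_apply (residue _ y)
  have hφh : φ.toRingHom.comp h = RingHom.id Dsh := (strict_ext (R := B ⊗[A] C) (p := pD) (Rh := Dsh)
    (g := RingHom.id Dsh) (g' := φ.toRingHom.comp h) (RingHom.ext fun d => by
      show algebraMap (B ⊗[A] C) Dsh d = φ (h (algebraMap (B ⊗[A] C) Dsh d))
      rw [hhd, hψd])
    (comap_algebraMap_atPrime (B ⊗[A] C) pD Dsh) (fun x => by
      show residue Dsh x = residue Dsh (φ.toRingHom (h x))
      rw [← ResidueField.map_residue φ.toRingHom, hhres]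
      exact (τe.apply_symm_apply _).symm)).symm
  have eB : (h.comp φ.toRingHom).comp Algebra.TensorProduct.includeLeftRingHom =
      (Algebra.TensorProduct.includeLeftRingHom : Bsh →+* Bsh ⊗[Ash] Csh) := by
    have e : ((Algebra.TensorProduct.includeLeftRingHom : Bsh →+* Bsh ⊗[Ash] Csh)).comp (algebraMap B Bsh) =
        ψ.toRingHom.comp (algebraMap B (B ⊗[A] C)) := RingHom.ext fun b => by
      show algebraMap B Bsh b ⊗ₜ[Ash] (1 : Csh) = ψ (b ⊗ₜ[A] (1 : C))
      simp [ψ]
    refine (strict_ext (R := B) (p := pB) (Rh := Bsh) ?_ ?_ fun x => (hresφ _).symm).symm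
    · refine RingHom.ext fun b => ?_
      show algebraMap B Bsh b ⊗ₜ[Ash] (1 : Csh) = h (φ (algebraMap B Bsh b ⊗ₜ[Ash] (1 : Csh)))
      rw [show algebraMap B Bsh b ⊗ₜ[Ash] (1 : Csh) = ψ (algebraMap B (B ⊗[A] C) b) from RingHom.congr_fun e b,
        hψd, hhd]
    · rw [e, ← Ideal.comap_comap, hcψ]
      exact (pD.over_def pB).symm
  have eC : (h.comp φ.toRingHom).comp (Algebra.TensorProduct.includeRight : Csh →ₐ[Ash] Bsh ⊗[Ash] Csh).toRingHom =
      (Algebra.TensorProduct.includeRight : Csh →ₐ[Ash] Bsh ⊗[Ash] Csh).toRingHom := by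
    have e : (Algebra.TensorProduct.includeRight : Csh →ₐ[Ash] Bsh ⊗[Ash] Csh).toRingHom.comp (algebraMap C Csh) =
        ψ.toRingHom.comp (Algebra.TensorProduct.includeRight : C →ₐ[A] B ⊗[A] C).toRingHom := RingHom.ext fun c => by
      show (1 : Bsh) ⊗ₜ[Ash] algebraMap C Csh c = ψ ((1 : B) ⊗ₜ[A] c)
      simp [ψ]
    refine (strict_ext (R := C) (p := pC) (Rh := Csh) ?_ ?_ fun x => (hresφ _).symm).symm
    · refine RingHom.ext fun c => ?_
      show (1 : Bsh) ⊗ₜ[Ash] algebraMap C Csh c = h (φ ((1 : Bsh) ⊗ₜ[Ash] algebraMap C Csh c))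
      rw [show (1 : Bsh) ⊗ₜ[Ash] algebraMap C Csh c = ψ ((1 : B) ⊗ₜ[A] c) from RingHom.congr_fun e c, hψd, hhd]
    · rw [e, ← Ideal.comap_comap, hcψ, hDC]
  have hhφ : ∀ y, h (φ y) = y := fun y => by
    induction y with
    | zero => simp
    | add a b ha hb => simp only [map_add, ha, hb]
    | tmul b c =>
      rw [show b ⊗ₜ[Ash] c = (b ⊗ₜ[Ash] (1 : Csh)) * ((1 : Bsh) ⊗ₜ[Ash] c) by simp, map_mul, map_mul]
      exact congr_arg₂ (· * ·) (RingHom.congr_fun eB b) (RingHom.congr_fun eC c)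
  exact ⟨fun a b hab => by rw [← hhφ a, ← hhφ b, hab], fun y => ⟨h y, RingHom.congr_fun hφh y⟩⟩

end Bijective

section Stages

variable (R : Type u) [CommRing R] (S : Type u) [CommRing S] [Algebra R S] (p : Ideal R) [p.IsPrime]
  (q : Ideal S) [q.IsPrime] [q.LiesOver p]
  (Rh : Type u) [CommRing Rh] [IsLocalRing Rh] [Algebra (Localization.AtPrime p) Rh]
  [IsLocalHom (algebraMap (Localization.AtPrime p) Rh)] [Algebra R Rh] [IsScalarTower R (Localization.AtPrime p) Rh]
  (Sh : Type u) [CommRing Sh] [IsLocalRing Sh] [Algebra (Localization.AtPrime q) Sh]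
  [IsLocalHom (algebraMap (Localization.AtPrime q) Sh)] [Algebra S Sh] [IsScalarTower S (Localization.AtPrime q) Sh]
  [Algebra R Sh] [IsScalarTower R S Sh] [Algebra Rh Sh] [IsScalarTower R Rh Sh]
  [Hensel.IsStrictHenselization (Localization.AtPrime p) Rh]
  [Hensel.IsStrictHenselization (Localization.AtPrime q) Sh]

include p q

theorem isIntegral_strict_of_subalgebras
    (hB : ∀ s : Finset S, ∃ B₀ : Subalgebra R S, (↑s : Set S) ⊆ ↑B₀ ∧
      Algebra.FiniteType R ↥B₀ ∧ Algebra.QuasiFinite R ↥B₀) :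
    Algebra.IsIntegral Rh Sh := by
  classical
  refine isIntegral_strict_of_stages R S p q Rh Sh fun s => ?_
  choose F hF using fun d : Rh ⊗[R] S => TensorProduct.exists_finset d
  obtain ⟨B₀, hB₀, hft, hqf⟩ := hB (s.biUnion fun d => (F d).image Prod.snd)
  refine ⟨Rh ⊗[R] B₀, inferInstance, inferInstance, inferInstance, inferInstance,
    (IsScalarTower.toAlgHom Rh (Rh ⊗[R] S) _).comp (Algebra.TensorProduct.map (AlgHom.id Rh Rh) B₀.val), fun d hd => ?_⟩
  rw [hF d, map_sum]
  refine Subalgebra.sum_mem _ fun i hi => ?_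
  exact ⟨i.1 ⊗ₜ[R] ⟨i.2, hB₀ (Finset.mem_coe.mpr (Finset.mem_biUnion.mpr ⟨d, hd, Finset.mem_image.mpr ⟨i, hi, rfl⟩⟩))⟩,
    by simp⟩

theorem isIntegral_strict_of_local_subalgebras
    [Algebra (Localization.AtPrime p) (Localization.AtPrime q)]
    [IsScalarTower R (Localization.AtPrime p) (Localization.AtPrime q)]
    (hB : ∀ s : Finset (Localization.AtPrime q), ∃ B₀ : Subalgebra (Localization.AtPrime p) (Localization.AtPrime q),
      (↑s : Set (Localization.AtPrime q)) ⊆ ↑B₀ ∧
        Algebra.FiniteType (Localization.AtPrime p) ↥B₀ ∧ Algebra.QuasiFinite (Localization.AtPrime p) ↥B₀) :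
    Algebra.IsIntegral Rh Sh := by
  classical
  refine isIntegral_strict_of_stages R S p q Rh Sh fun s => ?_
  choose F hF using fun d : Rh ⊗[R] S => TensorProduct.exists_finset d
  obtain ⟨B₀, hB₀, hft, hqf⟩ :=
    hB ((s.biUnion fun d => (F d).image Prod.snd).image (algebraMap S (Localization.AtPrime q)))
  let T := Localization.AtPrime (tensorPrime R S Rh Sh)
  let ι : S →+* Rh ⊗[R] S := (Algebra.TensorProduct.includeRight : S →ₐ[R] Rh ⊗[R] S).toRingHom
  let L : Localization.AtPrime q →+* T :=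
    Localization.localRingHom q _ ι (comap_includeRight_tensorPrime R S q Rh Sh).symm
  have hL : ∀ x, L (algebraMap S _ x) = algebraMap (Rh ⊗[R] S) T ((1 : Rh) ⊗ₜ[R] x) := fun x =>
    Localization.localRingHom_to_map _ _ _ _ x
  let L' : Localization.AtPrime q →ₐ[Localization.AtPrime p] T := { L with
    commutes' := fun x => by
      have : L.comp (algebraMap (Localization.AtPrime p) (Localization.AtPrime q)) =
          algebraMap (Localization.AtPrime p) T := IsLocalization.ringHom_ext p.primeCompl (RingHom.ext fun r => by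
        show L (algebraMap _ _ (algebraMap R _ r)) = algebraMap (Localization.AtPrime p) T (algebraMap R _ r)
        rw [IsScalarTower.algebraMap_apply (Localization.AtPrime p) Rh T]
        rw [← IsScalarTower.algebraMap_apply R (Localization.AtPrime p) (Localization.AtPrime q),
          IsScalarTower.algebraMap_apply R S (Localization.AtPrime q), hL,
          ← IsScalarTower.algebraMap_apply R (Localization.AtPrime p) Rh,
          IsScalarTower.algebraMap_apply Rh (Rh ⊗[R] S) T]
        congr 1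
        show (1 : Rh) ⊗ₜ[R] algebraMap R S r = algebraMap R Rh r ⊗ₜ[R] (1 : S)
        rw [Algebra.algebraMap_eq_smul_one, Algebra.algebraMap_eq_smul_one, smul_tmul])
      exact RingHom.congr_fun this x }
  refine ⟨Rh ⊗[Localization.AtPrime p] B₀, inferInstance, inferInstance, inferInstance, inferInstance,
    Algebra.TensorProduct.lift (Algebra.ofId Rh T) (L'.comp B₀.val) (fun _ _ => Commute.all _ _), fun d hd => ?_⟩
  rw [hF d, map_sum]
  refine Subalgebra.sum_mem _ fun i hi => ?_
  refine ⟨i.1 ⊗ₜ[Localization.AtPrime p] ⟨algebraMap S _ i.2, hB₀ (Finset.mem_coe.mpr (Finset.mem_image.mpr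
    ⟨i.2, Finset.mem_biUnion.mpr ⟨d, hd, Finset.mem_image.mpr ⟨i, hi, rfl⟩⟩, rfl⟩))⟩, ?_⟩
  show algebraMap Rh T i.1 * L (algebraMap S _ i.2) = _
  rw [hL, IsScalarTower.algebraMap_apply Rh (Rh ⊗[R] S) T, ← map_mul]
  simp [T]

end Stages

end Groth.Agent.Hensel
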