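import Groth.Agent.Hensel.Local
import Mathlib

/-!
# Finite étale local algebras with prescribed residue field extension
-/

noncomputable section

namespace Groth.Agent.Hensel

universe u

open Polynomial IsLocalRing

theorem etale_adjoinRoot {A : Type u} [CommRing A] {f : A[X]} (hf : f.Monic)
    (h : IsUnit (aeval (AdjoinRoot.root f) (derivative f))) : Algebra.Etale A (AdjoinRoot f) := by
  obtain ⟨b, hb⟩ := h.exists_left_inv
  obtain ⟨p₁, rfl⟩ := AdjoinRoot.mk_surjective b
  rw [AdjoinRoot.aeval_eq, ← map_mul, ← map_one (AdjoinRoot.mk f), AdjoinRoot.mk_eq_mk] at hb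
  obtain ⟨c, hc⟩ := hb
  let P : StandardEtalePair A := ⟨f, hf, 1, p₁, -c, 1, by rw [pow_one]; linear_combination hc⟩
  have e := P.equivAwayAdjoinRoot
  have hu : IsUnit (AdjoinRoot.mk f (1 : A[X])) := by rw [map_one]; exact isUnit_one
  exact Algebra.Etale.of_equiv (e.trans
    ((IsLocalization.atUnit (AdjoinRoot f) (Localization.Away (AdjoinRoot.mk f (1 : A[X]))) _ hu).restrictScalars A).symm)

theorem exists_finite_etale_residueField (A : Type u)
    [CommRing A] [IsLocalRing A] (l : Type u) [Field l]
    [Algebra (ResidueField A) l] [FiniteDimensional (ResidueField A) l]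
    [Algebra.IsSeparable (ResidueField A) l] :
    ∃ (E : Type u) (_ : CommRing E) (_ : IsLocalRing E) (_ : Algebra A E)
      (_ : IsLocalHom (algebraMap A E)),
      Module.Finite A E ∧ Algebra.Etale A E ∧
        Nonempty (ResidueField E ≃ₐ[ResidueField A] l) := by
  let k := ResidueField A
  obtain ⟨θ, hθ⟩ := Field.exists_primitive_element k l
  have hint : IsIntegral k θ := .of_finite k θ
  let g := minpoly k θ
  obtain ⟨f, hfg, -, hf⟩ := lifts_and_natDegree_eq_and_monic
    ((lifts_iff_coeff_lifts g).mpr fun n => residue_surjective (g.coeff n)) (minpoly.monic hint)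
  let E := AdjoinRoot f
  have : Module.Finite A E := hf.finite_adjoinRoot
  let φ : E →+* l := AdjoinRoot.lift ((algebraMap k l).comp (residue A)) θ (by
    rw [← eval₂_map, hfg]; exact minpoly.aeval k θ)
  have hφmk : ∀ p, φ (AdjoinRoot.mk f p) = aeval θ (p.map (residue A)) := fun p => by
    rw [AdjoinRoot.lift_mk, aeval_def, eval₂_map]
  have hφsurj : Function.Surjective φ := fun z => by
    have hz : z ∈ Algebra.adjoin k {θ} := by
      rw [← IntermediateField.adjoin_simple_toSubalgebra_of_isAlgebraic hint.isAlgebraic, hθ]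
      trivial
    rw [Algebra.adjoin_singleton_eq_range_aeval] at hz
    obtain ⟨q, rfl⟩ := hz
    obtain ⟨p, rfl⟩ := map_surjective (residue A) residue_surjective q
    exact ⟨AdjoinRoot.mk f p, hφmk p⟩
  set M := RingHom.ker φ with hM
  have hMmax : M.IsMaximal := RingHom.ker_isMaximal_of_surjective φ hφsurj
  have hMeq : M = (maximalIdeal A).map (algebraMap A E) := by
    refine le_antisymm (fun x hx => ?_) (Ideal.map_le_iff_le_comap.mpr fun a ha => ?_)
    · obtain ⟨p, rfl⟩ := AdjoinRoot.mk_surjective x
      rw [RingHom.mem_ker, hφmk] at hx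
      obtain ⟨q, hq⟩ := minpoly.dvd k θ hx
      obtain ⟨q', rfl⟩ := map_surjective (residue A) residue_surjective q
      have hr : p - f * q' ∈ RingHom.ker (mapRingHom (residue A)) := by
        rw [RingHom.mem_ker, coe_mapRingHom, Polynomial.map_sub, Polynomial.map_mul, hq, hfg, sub_self]
      rw [ker_mapRingHom, ker_residue] at hr
      have hr' := Ideal.mem_map_of_mem (AdjoinRoot.mk f) hr
      rwa [map_sub, map_mul, AdjoinRoot.mk_self, zero_mul, sub_zero, Ideal.map_map] at hr'
    · show φ (AdjoinRoot.mk f (C a)) = 0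
      rw [hφmk, map_C, (residue_eq_zero_iff a).mpr ha, map_zero, map_zero]
  have hjac : (maximalIdeal A).map (algebraMap A E) ≤ (⊥ : Ideal E).jacobson :=
    map_maximalIdeal_le_jacobson A E
  have huniq : ∀ N : Ideal E, N.IsMaximal → N = M := fun N hN => by
    refine (hMmax.eq_of_le hN.ne_top ?_).symm
    exact hMeq.trans_le (hjac.trans (by rw [Ideal.jacobson]; exact sInf_le ⟨bot_le, hN⟩))
  have : IsLocalRing E := IsLocalRing.of_unique_max_ideal ⟨M, hMmax, huniq⟩
  have hmax : maximalIdeal E = M := huniq _ inferInstance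
  have : IsLocalHom (algebraMap A E) :=
    ((local_hom_TFAE (algebraMap A E)).out 0 2).mpr (hMeq.symm.trans_le hmax.ge)
  have hφ0 : ∀ x, φ x = 0 ↔ x ∈ maximalIdeal E := fun x => by rw [hmax]; rfl
  refine ⟨E, inferInstance, inferInstance, inferInstance, inferInstance, inferInstance, ?_, ⟨?_⟩⟩
  · refine etale_adjoinRoot hf (by_contra fun h => ?_)
    have h0 := (hφ0 _).mpr h
    rw [AdjoinRoot.aeval_eq, hφmk, ← derivative_map, hfg] at h0
    exact (Algebra.IsSeparable.isSeparable k θ).aeval_derivative_ne_zero (minpoly.aeval k θ) h0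
  · let χ : ResidueField E →+* l := Ideal.Quotient.lift (maximalIdeal E) φ fun x hx => (hφ0 x).mpr hx
    let χa : ResidueField E →ₐ[k] l := AlgHom.mk χ (fun r => by
      obtain ⟨a, rfl⟩ := residue_surjective r
      show φ (AdjoinRoot.mk f (C a)) = _
      rw [hφmk, map_C, aeval_C])
    exact AlgEquiv.ofBijective χa ⟨χ.injective, fun z => (hφsurj z).elim fun x hx => ⟨residue E x, hx⟩⟩

end Groth.Agent.Hensel
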