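import Groth.Agent.Hensel.PairBasic
import Mathlib.Algebra.Colimit.DirectLimit
import Mathlib.RingTheory.Flat.Localization

/-!
# The universal henselian neighbourhood of an algebra

For an `R`-algebra `K`, `Henz R K` is the colimit of the étale `R`-algebras `B` with a map to `K`,
each localized at the elements invertible in `K`.  With `K` a residue field, a separable closure of
it, or a quotient `R ⧸ I`, this is the henselization, strict henselization, resp. henselization of
a pair.
-/

noncomputable section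

namespace Groth.Agent.Hensel

universe u v w

variable (R K : Type u) [CommRing R] [CommRing K] [Algebra R K]

/-- An étale `R`-algebra with a map to `K`, in a small model. -/
structure Nbhd : Type u where
  n : ℕ
  J : Ideal (MvPolynomial (Fin n) R)
  etale : Algebra.Etale R (MvPolynomial (Fin n) R ⧸ J)
  τ : (MvPolynomial (Fin n) R ⧸ J) →ₐ[R] K

namespace Nbhd

variable {R K}

/-- The algebra of a neighbourhood. -/
def B (N : Nbhd R K) : Type u := MvPolynomial (Fin N.n) R ⧸ N.J

instance (N : Nbhd R K) : CommRing N.B :=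
  inferInstanceAs (CommRing (MvPolynomial (Fin N.n) R ⧸ N.J))

instance (N : Nbhd R K) : Algebra R N.B :=
  inferInstanceAs (Algebra R (MvPolynomial (Fin N.n) R ⧸ N.J))

instance (N : Nbhd R K) : Algebra.Etale R N.B := N.etale

/-- The map to `K` of a neighbourhood. -/
def toK (N : Nbhd R K) : N.B →ₐ[R] K := N.τ

/-- The elements which become units in `K`. -/
abbrev S (N : Nbhd R K) : Submonoid N.B := (IsUnit.submonoid K).comap N.toK.toRingHom

/-- The localized neighbourhood. -/
abbrev Stage (N : Nbhd R K) : Type u := Localization N.S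

/-- The map from a localized neighbourhood to `K`. -/
noncomputable def ρ (N : Nbhd R K) : N.Stage →ₐ[R] K :=
  IsLocalization.liftAlgHom (A := R) (S := N.Stage) (M := N.S) (f := N.toK) (fun y => y.2)

@[simp] theorem ρ_algebraMap (N : Nbhd R K) (b : N.B) : N.ρ (algebraMap N.B N.Stage b) = N.toK b := by
  simp [ρ]

theorem isUnit_of_isUnit_ρ (N : Nbhd R K) {x : N.Stage} (h : IsUnit (N.ρ x)) : IsUnit x := by
  obtain ⟨⟨b, s⟩, e⟩ := IsLocalization.surj N.S x
  have hb : IsUnit (N.toK b) := by
    rw [← N.ρ_algebraMap, ← e, map_mul, N.ρ_algebraMap]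
    exact h.mul s.2
  have := IsLocalization.map_units N.Stage (⟨b, hb⟩ : N.S)
  rw [show algebraMap N.B N.Stage ↑(⟨b, hb⟩ : N.S) = algebraMap N.B N.Stage b from rfl, ← e] at this
  exact isUnit_of_mul_isUnit_left this

theorem hom_ext {N : Nbhd R K} {T : Type v} [CommRing T] [Algebra R T] {L : Type w} [CommRing L]
    (π : T →+* L) (hπ : ∀ t, π t = 1 → IsUnit t) (f g : N.Stage →ₐ[R] T)
    (h : ∀ b, π (f (algebraMap N.B N.Stage b)) = π (g (algebraMap N.B N.Stage b))) : f = g := by
  refine Localization.algHom_ext N.S ?_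
  refine algHom_ext_of_isUnit π hπ _ _ fun b => ?_
  simpa [Algebra.algHom] using h b

/-- Transition maps are unique. -/
theorem hom_unique {N M : Nbhd R K} (f g : N.Stage →ₐ[R] M.Stage) (hf : M.ρ.comp f = N.ρ)
    (hg : M.ρ.comp g = N.ρ) : f = g :=
  hom_ext M.ρ.toRingHom (fun _ ht => M.isUnit_of_isUnit_ρ (show IsUnit (M.ρ _) by
    rw [show M.ρ _ = 1 from ht]; exact isUnit_one)) f g
    fun b => congr($(hf.trans hg.symm) (algebraMap N.B N.Stage b))

instance : Preorder (Nbhd R K) where
  le N M := ∃ f : N.Stage →ₐ[R] M.Stage, M.ρ.comp f = N.ρ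
  le_refl N := ⟨AlgHom.id R _, by ext; simp⟩
  le_trans N M P := fun ⟨f, hf⟩ ⟨g, hg⟩ => ⟨g.comp f, by rw [← AlgHom.comp_assoc, hg, hf]⟩

/-- The transition map. -/
noncomputable def trans {N M : Nbhd R K} (h : N ≤ M) : N.Stage →ₐ[R] M.Stage := h.choose

@[simp] theorem ρ_trans {N M : Nbhd R K} (h : N ≤ M) (x : N.Stage) : M.ρ (trans h x) = N.ρ x :=
  congr($(h.choose_spec) x)

theorem le_of_algHom {N M : Nbhd R K} (α : N.B →ₐ[R] M.B) (hα : M.toK.comp α = N.toK) : N ≤ M := by
  have hu : ∀ y : N.S, IsUnit ((IsScalarTower.toAlgHom R M.B M.Stage).comp α y) := fun y =>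
    M.isUnit_of_isUnit_ρ (by
      have h2 : IsUnit (N.toK y) := y.2
      rw [← hα] at h2
      simpa using h2)
  refine ⟨IsLocalization.liftAlgHom (A := R) (S := N.Stage) (M := N.S) hu, Localization.algHom_ext N.S ?_⟩
  ext b
  simpa [Algebra.algHom] using congr($hα b)

theorem exists_equiv (B : Type u) [CommRing B] [Algebra R B] [Algebra.Etale R B] (τ : B →ₐ[R] K) :
    ∃ (N : Nbhd R K) (e : N.B ≃ₐ[R] B), N.toK = τ.comp e.toAlgHom := by
  obtain ⟨n, f, hf⟩ := Algebra.FiniteType.iff_quotient_mvPolynomial''.mp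
    (inferInstance : Algebra.FiniteType R B)
  let e := Ideal.quotientKerAlgEquivOfSurjective hf
  exact ⟨⟨n, RingHom.ker f, Algebra.Etale.of_equiv e.symm, τ.comp e.toAlgHom⟩, e, rfl⟩

instance : IsDirectedOrder (Nbhd R K) where
  directed N M := by
    have : Algebra.Etale R (TensorProduct R N.B M.B) :=
      Algebra.Etale.comp R N.B (TensorProduct R N.B M.B)
    obtain ⟨P, e, he⟩ := exists_equiv (TensorProduct R N.B M.B)
      (Algebra.TensorProduct.lift N.toK M.toK fun _ _ => .all _ _)
    refine ⟨P, le_of_algHom (e.symm.toAlgHom.comp Algebra.TensorProduct.includeLeft) ?_,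
      le_of_algHom (e.symm.toAlgHom.comp Algebra.TensorProduct.includeRight) ?_⟩ <;>
    · ext b; simp [he]

instance : Nonempty (Nbhd R K) :=
  have ⟨N, _⟩ := exists_equiv (R := R) R (Algebra.ofId R K)
  ⟨N⟩

instance : DirectedSystem (fun N : Nbhd R K => N.Stage) fun _ _ h => Nbhd.trans h where
  map_self N x := congr($(hom_unique (trans (le_refl N)) (AlgHom.id R _)
    (le_refl N).choose_spec (by ext; simp)) x)
  map_map k j i hij hjk x := congr($(hom_unique ((trans hjk).comp (trans hij)) (trans (hij.trans hjk))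
    (by ext x; simp) (hij.trans hjk).choose_spec) x)

end Nbhd

/-- The universal henselian neighbourhood of `K` over `R`. -/
def Henz : Type u := DirectLimit (fun N : Nbhd R K => N.Stage) fun _ _ h => Nbhd.trans h

namespace Henz

noncomputable instance : CommRing (Henz R K) :=
  inferInstanceAs (CommRing (DirectLimit (fun N : Nbhd R K => N.Stage) fun _ _ h => Nbhd.trans h))

noncomputable instance : Algebra R (Henz R K) :=
  inferInstanceAs (Algebra R (DirectLimit (fun N : Nbhd R K => N.Stage) fun _ _ h => Nbhd.trans h))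

variable {R K}

/-- The canonical map from a stage. -/
noncomputable def of (N : Nbhd R K) : N.Stage →ₐ[R] Henz R K :=
  DirectLimit.Algebra.of (fun N : Nbhd R K => N.Stage) (fun _ _ h => Nbhd.trans h) N

theorem of_trans {N M : Nbhd R K} (h : N ≤ M) (x : N.Stage) : of M (Nbhd.trans h x) = of N x :=
  DirectLimit.Algebra.of_f (G := fun N : Nbhd R K => N.Stage) (f := fun _ _ h => Nbhd.trans h) h x

theorem exists_of (z : Henz R K) : ∃ N x, of N x = z := by
  induction z using DirectLimit.induction with | _ i x => exact ⟨i, x, rfl⟩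

theorem exists_of₂ (z w : Henz R K) : ∃ N x y, of N x = z ∧ of N y = w := by
  obtain ⟨i, x, rfl⟩ := exists_of z
  obtain ⟨j, y, rfl⟩ := exists_of w
  obtain ⟨k, hi, hj⟩ := exists_ge_ge i j
  exact ⟨k, _, _, of_trans hi x, of_trans hj y⟩

theorem of_eq_of {N : Nbhd R K} {x y : N.Stage} (h : of N x = of N y) :
    ∃ M, ∃ h : N ≤ M, Nbhd.trans h x = Nbhd.trans h y := by
  obtain ⟨M, h₁, h₂, e⟩ := Quotient.exact h
  exact ⟨M, h₁, e⟩

variable (R K) in
/-- The map to `K`. -/
noncomputable def proj : Henz R K →ₐ[R] K :=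
  DirectLimit.Algebra.lift (fun N : Nbhd R K => N.Stage) (fun _ _ h => Nbhd.trans h) K
    (fun N => N.ρ) fun _ _ h x => Nbhd.ρ_trans h x

@[simp] theorem proj_of (N : Nbhd R K) (x : N.Stage) : proj R K (of N x) = N.ρ x := rfl

theorem algHom_ext {T : Type v} [CommRing T] [Algebra R T] {f g : Henz R K →ₐ[R] T}
    (h : ∀ N, f.comp (of N) = g.comp (of N)) : f = g := by
  ext z
  obtain ⟨N, x, rfl⟩ := exists_of z
  exact congr($(h N) x)

/-- Units are detected in `K`. -/
theorem isUnit_iff {z : Henz R K} : IsUnit z ↔ IsUnit (proj R K z) := by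
  refine ⟨fun h => h.map _, fun h => ?_⟩
  obtain ⟨N, x, rfl⟩ := exists_of z
  exact (N.isUnit_of_isUnit_ρ h).map _

section neighbourhood

variable (B : Type u) [CommRing B] [Algebra R B] [Algebra.Etale R B] (τ : B →ₐ[R] K)

/-- The map from an étale algebra with a map to `K`. -/
noncomputable def ofNbhd : B →ₐ[R] Henz R K :=
  have h := Nbhd.exists_equiv B τ
  ((of h.choose).comp (IsScalarTower.toAlgHom R h.choose.B h.choose.Stage)).comp
    h.choose_spec.choose.symm.toAlgHom

@[simp] theorem proj_ofNbhd (b : B) : proj R K (ofNbhd B τ b) = τ b := by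
  have h := (Nbhd.exists_equiv B τ).choose_spec.choose_spec
  refine (proj_of (R := R) (K := K) _ _).trans ((Nbhd.ρ_algebraMap _ _).trans ?_)
  refine (congr($h _)).trans ?_
  exact congrArg τ ((Nbhd.exists_equiv B τ).choose_spec.choose.apply_symm_apply b)

end neighbourhood

/-- Every element is a fraction from a neighbourhood. -/
theorem exists_fraction (z : Henz R K) : ∃ (N : Nbhd R K) (b : N.B) (s : N.S),
    z * of N (algebraMap N.B N.Stage s) = of N (algebraMap N.B N.Stage b) := by
  obtain ⟨N, x, rfl⟩ := exists_of z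
  obtain ⟨⟨b, s⟩, e⟩ := IsLocalization.surj N.S x
  exact ⟨N, b, s, by rw [← map_mul, e]⟩

theorem isUnit_of_proj_eq_one {z : Henz R K} (h : proj R K z = 1) : IsUnit z :=
  isUnit_iff.mpr (by rw [h]; exact isUnit_one)

theorem ker_proj_le_jacobson : RingHom.ker (proj R K) ≤ Ideal.jacobson ⊥ := by
  intro x hx
  rw [Ideal.mem_jacobson_bot]
  intro y
  refine isUnit_of_proj_eq_one ?_
  simp [show proj R K x = 0 from hx]

/-- Finitely many elements come from a single stage. -/
theorem exists_of_finset (N₀ : Nbhd R K) (s : Finset (Henz R K)) :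
    ∃ N, N₀ ≤ N ∧ ∀ z ∈ s, ∃ x, of N x = z := by
  classical
  induction s using Finset.induction with
  | empty => exact ⟨N₀, le_rfl, by simp⟩
  | insert a t _ ih =>
    obtain ⟨N, hN, h⟩ := ih
    obtain ⟨M, x, rfl⟩ := exists_of a
    obtain ⟨P, h₁, h₂⟩ := exists_ge_ge N M
    refine ⟨P, hN.trans h₁, fun z hz => ?_⟩
    rcases Finset.mem_insert.mp hz with rfl | hz
    · exact ⟨_, of_trans h₂ x⟩
    · obtain ⟨y, rfl⟩ := h z hz
      exact ⟨_, of_trans h₁ y⟩

theorem exists_of_polynomial (p : Polynomial (Henz R K)) :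
    ∃ N, ∃ q : Polynomial N.Stage, q.map (of N).toRingHom = p := by
  classical
  obtain ⟨N, -, h⟩ := exists_of_finset (Classical.arbitrary _) p.coeffs
  refine ⟨N, ((Polynomial.mem_lifts p).mp ((Polynomial.lifts_iff_coeff_lifts p).mpr fun n => ?_))⟩
  rcases eq_or_ne (p.coeff n) 0 with h0 | h0
  · exact ⟨0, by simp [h0]⟩
  · exact h _ (Polynomial.coeff_mem_coeffs h0)

/-- A simple root in `K` of a monic polynomial lifts. -/
theorem exists_root_proj (f : Polynomial (Henz R K)) (hf : f.Monic) (κ : K)
    (h₁ : f.eval₂ (proj R K).toRingHom κ = 0)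
    (h₂ : IsUnit (f.derivative.eval₂ (proj R K).toRingHom κ)) :
    ∃ a, f.IsRoot a ∧ proj R K a = κ := by
  classical
  rcases subsingleton_or_nontrivial (Henz R K) with hs | hs
  · exact ⟨0, Subsingleton.elim _ _, by
      have : Subsingleton K := subsingleton_of_zero_eq_one (by
        rw [← map_zero (proj R K), Subsingleton.elim (0 : Henz R K) 1, map_one])
      exact Subsingleton.elim _ _⟩
  obtain ⟨N₀, q, hq⟩ := exists_of_polynomial f
  -- write the polynomial with coefficients in the étale algebra itself, up to a denominator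
  let d := f.natDegree
  obtain ⟨D, hD⟩ := IsLocalization.exist_integer_multiples N₀.S (Finset.range d) q.coeff
  choose c hc using hD
  let Bs := Localization.Away (D : N₀.B)
  let τs : Bs →ₐ[R] K := IsLocalization.Away.liftAlgHom (D : N₀.B) (f := N₀.toK) D.2
  have hτs : ∀ b, τs (algebraMap N₀.B Bs b) = N₀.toK b := fun b => by simp [τs]
  let inv : Bs := IsLocalization.Away.invSelf (D : N₀.B)
  have hinv : algebraMap N₀.B Bs (D : N₀.B) * inv = 1 := IsLocalization.Away.mul_invSelf _
  let g : Polynomial Bs := Polynomial.X ^ d + ∑ i : Fin d,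
    Polynomial.C (algebraMap N₀.B Bs (c i (Finset.mem_range.mpr i.2)) * inv) * Polynomial.X ^ (i : ℕ)
  have hg : g.Monic := Polynomial.monic_X_pow_add (Polynomial.degree_sum_fin_lt _)
  have hgcoeff : ∀ (i : Fin d), g.coeff i = algebraMap N₀.B Bs (c i (Finset.mem_range.mpr i.2)) * inv := by
    intro i
    simp only [g, Polynomial.coeff_add, Polynomial.coeff_X_pow, Polynomial.finsetSum_coeff,
      Polynomial.coeff_C_mul, mul_ite, mul_one, mul_zero]
    rw [if_neg i.2.ne, zero_add, Finset.sum_eq_single i (fun b _ hb => if_neg fun h => hb (Fin.ext h.symm))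
      (by simp)]
    simp
  have hτcoeff : ∀ i : Fin d, τs (g.coeff i) = proj R K (f.coeff i) := by
    intro i
    have h1 := congr(N₀.ρ $(hc i (Finset.mem_range.mpr i.2)))
    simp only [Nbhd.ρ_algebraMap, Algebra.smul_def, map_mul] at h1
    have h2 : N₀.toK D * τs inv = 1 := by rw [← hτs, ← map_mul, hinv, map_one]
    rw [hgcoeff, map_mul, hτs, ← hq, Polynomial.coeff_map]
    show _ = proj R K (of N₀ (q.coeff i))
    rw [proj_of]
    linear_combination τs inv * h1 + N₀.ρ (q.coeff i) * h2
  have hgd : g.natDegree = d := by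
    rcases subsingleton_or_nontrivial Bs with hs' | hs'
    · have : Subsingleton K := subsingleton_of_zero_eq_one (by
        rw [← map_zero τs, Subsingleton.elim (0 : Bs) 1, map_one])
      have hu : IsUnit (0 : Henz R K) := isUnit_iff.mpr (isUnit_of_subsingleton _)
      exact absurd hu not_isUnit_zero
    exact Polynomial.natDegree_eq_of_degree_eq_some (by
      rw [Polynomial.degree_add_eq_left_of_degree_lt] <;> rw [Polynomial.degree_X_pow]
      exact Polynomial.degree_sum_fin_lt _)
  have hgmap : g.map τs.toRingHom = f.map (proj R K).toRingHom := by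
    ext k
    rw [Polynomial.coeff_map, Polynomial.coeff_map]
    rcases lt_trichotomy k d with hk | rfl | hk
    · exact hτcoeff ⟨k, hk⟩
    · rw [← hgd, hg.coeff_natDegree, hgd, hf.coeff_natDegree]
      simp
    · rw [Polynomial.coeff_eq_zero_of_natDegree_lt hk,
        Polynomial.coeff_eq_zero_of_natDegree_lt (hgd ▸ hk)]
      simp
  let P : StandardEtalePair Bs := ⟨g, hg, g.derivative, 1, 0, 1, by simp⟩
  let _ : Algebra Bs K := τs.toRingHom.toAlgebra
  have hτK : IsScalarTower R Bs K := .of_algebraMap_eq' τs.comp_algebraMap.symm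
  have hP : P.HasMap κ := by
    refine ⟨?_, ?_⟩
    · show Polynomial.eval₂ (algebraMap Bs K) κ g = 0
      rw [Polynomial.eval₂_eq_eval_map, RingHom.algebraMap_toAlgebra, hgmap,
        ← Polynomial.eval₂_eq_eval_map, h₁]
    · show IsUnit (Polynomial.eval₂ (algebraMap Bs K) κ g.derivative)
      rw [Polynomial.eval₂_eq_eval_map, ← Polynomial.derivative_map, RingHom.algebraMap_toAlgebra,
        hgmap, Polynomial.derivative_map, ← Polynomial.eval₂_eq_eval_map]
      exact h₂
  let : Algebra R P.Ring := Algebra.compHom P.Ring (algebraMap R Bs)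
  have : IsScalarTower R Bs P.Ring := .of_algebraMap_eq' rfl
  have : Algebra.Etale R Bs :=
    have : Algebra.Etale N₀.B Bs := inferInstance
    Algebra.Etale.comp R N₀.B Bs
  have : Algebra.Etale R P.Ring := Algebra.Etale.comp R Bs P.Ring
  let τP : P.Ring →ₐ[R] K := (P.lift κ hP).restrictScalars R
  obtain ⟨N₁, e₁, he₁⟩ := Nbhd.exists_equiv P.Ring τP
  let Φ : N₀.B →ₐ[R] N₁.B :=
    (e₁.symm.toAlgHom.comp (IsScalarTower.toAlgHom R Bs P.Ring)).comp
      (IsScalarTower.toAlgHom R N₀.B Bs)
  have hΦ : N₁.toK.comp Φ = N₀.toK := by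
    ext b
    simp only [Φ, he₁, τP, AlgHom.comp_apply, AlgEquiv.toAlgHom_eq_coe, AlgEquiv.coe_toAlgHom,
      AlgEquiv.apply_symm_apply, AlgHom.restrictScalars_apply, IsScalarTower.coe_toAlgHom',
      AlgHom.commutes]
    exact hτs _
  have hle := Nbhd.le_of_algHom Φ hΦ
  let ι : P.Ring →ₐ[R] Henz R K :=
    ((of N₁).comp (IsScalarTower.toAlgHom R N₁.B N₁.Stage)).comp e₁.symm.toAlgHom
  have hι : ∀ b, ι (algebraMap Bs P.Ring (algebraMap N₀.B Bs b)) =
      of N₀ (algebraMap N₀.B N₀.Stage b) := by
    intro b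
    have h0 : Nbhd.trans hle (algebraMap N₀.B N₀.Stage b) = algebraMap N₁.B N₁.Stage (Φ b) := by
      let t : N₀.B →ₐ[R] N₁.Stage := (Nbhd.trans hle).comp (IsScalarTower.toAlgHom R _ _)
      have : t = (IsScalarTower.toAlgHom R N₁.B N₁.Stage).comp Φ :=
        algHom_ext_of_isUnit N₁.ρ.toRingHom (fun _ ht => N₁.isUnit_of_isUnit_ρ (show IsUnit (N₁.ρ _) by
          rw [show N₁.ρ _ = 1 from ht]; exact isUnit_one)) _ _ fun b => by
            simp only [t, AlgHom.toRingHom_eq_coe, RingHom.coe_coe, AlgHom.comp_apply,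
              IsScalarTower.coe_toAlgHom', Nbhd.ρ_trans, Nbhd.ρ_algebraMap]
            exact congr($hΦ b).symm
      exact congr($this b)
    rw [← of_trans hle, h0]
    rfl
  refine ⟨ι P.X, ?_, ?_⟩
  · have hroot : ι ((g.map (algebraMap Bs P.Ring)).eval P.X) = 0 := by
      rw [Polynomial.eval_map_algebraMap, P.hasMap_X.1, map_zero]
    rw [← AlgHom.coe_toRingHom, ← Polynomial.eval₂_at_apply, ← Polynomial.eval_map,
      Polynomial.map_map] at hroot
    suffices g.map (ι.toRingHom.comp (algebraMap Bs P.Ring)) = f by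
      rw [Polynomial.IsRoot, ← this]; exact hroot
    ext k
    rw [Polynomial.coeff_map]
    rcases lt_trichotomy k d with hk | rfl | hk
    · show ι (algebraMap Bs P.Ring (g.coeff k)) = _
      rw [hgcoeff ⟨k, hk⟩, map_mul, map_mul, hι]
      have h1 := congr(of N₀ $(hc k (Finset.mem_range.mpr hk)))
      rw [Algebra.smul_def, map_mul, show of N₀ (q.coeff k) = f.coeff k by
        rw [← hq, Polynomial.coeff_map]; rfl] at h1
      have h2 : ι (algebraMap Bs P.Ring (algebraMap N₀.B Bs (D : N₀.B))) *
          ι (algebraMap Bs P.Ring inv) = 1 := by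
        rw [← map_mul, ← map_mul, hinv, map_one, map_one]
      rw [hι] at h2
      linear_combination ι (algebraMap Bs P.Ring inv) * h1 + f.coeff k * h2
    · rw [← hgd, hg.coeff_natDegree, hgd, hf.coeff_natDegree]
      simp
    · rw [Polynomial.coeff_eq_zero_of_natDegree_lt hk,
        Polynomial.coeff_eq_zero_of_natDegree_lt (hgd ▸ hk)]
      simp
  · simp [ι, he₁, τP]

instance henselianRing : HenselianRing (Henz R K) (RingHom.ker (proj R K)) where
  jac := ker_proj_le_jacobson
  is_henselian f hf a₀ h₁ h₂ := by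
    obtain ⟨a, ha, ha'⟩ := exists_root_proj f hf (proj R K a₀)
      (by
        show Polynomial.eval₂ (proj R K).toRingHom ((proj R K).toRingHom a₀) f = 0
        rw [Polynomial.eval₂_at_apply]
        exact h₁)
      (by
        show IsUnit (Polynomial.eval₂ (proj R K).toRingHom ((proj R K).toRingHom a₀) f.derivative)
        rw [Polynomial.eval₂_at_apply]
        have := h₂.map (RingHom.kerLift (proj R K).toRingHom)
        exact this)
    exact ⟨a, ha, by simp [RingHom.mem_ker, ha']⟩

/-- Universal property. -/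
theorem existsUnique_lift {C : Type v} [CommRing C] [Algebra R C] (J : Ideal C) [HenselianRing C J]
    (θ : (proj R K).range →ₐ[R] C ⧸ J) :
    ∃! g : Henz R K →ₐ[R] C,
      ∀ z, Ideal.Quotient.mk J (g z) = θ ((proj R K).rangeRestrict z) := by
  let θ' : Henz R K →ₐ[R] C ⧸ J := θ.comp (proj R K).rangeRestrict
  have hex : ∀ N : Nbhd R K, ∃ g : N.Stage →ₐ[R] C,
      ∀ x, Ideal.Quotient.mk J (g x) = θ' (of N x) := by
    intro N
    obtain ⟨g₀, hg₀, -⟩ := existsUnique_etale_lift_of_algebra J (R := R)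
      ((θ'.comp (of N)).comp (IsScalarTower.toAlgHom R N.B N.Stage))
    have hu : ∀ y : N.S, IsUnit (g₀ y) := fun y => by
      have := isLocalHom_of_le_jacobson_bot J HenselianRing.jac
      refine IsUnit.of_map (Ideal.Quotient.mk J) _ ?_
      rw [show Ideal.Quotient.mk J (g₀ y) = θ' (of N (algebraMap N.B N.Stage y)) from congr($hg₀ y)]
      exact ((IsLocalization.map_units N.Stage y).map (of N)).map θ'
    refine ⟨IsLocalization.liftAlgHom (A := R) (S := N.Stage) (M := N.S) hu, fun x => ?_⟩
    have : (Ideal.Quotient.mkₐ R J).comp (IsLocalization.liftAlgHom (A := R) (S := N.Stage) (M := N.S) hu) = θ'.comp (of N) := by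
      refine Localization.algHom_ext N.S ?_
      ext b
      simpa [Algebra.algHom] using congr($hg₀ b)
    exact congr($this x)
  choose g hg using hex
  have huniq : ∀ (N : Nbhd R K) (g' : N.Stage →ₐ[R] C),
      (∀ x, Ideal.Quotient.mk J (g' x) = θ' (of N x)) → g' = g N := fun N g' h =>
    Nbhd.hom_ext (Ideal.Quotient.mk J) (fun _ ht => isUnit_of_mk_eq_one HenselianRing.jac ht)
      g' (g N) fun b => by rw [h, hg]
  refine ⟨DirectLimit.Algebra.lift (fun N : Nbhd R K => N.Stage) (fun _ _ h => Nbhd.trans h) C g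
    fun N M h x => ?_, fun z => ?_, fun g' hg' => algHom_ext fun N => ?_⟩
  · exact congr($(huniq N ((g M).comp (Nbhd.trans h)) fun y => by
      rw [AlgHom.comp_apply, hg, of_trans]) x)
  · obtain ⟨N, x, rfl⟩ := exists_of z
    exact hg N x
  · exact huniq N (g'.comp (of N)) fun x => hg' (of N x)

instance flat : Module.Flat R (Henz R K) := by
  refine Module.Flat.iff_forall_isTrivialRelation.mpr fun {l f x} hfx => ?_
  classical
  obtain ⟨N, -, hN⟩ := exists_of_finset (Classical.arbitrary _) (Finset.univ.image x)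
  choose y hy using fun i => hN (x i) (Finset.mem_image_of_mem _ (Finset.mem_univ i))
  have h0 : of N (∑ i, f i • y i) = of N 0 := by simp [map_sum, map_smul, hy, hfx]
  obtain ⟨M, hM, hM'⟩ := of_eq_of h0
  rw [map_zero, map_sum] at hM'
  simp only [map_smul] at hM'
  have : Module.Flat M.B M.Stage := IsLocalization.flat M.Stage M.S
  have : Module.Flat R M.Stage := Module.Flat.trans R M.B M.Stage
  obtain ⟨k, a, z, hz, ha⟩ :=
    Module.Flat.isTrivialRelation_of_sum_smul_eq_zero (f := f) (x := fun i => Nbhd.trans hM (y i)) hM'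
  refine ⟨k, a, fun j => of M (z j), fun i => ?_, ha⟩
  rw [← hy, ← of_trans hM, show Nbhd.trans hM (y i) = _ from hz i]
  simp [map_sum]

end Henz

end Groth.Agent.Hensel
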