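import Groth.Agent.Hensel.Pair
import Mathlib.RingTheory.RingHom.LocallyStandardSmooth
import Mathlib.RingTheory.Smooth.Basic
import Mathlib.RingTheory.Nakayama

/-!
# Sections of smooth algebras lift over henselian pairs
-/

noncomputable section

namespace Groth.Agent.Hensel

universe u v w

open MvPolynomial Algebra TensorProduct

variable {A : Type u} [CommRing A] (I : Ideal A)

/-- Newton's lemma in several variables. -/
theorem exists_root_of_jacobian [HenselianRing A I] {n : ℕ} (F : Fin n → MvPolynomial (Fin n) A)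
    (a : Fin n → A) (hF : ∀ i, eval a (F i) ∈ I)
    (hJ : IsUnit (Ideal.Quotient.mk I
      (eval a (Matrix.det (Matrix.of fun i j => pderiv i (F j)))))) :
    ∃ b : Fin n → A, (∀ i, b i - a i ∈ I) ∧ ∀ i, eval b (F i) = 0 := by
  classical
  let P : PreSubmersivePresentation A (MvPolynomial (Fin n) A ⧸ Ideal.span (Set.range F))
      (Fin n) (Fin n) := PreSubmersivePresentation.naive id Function.injective_id
  let j := P.jacobian
  let B := Localization.Away j
  let Q := PreSubmersivePresentation.localizationAway B j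
  have hj : IsUnit (Q.comp P).jacobian := by
    rw [PreSubmersivePresentation.comp_jacobian_eq_jacobian_smul_jacobian,
      PreSubmersivePresentation.localizationAway_jacobian, Algebra.smul_def]
    exact (IsLocalization.Away.algebraMap_isUnit j).mul (IsLocalization.Away.algebraMap_isUnit j)
  let S' : SubmersivePresentation A B (Unit ⊕ Fin n) (Unit ⊕ Fin n) := ⟨Q.comp P, hj⟩
  have hdim : S'.dimension = 0 := by
    simp [Presentation.dimension]
  have : Algebra.Etale A B := Algebra.Etale.iff_isStandardSmoothOfRelativeDimension_zero.mpr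
    (S'.isStandardSmoothOfRelativeDimension hdim)
  let ψ₀ : (MvPolynomial (Fin n) A ⧸ Ideal.span (Set.range F)) →ₐ[A] A ⧸ I :=
    Ideal.Quotient.liftₐ _ ((Ideal.Quotient.mkₐ A I).comp (aeval a)) fun p hp => by
      refine (Ideal.span_le.mpr ?_ : _ ≤ RingHom.ker
        ((Ideal.Quotient.mkₐ A I).comp (aeval (R := A) a))) hp
      rintro _ ⟨k, rfl⟩
      exact Ideal.Quotient.eq_zero_iff_mem.mpr (by simpa [aeval_eq_eval] using hF k)
  have hψj : IsUnit (ψ₀ j) := by
    convert hJ using 1
    have h1 : j = Ideal.Quotient.mk _ P.jacobiMatrix.det := by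
      show P.jacobian = _
      rw [P.jacobian_eq_jacobiMatrix_det]
      rfl
    rw [h1]
    show Ideal.Quotient.mk I (aeval a P.jacobiMatrix.det) = _
    rw [aeval_eq_eval]
    refine congrArg (fun M : Matrix (Fin n) (Fin n) (MvPolynomial (Fin n) A) =>
      Ideal.Quotient.mk I (eval a M.det)) (Matrix.ext fun i k => ?_)
    exact PreSubmersivePresentation.jacobiMatrix_naive ..
  let ψ : B →ₐ[A] A ⧸ I := IsLocalization.liftAlgHom (M := Submonoid.powers j) (f := ψ₀) fun y => by
    obtain ⟨_, m, rfl⟩ := y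
    simpa using hψj.pow m
  obtain ⟨τ, hτ⟩ := exists_etale_lift I ψ
  let g : MvPolynomial (Fin n) A →ₐ[A] A := τ.comp
    ((IsScalarTower.toAlgHom A (MvPolynomial (Fin n) A ⧸ Ideal.span (Set.range F)) B).comp
      (Ideal.Quotient.mkₐ A (Ideal.span (Set.range F))))
  have hg : ∀ p, g p = eval (fun i => g (X i)) p := fun p => by
    rw [← aeval_eq_eval]
    exact congr($(aeval_unique g) p)
  refine ⟨fun i => g (X i), fun i => ?_, fun i => ?_⟩
  · rw [← Ideal.Quotient.eq]
    refine (congr($hτ _) : Ideal.Quotient.mk I (τ _) = _).trans ?_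
    refine (IsLocalization.lift_eq _ _).trans ?_
    show Ideal.Quotient.mk I (aeval a (X i)) = _
    rw [aeval_X]
  · rw [← hg]
    show τ (algebraMap (MvPolynomial (Fin n) A ⧸ Ideal.span (Set.range F)) B
      (Ideal.Quotient.mk (Ideal.span (Set.range F)) (F i))) = 0
    rw [Ideal.Quotient.eq_zero_iff_mem.mpr (Ideal.subset_span (Set.mem_range_self i)), map_zero,
      map_zero]

section smooth

variable {n : ℕ}

theorem taylor_mod_sq {K : Ideal (MvPolynomial (Fin n) A)} (k : Fin n → MvPolynomial (Fin n) A)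
    (hk : ∀ i, k i ∈ K) (f : MvPolynomial (Fin n) A) :
    aeval (fun i => Ideal.Quotient.mk (K ^ 2) (X i - k i)) f =
      Ideal.Quotient.mk (K ^ 2) (f - ∑ j, pderiv j f * k j) := by
  classical
  induction f using MvPolynomial.induction_on with
  | C c =>
    simp only [pderiv_C, zero_mul, Finset.sum_const_zero, sub_zero, algHom_C]
    rfl
  | add p q hp hq =>
    rw [map_add, hp, hq, ← map_add]
    congr 1
    simp only [map_add, add_mul, Finset.sum_add_distrib]
    ring
  | mul_X p i hp =>
    rw [map_mul, hp, aeval_X, ← map_mul, Ideal.Quotient.eq]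
    have h1 : ∑ j, pderiv j (p * X i) * k j = p * k i + X i * ∑ j, pderiv j p * k j := by
      simp only [pderiv_mul, add_mul, Finset.sum_add_distrib, pderiv_X, Pi.single_apply, mul_ite,
        mul_one, mul_zero, ite_mul, zero_mul, Finset.sum_ite_eq, Finset.mem_univ, if_true,
        Finset.mul_sum]
      rw [add_comm]
      congr 1
      exact Finset.sum_congr rfl fun j _ => by ring
    rw [h1, show (p - ∑ j, pderiv j p * k j) * (X i - k i) -
      (p * X i - (p * k i + X i * ∑ j, pderiv j p * k j)) =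
      (∑ j, pderiv j p * k j) * k i by ring, pow_two]
    exact Ideal.mul_mem_mul (sum_mem fun j _ => K.mul_mem_left _ (hk j)) (hk i)

theorem pderiv_mem_of_mem_sq {K : Ideal (MvPolynomial (Fin n) A)} {z : MvPolynomial (Fin n) A}
    (hz : z ∈ K ^ 2) (j : Fin n) : pderiv j z ∈ K := by
  rw [pow_two] at hz
  induction hz using Submodule.mul_induction_on' with
  | mem_mul_mem x hx y hy =>
    rw [pderiv_mul]
    exact add_mem (K.mul_mem_left _ hy) (K.mul_mem_right _ hx)
  | add x _ y _ hx hy => rw [map_add]; exact add_mem hx hy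

theorem exists_eval_eq_zero_of_smooth [HenselianRing A I] {S : Type w} [CommRing S] [Algebra A S]
    [Algebra.FormallySmooth A S] (π : MvPolynomial (Fin n) A →ₐ[A] S) (hπ : Function.Surjective π)
    (hK : (RingHom.ker π).FG) (σ : S →ₐ[A] A ⧸ I) :
    ∃ τ : S →ₐ[A] A, (Ideal.Quotient.mkₐ A I).comp τ = σ := by
  classical
  let K : Ideal (MvPolynomial (Fin n) A) := RingHom.ker π
  let p₂ : (MvPolynomial (Fin n) A ⧸ K ^ 2) →ₐ[A] S :=
    Ideal.Quotient.liftₐ (K ^ 2) π fun z hz => (Ideal.pow_le_self two_ne_zero hz : z ∈ K)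
  have hp₂ : Function.Surjective p₂ := fun s => by
    obtain ⟨p, rfl⟩ := hπ s; exact ⟨Ideal.Quotient.mk _ p, rfl⟩
  have hnil : IsNilpotent (RingHom.ker (p₂ : (MvPolynomial (Fin n) A ⧸ K ^ 2) →+* S)) := by
    refine ⟨2, ?_⟩
    have hle : RingHom.ker (p₂ : (MvPolynomial (Fin n) A ⧸ K ^ 2) →+* S) ≤
        K.map (Ideal.Quotient.mk (K ^ 2)) := by
      intro z hz
      obtain ⟨z, rfl⟩ := Ideal.Quotient.mk_surjective z
      exact Ideal.mem_map_of_mem _ (show z ∈ K from hz)
    rw [Ideal.zero_eq_bot, ← le_bot_iff]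
    exact (Ideal.pow_right_mono hle 2).trans (by rw [← Ideal.map_pow, Ideal.map_quotient_self])
  let g : S →ₐ[A] MvPolynomial (Fin n) A ⧸ K ^ 2 :=
    FormallySmooth.liftOfSurjective (AlgHom.id A S) p₂ hp₂ hnil
  have hg : ∀ s, p₂ (g s) = s := fun s =>
    FormallySmooth.liftOfSurjective_apply (AlgHom.id A S) p₂ hp₂ hnil s
  choose gx hgx using fun i => Ideal.Quotient.mk_surjective (g (π (X i)))
  let k : Fin n → MvPolynomial (Fin n) A := fun i => X i - gx i
  have hk : ∀ i, k i ∈ K := fun i => by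
    show π (X i - gx i) = 0
    rw [map_sub, sub_eq_zero]
    exact (hg (π (X i))).symm.trans (congrArg p₂ (hgx i)).symm
  have hkey : ∀ f ∈ K, f - ∑ j, pderiv j f * k j ∈ K ^ 2 := by
    intro f hf
    rw [← Ideal.Quotient.eq_zero_iff_mem, ← taylor_mod_sq k hk]
    have h : aeval (fun i => Ideal.Quotient.mk (K ^ 2) (X i - k i)) = g.comp π := by
      ext i
      simp only [aeval_X, k, sub_sub_cancel, hgx, AlgHom.comp_apply]
    rw [h, AlgHom.comp_apply, show π f = 0 from hf, map_zero]
  let M : Matrix (Fin n) (Fin n) (MvPolynomial (Fin n) A) := fun i j => pderiv j (k i)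
  let Q : Matrix (Fin n) (Fin n) (MvPolynomial (Fin n) A) := 1 - M
  have hQk : ∀ i, ∑ j, Q i j * k j ∈ K ^ 2 := fun i => by
    have := hkey _ (hk i)
    simpa [Q, M, Matrix.sub_apply, sub_mul, Finset.sum_sub_distrib, Matrix.one_apply] using this
  have hMM : ∀ i l, (M * M) i l - M i l ∈ K := by
    intro i l
    have h := pderiv_mem_of_mem_sq (hkey _ (hk i)) l
    have h2 : pderiv l (k i - ∑ j, pderiv j (k i) * k j) =
        M i l - (M * M) i l - ∑ j, pderiv l (pderiv j (k i)) * k j := by
      simp only [map_sub, map_sum, pderiv_mul, Finset.sum_add_distrib, Matrix.mul_apply, M]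
      ring
    rw [h2] at h
    have h3 : ∑ j, pderiv l (pderiv j (k i)) * k j ∈ K := sum_mem fun j _ => K.mul_mem_left _ (hk j)
    simpa using neg_mem (add_mem h h3)
  have hQQ : ∀ i l, (Q * Q) i l - Q i l ∈ K := fun i l => by
    have : Q * Q - Q = M * M - M := by simp only [Q]; rw [sub_mul, mul_sub, mul_sub, one_mul, one_mul, mul_one]; abel
    rw [show (Q * Q) i l - Q i l = (M * M) i l - M i l from congrFun (congrFun this i) l]
    exact hMM i l
  choose a ha using fun i => Ideal.Quotient.mk_surjective (σ (π (X i)))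
  have hσ : ∀ p : MvPolynomial (Fin n) A, Ideal.Quotient.mk I (eval a p) = σ (π p) := by
    intro p
    rw [← aeval_eq_eval]
    exact congr($(show (Ideal.Quotient.mkₐ A I).comp (aeval a) = σ.comp π by ext i; simp [ha]) p)
  have hKI : ∀ p ∈ K, eval a p ∈ I := fun p hp => by
    rw [← Ideal.Quotient.eq_zero_iff_mem, hσ, show π p = 0 from hp, map_zero]
  let h : Fin n → MvPolynomial (Fin n) A := fun i => ∑ j, Q i j * (X j - C (a j))
  have hJ : (eval a).mapMatrix (Matrix.of fun i l => pderiv i (k l + h l)) = 1 := by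
    ext i l
    simp only [RingHom.mapMatrix_apply, Matrix.map_apply, Matrix.of_apply, h, map_add, map_sum,
      pderiv_mul, map_sub, eval_C, pderiv_C, sub_zero, map_mul, eval_X, sub_self, mul_zero,
      zero_add, pderiv_X, Pi.single_apply, Q, M, Matrix.sub_apply, Matrix.one_apply, apply_ite,
      map_one, map_zero, mul_ite, mul_one, Finset.sum_ite_eq', Finset.mem_univ, if_true, eq_comm]
    split_ifs <;> simp_all [Finset.sum_ite_eq] <;> (intro e; simp_all)
  obtain ⟨b, hba, hb⟩ := exists_root_of_jacobian I (fun i => k i + h i) a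
    (fun i => by
      rw [map_add, show eval a (h i) = 0 by simp [h], add_zero]
      exact hKI _ (hk i))
    (by rw [RingHom.map_det, hJ, Matrix.det_one, map_one]; exact isUnit_one)
  have hab : ∀ p, eval b p - eval a p ∈ I := fun p => by
    rw [← Ideal.Quotient.eq, ← aeval_eq_eval, ← aeval_eq_eval]
    exact congr($(show (Ideal.Quotient.mkₐ A I).comp (aeval b) =
      (Ideal.Quotient.mkₐ A I).comp (aeval a) by
        ext i; simp [Ideal.Quotient.eq, hba i]) p)
  let Kb : Ideal A := K.map (eval b)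
  have hKb : Kb ≤ I := Ideal.map_le_iff_le_comap.mpr fun p hp => by
    have := add_mem (hab p) (hKI p hp)
    simpa using this
  have hsq : ∀ p ∈ K ^ 2, eval b p ∈ I * Kb := fun p hp => by
    have h1 : eval b p ∈ Kb ^ 2 := by rw [← Ideal.map_pow]; exact Ideal.mem_map_of_mem _ hp
    rw [pow_two] at h1
    exact Ideal.mul_mono_left hKb h1
  have hkb : ∀ i, eval b (k i) ∈ I * Kb := by
    intro i
    have h0 : ∑ l, eval b (Q i l) * eval b (k l + h l) = 0 := by simp [hb]
    have h1 : eval b (h i) = (∑ l, eval b (Q i l) * eval b (k l + h l)) -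
        eval b (∑ l, Q i l * k l) - ∑ j, eval b ((Q * Q) i j - Q i j) * (b j - a j) := by
      simp only [h, map_sum, map_mul, map_add, map_sub, mul_add, Finset.mul_sum,
        Finset.sum_add_distrib, eval_C, eval_X, Matrix.mul_apply, sub_mul, Finset.sum_mul,
        Finset.sum_sub_distrib]
      rw [Finset.sum_comm (γ := Fin n)]
      simp only [mul_assoc]
      ring
    have h2 : eval b (h i) ∈ I * Kb := by
      rw [h1, h0]
      refine sub_mem (sub_mem (zero_mem _) (hsq _ (hQk i))) (sum_mem fun j _ => ?_)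
      rw [mul_comm I Kb]
      exact Ideal.mul_mem_mul (Ideal.mem_map_of_mem _ (hQQ i j)) (hba j)
    have h3 := hb i
    rw [map_add] at h3
    rw [eq_neg_of_add_eq_zero_left h3]
    exact neg_mem h2
  have hbot : Kb = ⊥ := by
    refine Submodule.eq_bot_of_le_smul_of_le_jacobson_bot I Kb (hK.map _) ?_
      HenselianRing.jac
    rw [Ideal.smul_eq_mul]
    refine Ideal.map_le_iff_le_comap.mpr fun f hf => ?_
    have h1 := hsq _ (hkey f hf)
    simp only [map_sub, map_sum, map_mul] at h1
    have h2 : ∑ j, eval b (pderiv j f) * eval b (k j) ∈ I * Kb :=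
      sum_mem fun j _ => Ideal.mul_mem_left _ _ (hkb j)
    simpa using add_mem h1 h2
  have hker : ∀ p ∈ K, aeval (R := A) b p = 0 := fun p hp => by
    rw [aeval_eq_eval]
    exact (Submodule.mem_bot A).mp (hbot ▸ Ideal.mem_map_of_mem _ hp)
  let θ := Ideal.quotientKerAlgEquivOfSurjective hπ
  refine ⟨(Ideal.Quotient.liftₐ K (aeval b) hker).comp θ.symm.toAlgHom, AlgHom.ext fun s => ?_⟩
  obtain ⟨p, rfl⟩ := hπ s
  show Ideal.Quotient.mk I (Ideal.Quotient.liftₐ K (aeval b) hker (θ.symm (π p))) = _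
  rw [show θ.symm (π p) = Ideal.Quotient.mk _ p from θ.symm_apply_eq.mpr rfl]
  show Ideal.Quotient.mk I (aeval b p) = _
  rw [aeval_eq_eval, ← hσ, Ideal.Quotient.eq]
  exact hab p

end smooth

theorem exists_smooth_lift [HenselianRing A I] {R : Type v} [CommRing R] [Algebra R A]
    {S : Type w} [CommRing S] [Algebra R S] [Algebra.Smooth R S] (σ : S →ₐ[R] A ⧸ I) :
    ∃ τ : S →ₐ[R] A, (Ideal.Quotient.mkₐ R I).comp τ = σ := by
  let σ' : A ⊗[R] S →ₐ[A] A ⧸ I :=
    Algebra.TensorProduct.lift (Algebra.ofId A _) σ fun _ _ => .all _ _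
  obtain ⟨n, π, hπ, hK⟩ := Algebra.FinitePresentation.out (R := A) (A := A ⊗[R] S)
  obtain ⟨τ, hτ⟩ := exists_eval_eq_zero_of_smooth I π hπ hK σ'
  refine ⟨(τ.restrictScalars R).comp Algebra.TensorProduct.includeRight, AlgHom.ext fun s => ?_⟩
  simpa [σ'] using congr($hτ (1 ⊗ₜ s))

end Groth.Agent.Hensel
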