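import Groth.Agent.Hensel.HenselizationProps
import Mathlib.RingTheory.Etale.Basic
import Mathlib.RingTheory.Idempotents

/-!
# Constructions with henselizations
-/

noncomputable section

namespace Groth.Agent.Hensel

universe u v

open IsLocalRing

section pair

variable {A : Type u} [CommRing A] {B : Type u} [CommRing B] [Algebra A B]

theorem radical_map_congr {A' : Type u} [CommRing A'] (f : A →+* A') {I J : Ideal A}
    (h : I.radical = J.radical) : (I.map f).radical = (J.map f).radical := by
  refine le_antisymm ?_ ?_ <;> rw [Ideal.radical_le_radical_iff] <;>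
    refine (Ideal.map_mono Ideal.le_radical).trans ((le_of_eq ?_).trans (Ideal.map_radical_le f))
  · rw [h]
  · rw [h]

theorem isPairHenselization_of_radical_eq {I J : Ideal A} (h : I.radical = J.radical)
    (hB : Hens2.IsPairHenselization A I B) : Hens2.IsPairHenselization A J B := by
  refine ⟨?_, fun C _ K f hC hf => hB.2 C K.radical f ((henselianRing_radical_iff K).mpr hC) ?_⟩
  · rw [← henselianRing_radical_iff, ← radical_map_congr _ h, henselianRing_radical_iff]
    exact hB.1
  · calc I.map f ≤ (I.map f).radical := Ideal.le_radical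
      _ = (J.map f).radical := radical_map_congr f h
      _ ≤ K.radical := Ideal.radical_mono hf

theorem isPairHenselization_iff_of_radical_eq {I J : Ideal A} (h : I.radical = J.radical) :
    Hens2.IsPairHenselization A I B ↔ Hens2.IsPairHenselization A J B :=
  ⟨isPairHenselization_of_radical_eq h, isPairHenselization_of_radical_eq h.symm⟩

/-- The henselization of an étale neighbourhood of a pair. -/
theorem isPairHenselization_of_etale (I : Ideal A) (S : Type u) [CommRing S] [Algebra A S]
    [Algebra.Etale A S]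
    (hq : Function.Bijective
      (Ideal.quotientMap (I.map (algebraMap A S)) (algebraMap A S) Ideal.le_comap_map))
    (H : Type u) [CommRing H] [Algebra S H] [Algebra A H] [IsScalarTower A S H]
    (hH : Hens2.IsPairHenselization S (I.map (algebraMap A S)) H) :
    Hens2.IsPairHenselization A I H := by
  have hmap : (I.map (algebraMap A S)).map (algebraMap S H) = I.map (algebraMap A H) := by
    rw [Ideal.map_map, ← IsScalarTower.algebraMap_eq]
  refine ⟨hmap ▸ hH.1, fun C _ J f hC hf => ?_⟩
  let : Algebra A C := f.toAlgebra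
  let q := RingEquiv.ofBijective _ hq
  let θ : A ⧸ I →+* C ⧸ J := Ideal.quotientMap J f (Ideal.map_le_iff_le_comap.mp hf)
  let σ : S →ₐ[A] C ⧸ J :=
    { (θ.comp q.symm.toRingHom).comp (Ideal.Quotient.mk (I.map (algebraMap A S))) with
      commutes' := fun a => by
        show θ (q.symm (Ideal.Quotient.mk _ (algebraMap A S a))) = _
        rw [show Ideal.Quotient.mk _ (algebraMap A S a) = q (Ideal.Quotient.mk I a) from rfl,
          RingEquiv.symm_apply_apply]
        rfl }
  have hσ : ∀ (φ : S →ₐ[A] C) (s : S), Ideal.Quotient.mk J (φ s) = σ s := by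
    intro φ s
    obtain ⟨r, hr⟩ := hq.2 (Ideal.Quotient.mk _ s)
    obtain ⟨r, rfl⟩ := Ideal.Quotient.mk_surjective r
    rw [Ideal.quotientMap_mk, eq_comm, Ideal.Quotient.eq] at hr
    have h1 : φ (s - algebraMap A S r) ∈ J := hf (algHom_mem_map _ φ hr)
    rw [map_sub, AlgHom.commutes, ← Ideal.Quotient.eq] at h1
    show _ = θ (q.symm (Ideal.Quotient.mk _ s))
    rw [show Ideal.Quotient.mk (I.map (algebraMap A S)) s = q (Ideal.Quotient.mk I r) from
      Ideal.Quotient.eq.mpr hr, RingEquiv.symm_apply_apply, h1]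
    rfl
  obtain ⟨g₀, -, hg₀⟩ := existsUnique_etale_lift_of_algebra J (R := A) σ
  have hg₀f : g₀.toRingHom.comp (algebraMap A S) = f := g₀.comp_algebraMap
  obtain ⟨g, hg, huniq⟩ := hH.2 C J g₀.toRingHom hC (by rw [Ideal.map_map, hg₀f]; exact hf)
  refine ⟨g, ?_, fun g' hg' => huniq g' ?_⟩
  · show g.comp (algebraMap A H) = f
    rw [IsScalarTower.algebraMap_eq A S H, ← RingHom.comp_assoc, hg, hg₀f]
  · let φ : S →ₐ[A] C := { g'.comp (algebraMap S H) with
      commutes' := fun a => by
        show g' (algebraMap S H (algebraMap A S a)) = f a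
        rw [← IsScalarTower.algebraMap_apply]; exact congr($hg' a) }
    exact congrArg AlgHom.toRingHom (hg₀ φ (AlgHom.ext fun s => hσ φ s))

/-- Quotients of henselizations of pairs. -/
theorem isPairHenselization_quotient {I : Ideal A} (hB : Hens2.IsPairHenselization A I B)
    (K : Ideal A) : Hens2.IsPairHenselization (A ⧸ K) (I.map (Ideal.Quotient.mk K))
      (B ⧸ K.map (algebraMap A B)) := by
  have e : (I.map (Ideal.Quotient.mk K)).map (algebraMap (A ⧸ K) (B ⧸ K.map (algebraMap A B))) =
      (I.map (algebraMap A B)).map (Ideal.Quotient.mk (K.map (algebraMap A B))) := by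
    rw [Ideal.map_map, Ideal.map_map]; rfl
  have := hB.1
  refine ⟨e ▸ henselianRing_quotient _ _, fun C _ J f hC hf => ?_⟩
  obtain ⟨g, hg, huniq⟩ := hB.2 C J (f.comp (Ideal.Quotient.mk K)) hC (by rwa [← Ideal.map_map])
  have hK : K.map (algebraMap A B) ≤ RingHom.ker g := Ideal.map_le_iff_le_comap.mpr fun k hk => by
    show g (algebraMap A B k) = 0
    rw [show g (algebraMap A B k) = f (Ideal.Quotient.mk K k) from congr($hg k),
      Ideal.Quotient.eq_zero_iff_mem.mpr hk, map_zero]
  refine ⟨Ideal.Quotient.lift _ g hK, Ideal.Quotient.ringHom_ext ?_, fun g' hg' => ?_⟩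
  · ext a; exact congr($hg a)
  · refine Ideal.Quotient.ringHom_ext ?_
    have := huniq (g'.comp (Ideal.Quotient.mk _)) (RingHom.ext fun a =>
      congr($hg' (Ideal.Quotient.mk K a)))
    rw [this]
    ext b; rfl

theorem exists_algEquiv_pi_of_isPairHenselization {n : ℕ} (I : Fin n → Ideal A)
    (hI : Pairwise fun i j => I i ⊔ I j = ⊤) (hB : Hens2.IsPairHenselization A (⨅ i, I i) B)
    (Bi : Fin n → Type u) [∀ i, CommRing (Bi i)] [∀ i, Algebra A (Bi i)]
    (hBi : ∀ i, Hens2.IsPairHenselization A (I i) (Bi i)) :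
    Nonempty (B ≃ₐ[A] ∀ i, Bi i) := by
  classical
  let K := (⨅ i, I i).map (algebraMap A B)
  have hK : HenselianRing B K := hB.1
  have hjac : K ≤ Ideal.jacobson ⊥ := HenselianRing.jac
  have hI' : Pairwise fun i j => IsCoprime (I i) (I j) := fun i j hij =>
    Ideal.isCoprime_iff_sup_eq.mpr (hI hij)
  let q := Ideal.quotientInfRingEquivPiQuotient I hI'
  choose x hx using fun i => Ideal.Quotient.mk_surjective (q.symm (Pi.single i 1))
  have hxi : ∀ i j, Ideal.Quotient.mk (I j) (x i) = Pi.single (M := fun j => A ⧸ I j) i 1 j :=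
    fun i j => by
      have := congr(q $(hx i) j)
      rwa [q.apply_symm_apply] at this
  have hx₁ : ∀ i, 1 - x i ∈ I i := fun i => by
    rw [← Ideal.Quotient.eq, map_one, hxi, Pi.single_eq_same]
  have hx₂ : ∀ i j, j ≠ i → x i ∈ I j := fun i j hij => by
    rw [← Ideal.Quotient.eq_zero_iff_mem, hxi, Pi.single_eq_of_ne hij]
  have hxI : ∀ i, ∀ a ∈ I i, a * x i ∈ ⨅ i, I i := fun i a ha => Ideal.mem_iInf.mpr fun j => by
    rcases eq_or_ne j i with rfl | h
    · exact Ideal.mul_mem_right _ _ ha
    · exact Ideal.mul_mem_left _ _ (hx₂ i j h)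
  have hlift : ∀ i, ∃ e : B, IsIdempotentElem e ∧ e - algebraMap A B (x i) ∈ K := fun i => by
    obtain ⟨e, he, he'⟩ := exists_idempotent_lift_of_isIntegral (A := B) K (algebraMap A B (x i)) (by
      rw [Algebra.algebraMap_self, Ideal.map_id, ← map_mul, ← map_sub]
      refine Ideal.mem_map_of_mem _ (Ideal.mem_iInf.mpr fun j => ?_)
      rw [← Ideal.Quotient.eq, map_mul, hxi]
      rcases eq_or_ne j i with rfl | h <;> simp [*])
    exact ⟨e, he, by rwa [Algebra.algebraMap_self, Ideal.map_id] at he'⟩
  choose e he hex using hlift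
  have hzero : ∀ {b : B}, IsIdempotentElem b → b ∈ K → b = 0 := fun hb h =>
    eq_of_isIdempotentElem_of_sub_mem hjac hb IsIdempotentElem.zero (by rwa [sub_zero])
  have hortho : OrthogonalIdempotents e := by
    refine ⟨he, fun i j hij => hzero ((he i).mul (he j)) ?_⟩
    have h1 : algebraMap A B (x i) * algebraMap A B (x j) ∈ K := by
      rw [← map_mul]; exact Ideal.mem_map_of_mem _ (hxI j _ (hx₂ i j (Ne.symm hij)))
    have h2 : e i * e j = (e i - algebraMap A B (x i)) * e j +
        algebraMap A B (x i) * (e j - algebraMap A B (x j)) +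
          algebraMap A B (x i) * algebraMap A B (x j) := by ring
    rw [h2]
    exact add_mem (add_mem (Ideal.mul_mem_right _ _ (hex i)) (Ideal.mul_mem_left _ _ (hex j))) h1
  have hcomp : CompleteOrthogonalIdempotents e := by
    refine ⟨hortho, eq_of_isIdempotentElem_of_sub_mem hjac
      (hortho.isIdempotentElem_sum (s := Finset.univ)) IsIdempotentElem.one ?_⟩
    have h1 : (∑ i, x i) - 1 ∈ ⨅ i, I i := Ideal.mem_iInf.mpr fun j => by
      rw [← Ideal.Quotient.eq, map_sum, map_one]; simp [hxi]
    have h2 : (∑ i, e i) - 1 = (∑ i, (e i - algebraMap A B (x i))) +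
        algebraMap A B ((∑ i, x i) - 1) := by
      simp [Finset.sum_sub_distrib, map_sum]
    rw [h2]
    exact add_mem (Ideal.sum_mem _ fun i _ => hex i) (Ideal.mem_map_of_mem _ h1)
  have key : ∀ i, Hens2.IsPairHenselization A (I i) (B ⧸ Ideal.span {1 - e i}) := by
    intro i
    have hmap : (I i).map (algebraMap A (B ⧸ Ideal.span {1 - e i})) =
        K.map (Ideal.Quotient.mk (Ideal.span {1 - e i})) := by
      refine le_antisymm (Ideal.map_le_iff_le_comap.mpr fun a ha => ?_) ?_
      · have h1 : algebraMap A B a * e i ∈ K := by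
          rw [show algebraMap A B a * e i = algebraMap A B a * (e i - algebraMap A B (x i)) +
            algebraMap A B (a * x i) by rw [map_mul]; ring]
          exact add_mem (Ideal.mul_mem_left _ _ (hex i)) (Ideal.mem_map_of_mem _ (hxI i a ha))
        rw [Ideal.mem_comap, show algebraMap A (B ⧸ Ideal.span {1 - e i}) a =
          Ideal.Quotient.mk _ (algebraMap A B a * e i) from Ideal.Quotient.eq.mpr
            (Ideal.mem_span_singleton'.mpr ⟨algebraMap A B a, by ring⟩)]
        exact Ideal.mem_map_of_mem _ h1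
      · rw [Ideal.map_map]; exact Ideal.map_mono (iInf_le _ i)
    refine ⟨hmap ▸ henselianRing_quotient _ K, fun C _ J f hC hf => ?_⟩
    obtain ⟨g, hg, huniq⟩ := hB.2 C J f hC ((Ideal.map_mono (iInf_le _ i)).trans hf)
    have hgK : ∀ b ∈ K, g b ∈ J := by
      intro b hb
      have := Ideal.mem_map_of_mem g hb
      rw [Ideal.map_map, hg] at this
      exact hf (Ideal.map_mono (iInf_le _ i) this)
    have hge : g (1 - e i) = 0 := by
      refine eq_of_isIdempotentElem_of_sub_mem hC.jac ((he i).one_sub.map g) IsIdempotentElem.zero ?_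
      rw [sub_zero, show g (1 - e i) = f (1 - x i) - g (e i - algebraMap A B (x i)) by
        rw [← hg, RingHom.comp_apply]; simp]
      exact sub_mem (hf (Ideal.mem_map_of_mem _ (hx₁ i))) (hgK _ (hex i))
    refine ⟨Ideal.Quotient.lift (Ideal.span {1 - e i}) g ?_, ?_, fun g' hg' => ?_⟩
    · intro b hb
      obtain ⟨c, rfl⟩ := Ideal.mem_span_singleton'.mp hb
      rw [map_mul, hge, mul_zero]
    · ext a; exact congr($hg a)
    · refine Ideal.Quotient.ringHom_ext ?_
      have := huniq (g'.comp (Ideal.Quotient.mk _)) (RingHom.ext fun a => congr($hg' a))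
      rw [this]
      ext b; rfl
  have ε := fun i => (exists_algEquiv_of_isPairHenselization (I i) (key i) (hBi i)).some
  let π : B →ₐ[A] ∀ i, B ⧸ Ideal.span {1 - e i} :=
    { RingHom.pi fun i => Ideal.Quotient.mk (Ideal.span {1 - e i}) with commutes' := fun _ => rfl }
  exact ⟨(AlgEquiv.ofBijective π hcomp.bijective_pi).trans
    (AlgEquiv.piCongrRight ε)⟩

end pair

section localRing

variable (R : Type u) [CommRing R] [IsLocalRing R] (J : Ideal R) (hJ : J ≤ maximalIdeal R)
  (H : Type u) [CommRing H] [IsLocalRing H] [Algebra R H] [IsLocalHom (algebraMap R H)]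
  (hH : Hens2.IsPairHenselization R J H)

include hJ hH

theorem map_maximalIdeal_of_isPairHenselization :
    (maximalIdeal R).map (algebraMap R H) = maximalIdeal H := by
  refine le_antisymm (Ideal.map_le_iff_le_comap.mpr fun a ha => map_nonunit _ a ha) fun x hx => ?_
  obtain ⟨a, ha⟩ := exists_sub_mem_of_isPairHenselization J hH x
  have hxa : x - algebraMap R H a ∈ (maximalIdeal R).map (algebraMap R H) := Ideal.map_mono hJ ha
  by_cases hu : IsUnit a
  · have h1 : x - algebraMap R H a ∈ maximalIdeal H :=
      Ideal.map_le_iff_le_comap.mpr (fun a ha => map_nonunit _ a ha) hxa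
    exact absurd (hu.map (algebraMap R H)) (by
      rw [← mem_nonunits_iff, ← IsLocalRing.mem_maximalIdeal]
      simpa using sub_mem hx h1)
  · simpa using add_mem hxa (Ideal.mem_map_of_mem (algebraMap R H) (show a ∈ maximalIdeal R from hu))

/-- A strict henselization of a pair henselization is a strict henselization. -/
theorem isStrictHenselization_of_isPairHenselization
    (S : Type u) [CommRing S] [IsLocalRing S] [Algebra H S] [IsLocalHom (algebraMap H S)]
    [hS : Hensel.IsStrictHenselization H S]
    [Algebra R S] [IsScalarTower R H S] [IsLocalHom (algebraMap R S)] :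
    Hensel.IsStrictHenselization R S := by
  have hm := map_maximalIdeal_of_isPairHenselization R J hJ H hH
  have hsurj : Function.Surjective (algebraMap (ResidueField R) (ResidueField H)) := fun y => by
    obtain ⟨y, rfl⟩ := residue_surjective y
    obtain ⟨a, ha⟩ := exists_sub_mem_of_isPairHenselization J hH y
    have h1 : y - algebraMap R H a ∈ maximalIdeal H := hm ▸ Ideal.map_mono hJ ha
    rw [← residue_eq_zero_iff, map_sub, sub_eq_zero] at h1
    exact ⟨residue R a, h1.symm⟩
  have htower : IsScalarTower (ResidueField R) (ResidueField H) (ResidueField S) :=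
    .of_algebraMap_eq fun x => by
      obtain ⟨x, rfl⟩ := residue_surjective x
      show residue S (algebraMap R S x) = residue S (algebraMap H S (algebraMap R H x))
      rw [← IsScalarTower.algebraMap_apply]
  have hsep : IsSepClosure (ResidueField H) (ResidueField S) := hS.isSepClosure
  have : Algebra.IsSeparable (ResidueField R) (ResidueField H) :=
    ⟨fun y => by obtain ⟨x, rfl⟩ := hsurj y; exact isSeparable_algebraMap x⟩
  have := hsep.separable
  refine ⟨hS.henselian, ⟨hsep.sep_closed, Algebra.IsSeparable.trans (ResidueField R) (ResidueField H) _⟩,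
    fun T _ _ f _ τ hτ => ?_⟩
  have hT : HenselianRing T (maximalIdeal T) := inferInstance
  have hfm : (maximalIdeal R).map f ≤ maximalIdeal T :=
    Ideal.map_le_iff_le_comap.mpr fun a ha => map_nonunit f a ha
  obtain ⟨g₀, hg₀, huniq₀⟩ := hH.2 T (maximalIdeal T) f hT ((Ideal.map_mono hJ).trans hfm)
  have : IsLocalHom g₀ := ⟨fun y hy => by
    by_contra h
    have h' : g₀ y ∈ (maximalIdeal H).map g₀ := Ideal.mem_map_of_mem g₀ h
    rw [← hm, Ideal.map_map, hg₀] at h'
    exact (IsLocalRing.mem_maximalIdeal _).mp (hfm h') hy⟩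
  obtain ⟨g, ⟨hg, hgτ⟩, huniq⟩ := hS.universal T g₀ τ (by
    refine RingHom.ext fun y => ?_
    obtain ⟨y, rfl⟩ := residue_surjective y
    obtain ⟨a, ha⟩ := exists_sub_mem_of_isPairHenselization J hH y
    have h1 : y - algebraMap R H a ∈ maximalIdeal H := hm ▸ Ideal.map_mono hJ ha
    rw [← residue_eq_zero_iff, map_sub, sub_eq_zero] at h1
    show τ (ResidueField.map (algebraMap H S) (residue H y)) = ResidueField.map g₀ (residue H y)
    rw [h1, ResidueField.map_residue, ResidueField.map_residue, ← IsScalarTower.algebraMap_apply,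
      ← RingHom.comp_apply g₀, hg₀]
    exact congr($hτ (residue R a)))
  refine ⟨g, ⟨?_, hgτ⟩, fun g' hg' => huniq g' ⟨?_, hg'.2⟩⟩
  · rw [IsScalarTower.algebraMap_eq R H S, ← RingHom.comp_assoc, hg, hg₀]
  · refine huniq₀ _ ?_
    show (g'.comp (algebraMap H S)).comp (algebraMap R H) = f
    rw [RingHom.comp_assoc, ← IsScalarTower.algebraMap_eq, hg'.1]

end localRing

section formallyEtale

variable (R : Type u) [CommRing R] (K : Type u) [CommRing K] [Algebra R K]

instance formallyEtale_henz : Algebra.FormallyEtale R (Henz R K) := by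
  refine Algebra.FormallyEtale.iff_comp_bijective.mpr fun C _ _ I hI => ?_
  have hstage : ∀ N : Nbhd R K, Algebra.FormallyEtale R N.Stage := fun N =>
    have : Algebra.FormallyEtale N.B N.Stage := .of_isLocalization N.S
    Algebra.FormallyEtale.comp R N.B N.Stage
  have hb : ∀ N : Nbhd R K, Function.Bijective
      ((Ideal.Quotient.mkₐ R I).comp : (N.Stage →ₐ[R] C) → N.Stage →ₐ[R] C ⧸ I) := fun N =>
    Algebra.FormallyEtale.comp_bijective R N.Stage I hI
  refine ⟨fun g g' h => Henz.algHom_ext fun N => (hb N).1 ?_, fun θ => ?_⟩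
  · simp only [← AlgHom.comp_assoc]; rw [h]
  choose g hg using fun N => (hb N).2 (θ.comp (Henz.of N))
  refine ⟨DirectLimit.Algebra.lift (fun N : Nbhd R K => N.Stage) (fun _ _ h => Nbhd.trans h) C g
    fun N M h x => ?_, AlgHom.ext fun z => ?_⟩
  · refine congr($((hb N).1 (a₁ := (g M).comp (Nbhd.trans h)) (a₂ := g N) ?_) x)
    simp only [hg, ← AlgHom.comp_assoc]
    exact AlgHom.ext fun y => congrArg θ (Henz.of_trans h y)
  · obtain ⟨N, x, rfl⟩ := Henz.exists_of z
    exact congr($(hg N) x)

end formallyEtale

theorem formallyEtale_of_isHenselization (R S : Type u) [CommRing R] [IsLocalRing R] [CommRing S]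
    [IsLocalRing S] [Algebra R S] [IsLocalHom (algebraMap R S)] [Hensel.IsHenselization R S] :
    Algebra.FormallyEtale R S := by
  obtain ⟨e⟩ := exists_algEquiv_localHenz R S
  exact Algebra.FormallyEtale.of_equiv e

theorem formallyEtale_of_isStrictHenselization (R S : Type u) [CommRing R] [IsLocalRing R]
    [CommRing S] [IsLocalRing S] [Algebra R S] [IsLocalHom (algebraMap R S)]
    [Hensel.IsStrictHenselization R S] : Algebra.FormallyEtale R S := by
  obtain ⟨e⟩ := exists_algEquiv_strictHenz R S
  exact Algebra.FormallyEtale.of_equiv e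

end Groth.Agent.Hensel
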