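import Groth.Agent.Hensel.PairNbhd
import Groth.Agent.Hensel.HenselizationMisc
import Mathlib.RingTheory.FinitePresentation

/-!
# Henselian finitely presented algebras: changing the finitely presented model
-/

noncomputable section

namespace Groth.Agent.Hensel

universe u

section finset

variable {A : Type u} [CommRing A] (I : Ideal A) {B : Type u} [CommRing B] [Algebra A B]
  (hB : Hens2.IsPairHenselization A I B)

include hB

theorem exists_isPairNbhd_finset (s : Finset B) :
    ∃ (U : Type u) (_ : CommRing U) (_ : Algebra A U) (_ : Algebra.Etale A U), IsPairNbhd I U ∧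
      ∃ φ : U →ₐ[A] B, ∀ x ∈ s, ∃ u, φ u = x := by
  classical
  induction s using Finset.induction with
  | empty =>
    obtain ⟨U, _, _, _, hU, φ, -, -⟩ := exists_of_isPairHenselization I hB 0
    exact ⟨U, inferInstance, inferInstance, inferInstance, hU, φ, by simp⟩
  | insert a t _ ih =>
    obtain ⟨U, _, _, _, hU, φ, hφ⟩ := ih
    obtain ⟨U', _, _, _, hU', φ', u', hu'⟩ := exists_of_isPairHenselization I hB a
    obtain ⟨V, _, _, _, hV, ⟨α⟩, ⟨α'⟩⟩ := exists_isPairNbhd_hom₂ I hU hU'
    obtain ⟨_⟩ := existsUnique_algHom_of_isPairNbhd I hB U hU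
    obtain ⟨_⟩ := existsUnique_algHom_of_isPairNbhd I hB U' hU'
    obtain ⟨uV⟩ := existsUnique_algHom_of_isPairNbhd I hB V hV
    let ψ : V →ₐ[A] B := uV.default
    refine ⟨V, inferInstance, inferInstance, inferInstance, hV, ψ, fun x hx => ?_⟩
    rcases Finset.mem_insert.mp hx with rfl | hx
    · exact ⟨α' u', (AlgHom.congr_fun (Subsingleton.elim (ψ.comp α') φ') u').trans hu'⟩
    · obtain ⟨u, rfl⟩ := hφ x hx
      exact ⟨α u, AlgHom.congr_fun (Subsingleton.elim (ψ.comp α) φ) u⟩

/-- The henselization of a pair is the henselization of each of its neighbourhoods. -/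
theorem isPairHenselization_of_isPairNbhd (U : Type u) [CommRing U] [Algebra A U] [Algebra.Etale A U]
    (hU : IsPairNbhd I U) [Algebra U B] [IsScalarTower A U B] :
    Hens2.IsPairHenselization U (I.map (algebraMap A U)) B := by
  have hmap : (I.map (algebraMap A U)).map (algebraMap U B) = I.map (algebraMap A B) := by
    rw [Ideal.map_map, ← IsScalarTower.algebraMap_eq]
  refine ⟨hmap ▸ hB.1, fun C _ J f hC hf => ?_⟩
  rw [Ideal.map_map] at hf
  obtain ⟨g, hg, huniq⟩ := hB.2 C J (f.comp (algebraMap A U)) hC hf
  let : Algebra A C := (f.comp (algebraMap A U)).toAlgebra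
  refine ⟨g, ?_, fun g' hg' => huniq g' ?_⟩
  · let f₁ : U →ₐ[A] C := { f with commutes' := fun _ => rfl }
    let f₂ : U →ₐ[A] C := AlgHom.mk (g.comp (algebraMap U B)) fun a =>
      (congrArg g (IsScalarTower.algebraMap_apply A U B a).symm).trans congr($hg a)
    have key : (Ideal.Quotient.mkₐ A J).comp f₁ = (Ideal.Quotient.mkₐ A J).comp f₂ := by
      refine AlgHom.ext fun x => Ideal.Quotient.eq.mpr ?_
      obtain ⟨a, ha⟩ := hU.2 (Ideal.Quotient.mk _ x)
      obtain ⟨a, rfl⟩ := Ideal.Quotient.mk_surjective a
      rw [Ideal.quotientMap_mk, eq_comm, Ideal.Quotient.eq] at ha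
      have hJ : I.map (algebraMap A C) ≤ J := hf
      have h1 := hJ (algHom_mem_map I f₁ ha)
      have h2 := hJ (algHom_mem_map I f₂ ha)
      rw [map_sub, AlgHom.commutes] at h1 h2
      have := sub_mem h1 h2
      rwa [sub_sub_sub_cancel_right] at this
    obtain ⟨u, -, hu⟩ := existsUnique_etale_lift_of_algebra J (R := A) ((Ideal.Quotient.mkₐ A J).comp f₁)
    exact congrArg AlgHom.toRingHom ((hu f₂ key.symm).trans (hu f₁ rfl).symm)
  · show g'.comp (algebraMap A B) = f.comp (algebraMap A U)
    rw [IsScalarTower.algebraMap_eq A U B, ← RingHom.comp_assoc, hg']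

end finset

variable {A : Type u} [CommRing A] (I : Ideal A) {R : Type u} [CommRing R] [Algebra A R]
  [Algebra.FinitePresentation A R]
  {B : Type u} [CommRing B] [Algebra R B] [Algebra A B] [IsScalarTower A R B]
  (hB : Hens2.IsPairHenselization R (I.map (algebraMap A R)) B)

include hB

/-- Finitely many elements of a henselian finitely presented algebra lie in a finitely presented model. -/
theorem exists_model_finset (s : Finset B) :
    ∃ (U : Type u) (_ : CommRing U) (_ : Algebra A U) (_ : Algebra U B) (_ : IsScalarTower A U B),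
      Algebra.FinitePresentation A U ∧ Hens2.IsPairHenselization U (I.map (algebraMap A U)) B ∧
        ∀ x ∈ s, ∃ u, algebraMap U B u = x := by
  obtain ⟨U, _, _, _, hU, φ, hφ⟩ := exists_isPairNbhd_finset _ hB s
  let : Algebra A U := Algebra.compHom U (algebraMap A R)
  have : IsScalarTower A R U := .of_algebraMap_eq' rfl
  let : Algebra U B := φ.toRingHom.toAlgebra
  have : IsScalarTower R U B := .of_algebraMap_eq fun r => (φ.commutes r).symm
  have : IsScalarTower A U B := .of_algebraMap_eq fun a => by
    rw [IsScalarTower.algebraMap_apply A R U, IsScalarTower.algebraMap_apply A R B,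
      ← IsScalarTower.algebraMap_apply R U B]
  refine ⟨U, inferInstance, inferInstance, inferInstance, inferInstance, Algebra.FinitePresentation.trans A R U, ?_, hφ⟩
  rw [show I.map (algebraMap A U) = (I.map (algebraMap A R)).map (algebraMap R U) by
    rw [Ideal.map_map, ← IsScalarTower.algebraMap_eq]]
  exact isPairHenselization_of_isPairNbhd _ hB U hU

/-- A finitely generated quotient of a henselian finitely presented algebra has a finitely presented model. -/
theorem exists_model_of_surjective {C : Type u} [CommRing C] [Algebra A C] (ψ : B →ₐ[A] C)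
    (hψ : Function.Surjective ψ) (hker : (RingHom.ker ψ).FG) :
    ∃ (T : Type u) (_ : CommRing T) (_ : Algebra A T) (_ : Algebra T C) (_ : IsScalarTower A T C),
      Algebra.FinitePresentation A T ∧ Hens2.IsPairHenselization T (I.map (algebraMap A T)) C := by
  classical
  obtain ⟨s, hs⟩ := hker
  obtain ⟨U, _, _, _, _, hfp, hU, hu⟩ := exists_model_finset I hB s
  choose u hu using hu
  let K : Ideal U := Ideal.span ↑(Finset.univ.image fun x : s => u x.1 x.2)
  have hK : K.map (algebraMap U B) = RingHom.ker ψ := by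
    rw [← hs, Ideal.map_span]
    refine congrArg Ideal.span (Set.ext fun x => ⟨?_, fun hx => ?_⟩)
    · rintro ⟨y, hy, rfl⟩
      obtain ⟨z, -, rfl⟩ := Finset.mem_image.mp hy
      rw [hu]; exact z.2
    · exact ⟨u x hx, Finset.mem_image.mpr ⟨⟨x, hx⟩, Finset.mem_univ _, rfl⟩, hu x hx⟩
  let g : U →ₐ[A] C := ψ.comp (IsScalarTower.toAlgHom A U B)
  have hg : ∀ x ∈ K, g x = 0 := fun x hx => hK.le (Ideal.mem_map_of_mem (algebraMap U B) hx)
  let T := U ⧸ K
  let t : T →ₐ[A] C := Ideal.Quotient.liftₐ K g hg
  let : Algebra T C := t.toRingHom.toAlgebra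
  have : IsScalarTower A T C := .of_algebraMap_eq fun a => (t.commutes a).symm
  have : Algebra.FinitePresentation A T := Algebra.FinitePresentation.quotient ⟨_, rfl⟩
  refine ⟨T, inferInstance, inferInstance, inferInstance, inferInstance, this, ?_⟩
  have hq := isPairHenselization_quotient hU K
  let Ψ : (B ⧸ K.map (algebraMap U B)) ≃+* C :=
    (Ideal.quotEquivOfEq hK).trans (RingHom.quotientKerEquivOfSurjective (f := ψ.toRingHom) hψ)
  let e : (B ⧸ K.map (algebraMap U B)) ≃ₐ[T] C := AlgEquiv.ofRingEquiv (f := Ψ) fun x => by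
    obtain ⟨x, rfl⟩ := Ideal.Quotient.mk_surjective x
    rfl
  have := isPairHenselization_of_algEquiv _ hq e
  rwa [show I.map (algebraMap A T) = (I.map (algebraMap A U)).map (Ideal.Quotient.mk K) by
    rw [Ideal.map_map]; rfl]

end Groth.Agent.Hensel
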