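import Groth.Prelude.Def_Hensel
import Groth.Agent.Hensel.HenselizationProps
import Groth.Agent.Hensel.IntegralStrict
import Groth.Agent.Hensel.QuasiFiniteSplit

/-!
# Henselizations of a tensor product at a prime

For `R → S`, primes `q` over `p`, (strict) henselizations `Rh → Sh` of `R_p → S_q`, the ring `Sh` is a
(strict) henselization of `Rh ⊗_R S` at the induced prime.
-/

noncomputable section

namespace Groth.Agent.Hensel

universe u

open IsLocalRing TensorProduct

/-- A field extension of a separably closed field, separable over a subfield, is trivial. -/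
theorem bijective_of_sepClosed {k L M : Type u} [Field k] [Field L] [Field M] [Algebra k M] [Algebra.IsSeparable k M]
    [IsSepClosed L] (j : k →+* L) (τ : L →+* M) (h : τ.comp j = algebraMap k M) : Function.Bijective τ := by
  let : Algebra k L := j.toAlgebra
  let : Algebra L M := τ.toAlgebra
  have : IsScalarTower k L M := .of_algebraMap_eq fun x => (RingHom.congr_fun h x).symm
  have : Algebra.IsSeparable L M := Algebra.isSeparable_tower_top_of_isSeparable k L M
  exact ⟨τ.injective, IsSepClosed.algebraMap_surjective L M⟩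

section AtPrime

variable {R : Type u} [CommRing R] {p : Ideal R} [p.IsPrime]

/-- A map out of `R` under which the closed point lies over `p` extends locally to `R_p`. -/
theorem exists_localization_lift {T : Type u} [CommRing T] [IsLocalRing T] (f : R →+* T)
    (hf : (maximalIdeal T).comap f = p) :
    ∃ F : Localization.AtPrime p →+* T, F.comp (algebraMap R _) = f ∧ IsLocalHom F := by
  have hu : ∀ s : p.primeCompl, IsUnit (f s) := fun s => by
    by_contra h
    exact s.2 (hf.le (show f (s : R) ∈ maximalIdeal T from h))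
  refine ⟨IsLocalization.lift hu, IsLocalization.lift_comp hu, ⟨fun x hx => ?_⟩⟩
  obtain ⟨a, s, rfl⟩ := IsLocalization.exists_mk'_eq p.primeCompl x
  rw [IsLocalization.AtPrime.isUnit_mk'_iff]
  intro ha
  have h1 : f a = f s * (IsLocalization.lift hu : Localization.AtPrime p →+* T) (IsLocalization.mk' (Localization.AtPrime p) a s) := by
    rw [← IsLocalization.lift_eq (S := Localization.AtPrime p) hu (s : R), ← IsLocalization.lift_eq (S := Localization.AtPrime p) hu a, ← map_mul, IsLocalization.mk'_spec']
  exact (maximalIdeal.isMaximal T).ne_top (Ideal.eq_top_of_isUnit_mem _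
    (show f a ∈ maximalIdeal T from hf.ge ha) (h1 ▸ (hu s).mul hx))

end AtPrime

section Point

variable (R : Type u) [CommRing R] (p : Ideal R) [p.IsPrime]
  (Rh : Type u) [CommRing Rh] [IsLocalRing Rh] [Algebra (Localization.AtPrime p) Rh]
  [IsLocalHom (algebraMap (Localization.AtPrime p) Rh)] [Algebra R Rh] [IsScalarTower R (Localization.AtPrime p) Rh]

theorem comap_algebraMap_atPrime : (maximalIdeal Rh).comap (algebraMap R Rh) = p := by
  have h0 := (local_hom_TFAE (algebraMap (Localization.AtPrime p) Rh)).out 0 4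
  have h := h0.mp ‹IsLocalHom (algebraMap (Localization.AtPrime p) Rh)›
  rw [IsScalarTower.algebraMap_eq R (Localization.AtPrime p) Rh, ← Ideal.comap_comap, h]
  exact IsLocalization.AtPrime.under_maximalIdeal (Localization.AtPrime p) p

variable {R p Rh} {T : Type u} [CommRing T] [IsLocalRing T]

omit [IsLocalRing Rh] [IsLocalHom (algebraMap (Localization.AtPrime p) Rh)] in
theorem comp_atPrime_eq {g g' : Rh →+* T} (h : g.comp (algebraMap R Rh) = g'.comp (algebraMap R Rh)) :
    g.comp (algebraMap (Localization.AtPrime p) Rh) = g'.comp (algebraMap (Localization.AtPrime p) Rh) :=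
  IsLocalization.ringHom_ext p.primeCompl (by
    rwa [RingHom.comp_assoc, RingHom.comp_assoc, ← IsScalarTower.algebraMap_eq])

omit [IsLocalRing Rh] [IsLocalHom (algebraMap (Localization.AtPrime p) Rh)] in
theorem isLocalHom_comp_atPrime {g : Rh →+* T} (hg : (maximalIdeal T).comap (g.comp (algebraMap R Rh)) = p) :
    IsLocalHom (g.comp (algebraMap (Localization.AtPrime p) Rh)) := by
  obtain ⟨F, hF, hloc⟩ := exists_localization_lift _ hg
  have : F = g.comp (algebraMap (Localization.AtPrime p) Rh) := IsLocalization.ringHom_ext p.primeCompl (by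
    rw [hF, RingHom.comp_assoc, ← IsScalarTower.algebraMap_eq])
  exact this ▸ hloc

/-- A map out of a ring whose maximal ideal is extended from `R_p` is local as soon as it is so over `R`. -/
theorem isLocalHom_of_comap (hmax : (maximalIdeal (Localization.AtPrime p)).map (algebraMap _ Rh) = maximalIdeal Rh)
    {g : Rh →+* T} (hg : (maximalIdeal T).comap (g.comp (algebraMap R Rh)) = p) : IsLocalHom g := by
  have := isLocalHom_comp_atPrime hg
  refine ((local_hom_TFAE g).out 0 2).mpr ?_
  rw [← hmax, Ideal.map_map]
  exact ((local_hom_TFAE (g.comp (algebraMap (Localization.AtPrime p) Rh))).out 0 2).mp this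

variable {T' : Type u} [CommRing T'] [HenselianLocalRing T']

theorem henz_lift [Hensel.IsHenselization (Localization.AtPrime p) Rh] (f : R →+* T')
    (hf : (maximalIdeal T').comap f = p) : ∃ g : Rh →+* T', g.comp (algebraMap R Rh) = f ∧ IsLocalHom g := by
  obtain ⟨F, hF, hloc⟩ := exists_localization_lift f hf
  obtain ⟨g, hg, -⟩ := Hensel.IsHenselization.universal (R := Localization.AtPrime p) (S := Rh) T' F hloc
  have e : g.comp (algebraMap R Rh) = f := by
    rw [IsScalarTower.algebraMap_eq R (Localization.AtPrime p) Rh, ← RingHom.comp_assoc, hg, hF]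
  exact ⟨g, e, isLocalHom_of_comap (map_maximalIdeal_of_isHenselization _ Rh) (e ▸ hf)⟩

theorem henz_ext [Hensel.IsHenselization (Localization.AtPrime p) Rh] {g g' : Rh →+* T'}
    (h : g.comp (algebraMap R Rh) = g'.comp (algebraMap R Rh))
    (hg : (maximalIdeal T').comap (g.comp (algebraMap R Rh)) = p) : g = g' := by
  obtain ⟨g₀, -, huniq⟩ := Hensel.IsHenselization.universal (R := Localization.AtPrime p) (S := Rh) T'
    (g.comp (algebraMap (Localization.AtPrime p) Rh)) (isLocalHom_comp_atPrime hg)
  exact (huniq g rfl).trans (huniq g' (comp_atPrime_eq h).symm).symm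

theorem strict_lift [Hensel.IsStrictHenselization (Localization.AtPrime p) Rh] (f : R →+* T')
    (hf : (maximalIdeal T').comap f = p) (τ : ResidueField Rh →+* ResidueField T')
    (hτ : ∀ r : R, τ (residue Rh (algebraMap R Rh r)) = residue T' (f r)) :
    ∃ g : Rh →+* T', g.comp (algebraMap R Rh) = f ∧ IsLocalHom g ∧ ∀ x, residue T' (g x) = τ (residue Rh x) := by
  obtain ⟨F, hF, hloc⟩ := exists_localization_lift f hf
  have hcompat : τ.comp (ResidueField.map (algebraMap (Localization.AtPrime p) Rh)) = ResidueField.map F := by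
    have h1 : (τ.comp (residue Rh)).comp (algebraMap (Localization.AtPrime p) Rh) = (residue T').comp F :=
      IsLocalization.ringHom_ext p.primeCompl (RingHom.ext fun r => by
        show τ (residue Rh (algebraMap _ Rh (algebraMap R _ r))) = residue T' (F (algebraMap R _ r))
        rw [← IsScalarTower.algebraMap_apply, hτ, ← hF]
        rfl)
    refine RingHom.ext fun z => ?_
    obtain ⟨z, rfl⟩ := residue_surjective z
    rw [RingHom.comp_apply, ResidueField.map_residue, ResidueField.map_residue]
    exact RingHom.congr_fun h1 z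
  obtain ⟨g, ⟨hg, hres⟩, -⟩ :=
    Hensel.IsStrictHenselization.universal (R := Localization.AtPrime p) (S := Rh) T' F τ hcompat
  have e : g.comp (algebraMap R Rh) = f := by
    rw [IsScalarTower.algebraMap_eq R (Localization.AtPrime p) Rh, ← RingHom.comp_assoc, hg, hF]
  exact ⟨g, e, isLocalHom_of_comap (map_maximalIdeal_of_isStrictHenselization _ Rh) (e ▸ hf), hres⟩

theorem strict_ext [Hensel.IsStrictHenselization (Localization.AtPrime p) Rh] {g g' : Rh →+* T'}
    (h : g.comp (algebraMap R Rh) = g'.comp (algebraMap R Rh))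
    (hg : (maximalIdeal T').comap (g.comp (algebraMap R Rh)) = p)
    (hres : ∀ x, residue T' (g x) = residue T' (g' x)) : g = g' := by
  have := isLocalHom_of_comap (map_maximalIdeal_of_isStrictHenselization _ Rh) hg
  have := isLocalHom_comp_atPrime hg
  obtain ⟨g₀, -, huniq⟩ := Hensel.IsStrictHenselization.universal (R := Localization.AtPrime p) (S := Rh) T'
    (g.comp (algebraMap (Localization.AtPrime p) Rh)) (ResidueField.map g) (ResidueField.map_comp _ g).symm
  exact (huniq g ⟨rfl, fun x => (ResidueField.map_residue g x).symm⟩).trans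
    (huniq g' ⟨(comp_atPrime_eq h).symm, fun x => ((ResidueField.map_residue g x).trans (hres x)).symm⟩).symm

end Point

section Tensor

variable (R : Type u) [CommRing R] (S : Type u) [CommRing S] [Algebra R S] (p : Ideal R) [p.IsPrime]
  (q : Ideal S) [q.IsPrime] [q.LiesOver p]
  (Rh : Type u) [CommRing Rh] [IsLocalRing Rh] [Algebra (Localization.AtPrime p) Rh]
  [IsLocalHom (algebraMap (Localization.AtPrime p) Rh)] [Algebra R Rh] [IsScalarTower R (Localization.AtPrime p) Rh]
  (Sh : Type u) [CommRing Sh] [IsLocalRing Sh] [Algebra (Localization.AtPrime q) Sh]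
  [IsLocalHom (algebraMap (Localization.AtPrime q) Sh)] [Algebra S Sh] [IsScalarTower S (Localization.AtPrime q) Sh]
  [Algebra R Sh] [IsScalarTower R S Sh] [Algebra Rh Sh] [IsScalarTower R Rh Sh]

/-- The map `Rh ⊗_R S → Sh`. -/
abbrev tensorPt : Rh ⊗[R] S →ₐ[R] Sh :=
  Algebra.TensorProduct.lift (IsScalarTower.toAlgHom R Rh Sh) (IsScalarTower.toAlgHom R S Sh)
    (fun _ _ => Commute.all _ _)

/-- The prime of `Rh ⊗_R S` cut out by the closed point of `Sh`. -/
abbrev tensorPrime : Ideal (Rh ⊗[R] S) := Ideal.comap (tensorPt R S Rh Sh) (maximalIdeal Sh)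

theorem comap_includeRight_tensorPrime :
    (tensorPrime R S Rh Sh).comap (Algebra.TensorProduct.includeRight : S →ₐ[R] Rh ⊗[R] S).toRingHom = q := by
  ext s
  show tensorPt R S Rh Sh ((1 : Rh) ⊗ₜ[R] s) ∈ maximalIdeal Sh ↔ _
  rw [Algebra.TensorProduct.lift_tmul, map_one, one_mul]
  exact SetLike.ext_iff.mp (comap_algebraMap_atPrime S q Sh) s

variable (E : Type u) [CommRing E] [IsLocalRing E] [Algebra (Localization.AtPrime (tensorPrime R S Rh Sh)) E]
  [IsLocalHom (algebraMap (Localization.AtPrime (tensorPrime R S Rh Sh)) E)]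

/-- The structure map `Rh ⊗_R S → E`. -/
abbrev toE : Rh ⊗[R] S →+* E :=
  (algebraMap (Localization.AtPrime (tensorPrime R S Rh Sh)) E).comp (algebraMap (Rh ⊗[R] S) _)

theorem comap_toE : (maximalIdeal E).comap (toE R S Rh Sh E) = tensorPrime R S Rh Sh := by
  let : Algebra (Rh ⊗[R] S) E := (toE R S Rh Sh E).toAlgebra
  have : IsScalarTower (Rh ⊗[R] S) (Localization.AtPrime (tensorPrime R S Rh Sh)) E := .of_algebraMap_eq fun _ => rfl
  exact comap_algebraMap_atPrime (Rh ⊗[R] S) (tensorPrime R S Rh Sh) E

theorem henz_tensor [Hensel.IsHenselization (Localization.AtPrime p) Rh]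
    [Hensel.IsHenselization (Localization.AtPrime q) Sh]
    [Hensel.IsHenselization (Localization.AtPrime (tensorPrime R S Rh Sh)) E] :
    ∃ e : E ≃+* Sh, ∀ d, e (toE R S Rh Sh E d) = tensorPt R S Rh Sh d := by
  let : Algebra (Rh ⊗[R] S) E := (toE R S Rh Sh E).toAlgebra
  have : IsScalarTower (Rh ⊗[R] S) (Localization.AtPrime (tensorPrime R S Rh Sh)) E := .of_algebraMap_eq fun _ => rfl
  have : HenselianLocalRing Sh := Hensel.IsHenselization.henselian (R := Localization.AtPrime q)
  have : HenselianLocalRing E := Hensel.IsHenselization.henselian (R := Localization.AtPrime (tensorPrime R S Rh Sh))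
  obtain ⟨g, hg, hgl⟩ := henz_lift (p := tensorPrime R S Rh Sh) (Rh := E) (tensorPt R S Rh Sh).toRingHom rfl
  let iS : S →+* E := (toE R S Rh Sh E).comp (Algebra.TensorProduct.includeRight : S →ₐ[R] Rh ⊗[R] S).toRingHom
  have hiS : (maximalIdeal E).comap iS = q := by
    rw [← Ideal.comap_comap, comap_toE]
    exact comap_includeRight_tensorPrime R S q Rh Sh
  obtain ⟨h, hh, hhl⟩ := henz_lift (p := q) (Rh := Sh) iS hiS
  have hgd : ∀ d, g (toE R S Rh Sh E d) = tensorPt R S Rh Sh d := fun d => RingHom.congr_fun hg d
  have hgh : g.comp h = RingHom.id Sh := (henz_ext (R := S) (p := q) (Rh := Sh) (g := RingHom.id Sh) (g' := g.comp h) (RingHom.ext fun s => by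
    show algebraMap S Sh s = g (h (algebraMap S Sh s))
    rw [show h (algebraMap S Sh s) = iS s from RingHom.congr_fun hh s]
    exact ((hgd _).trans (by simp)).symm) (comap_algebraMap_atPrime S q Sh)).symm
  have hR : h.comp (algebraMap Rh Sh) =
      (toE R S Rh Sh E).comp (Algebra.TensorProduct.includeLeftRingHom : Rh →+* Rh ⊗[R] S) := by
    have e : (h.comp (algebraMap Rh Sh)).comp (algebraMap R Rh) = iS.comp (algebraMap R S) := by
      rw [RingHom.comp_assoc, ← IsScalarTower.algebraMap_eq, IsScalarTower.algebraMap_eq R S Sh,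
        ← RingHom.comp_assoc, hh]
    refine henz_ext (R := R) (p := p) (e.trans (RingHom.ext fun r => congrArg (toE R S Rh Sh E) ?_)) ?_
    · show (1 : Rh) ⊗ₜ[R] algebraMap R S r = algebraMap R Rh r ⊗ₜ[R] (1 : S)
      rw [Algebra.algebraMap_eq_smul_one, Algebra.algebraMap_eq_smul_one, smul_tmul]
    · rw [e, ← Ideal.comap_comap, hiS]
      exact (q.over_def p).symm
  have hhg : h.comp g = RingHom.id E := (henz_ext (R := Rh ⊗[R] S) (p := tensorPrime R S Rh Sh) (Rh := E) (g := RingHom.id E) (g' := h.comp g)
    (RingHom.ext fun d => by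
      show toE R S Rh Sh E d = h (g (toE R S Rh Sh E d))
      rw [hgd]
      induction d with
      | zero => simp
      | add a b ha hb => simp only [map_add, ha, hb]
      | tmul r s =>
        rw [Algebra.TensorProduct.lift_tmul, map_mul]
        show _ = h (algebraMap Rh Sh r) * h (algebraMap S Sh s)
        rw [show h (algebraMap S Sh s) = iS s from RingHom.congr_fun hh s,
          show h (algebraMap Rh Sh r) = _ from RingHom.congr_fun hR r]
        simp [iS, ← map_mul])
    (comap_toE R S Rh Sh E)).symm
  exact ⟨RingEquiv.ofRingHom g h hgh hhg, hgd⟩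

theorem strict_tensor [Hensel.IsStrictHenselization (Localization.AtPrime p) Rh]
    [Hensel.IsStrictHenselization (Localization.AtPrime q) Sh]
    [Hensel.IsStrictHenselization (Localization.AtPrime (tensorPrime R S Rh Sh)) E] :
    ∃ e : E ≃+* Sh, ∀ d, e (toE R S Rh Sh E d) = tensorPt R S Rh Sh d := by
  let : Algebra (Rh ⊗[R] S) E := (toE R S Rh Sh E).toAlgebra
  have : IsScalarTower (Rh ⊗[R] S) (Localization.AtPrime (tensorPrime R S Rh Sh)) E := .of_algebraMap_eq fun _ => rfl
  have : HenselianLocalRing Sh := Hensel.IsStrictHenselization.henselian (R := Localization.AtPrime q)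
  have : HenselianLocalRing E :=
    Hensel.IsStrictHenselization.henselian (R := Localization.AtPrime (tensorPrime R S Rh Sh))
  have hE : IsSepClosure (ResidueField (Localization.AtPrime (tensorPrime R S Rh Sh))) (ResidueField E) :=
    Hensel.IsStrictHenselization.isSepClosure
  have hS : IsSepClosure (ResidueField (Localization.AtPrime q)) (ResidueField Sh) :=
    Hensel.IsStrictHenselization.isSepClosure
  have := hE.separable
  have := hE.sep_closed
  have := hS.separable
  have := hS.sep_closed
  obtain ⟨ℓ, hℓ, hℓl⟩ := exists_localization_lift (p := tensorPrime R S Rh Sh) (tensorPt R S Rh Sh).toRingHom rfl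
  let : Algebra (ResidueField (Localization.AtPrime (tensorPrime R S Rh Sh))) (ResidueField Sh) :=
    (ResidueField.map ℓ).toAlgebra
  let τ : ResidueField E →+* ResidueField Sh :=
    (IsSepClosed.lift (K := ResidueField (Localization.AtPrime (tensorPrime R S Rh Sh)))
      (L := ResidueField E) (M := ResidueField Sh)).toRingHom
  have hτ : ∀ d, τ (residue E (algebraMap (Rh ⊗[R] S) E d)) = residue Sh (tensorPt R S Rh Sh d) := fun d => by
    have := (IsSepClosed.lift (K := ResidueField (Localization.AtPrime (tensorPrime R S Rh Sh)))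
      (L := ResidueField E) (M := ResidueField Sh)).commutes (residue _ (algebraMap (Rh ⊗[R] S) _ d))
    refine Eq.trans ?_ (this.trans ?_)
    · show τ _ = τ _
      congr 1
    · exact congrArg (residue Sh) (RingHom.congr_fun hℓ d)
  obtain ⟨g, hg, hgl, hgres⟩ :=
    strict_lift (p := tensorPrime R S Rh Sh) (Rh := E) (tensorPt R S Rh Sh).toRingHom rfl τ hτ
  let iS : S →+* E := (toE R S Rh Sh E).comp (Algebra.TensorProduct.includeRight : S →ₐ[R] Rh ⊗[R] S).toRingHom
  have hiS : (maximalIdeal E).comap iS = q := by
    rw [← Ideal.comap_comap, comap_toE]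
    exact comap_includeRight_tensorPrime R S q Rh Sh
  have hgd : ∀ d, g (toE R S Rh Sh E d) = tensorPt R S Rh Sh d := fun d => RingHom.congr_fun hg d
  have hgS : ∀ s, g (iS s) = algebraMap S Sh s := fun s => (hgd _).trans (by simp)
  -- the residue field of `E` is the whole residue field of `Sh`
  obtain ⟨FS, hFS, hFSl⟩ := exists_localization_lift iS hiS
  have hbij : Function.Bijective τ := bijective_of_sepClosed (ResidueField.map FS) τ (by
    refine RingHom.ext fun z => ?_
    obtain ⟨z, rfl⟩ := residue_surjective z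
    have h1 : g.comp FS = algebraMap (Localization.AtPrime q) Sh := IsLocalization.ringHom_ext q.primeCompl (by
      rw [RingHom.comp_assoc, hFS, ← IsScalarTower.algebraMap_eq]
      exact RingHom.ext hgS)
    rw [RingHom.comp_apply, ResidueField.map_residue, ← hgres, ← RingHom.comp_apply g FS, h1]
    rfl)
  let τe := RingEquiv.ofBijective τ hbij
  obtain ⟨h, hh, hhl, hhres⟩ := strict_lift (p := q) (Rh := Sh) iS hiS τe.symm.toRingHom (fun s => by
    apply τe.injective
    show τe (τe.symm _) = τ _
    rw [τe.apply_symm_apply, ← hgres, hgS])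
  have hhS : ∀ s, h (algebraMap S Sh s) = iS s := fun s => RingHom.congr_fun hh s
  have hgh : g.comp h = RingHom.id Sh := (strict_ext (R := S) (p := q) (Rh := Sh) (g := RingHom.id Sh) (g' := g.comp h)
    (RingHom.ext fun s => by
      show algebraMap S Sh s = g (h (algebraMap S Sh s))
      rw [hhS, hgS]) (comap_algebraMap_atPrime S q Sh) (fun x => by
      show residue Sh x = residue Sh (g (h x))
      rw [hgres, hhres]
      exact (τe.apply_symm_apply _).symm)).symm
  have hR : h.comp (algebraMap Rh Sh) =
      (toE R S Rh Sh E).comp (Algebra.TensorProduct.includeLeftRingHom : Rh →+* Rh ⊗[R] S) := by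
    have e : (h.comp (algebraMap Rh Sh)).comp (algebraMap R Rh) = iS.comp (algebraMap R S) := by
      rw [RingHom.comp_assoc, ← IsScalarTower.algebraMap_eq, IsScalarTower.algebraMap_eq R S Sh,
        ← RingHom.comp_assoc, hh]
    refine strict_ext (R := R) (p := p) (e.trans (RingHom.ext fun r => congrArg (toE R S Rh Sh E) ?_)) ?_ fun x => ?_
    · show (1 : Rh) ⊗ₜ[R] algebraMap R S r = algebraMap R Rh r ⊗ₜ[R] (1 : S)
      rw [Algebra.algebraMap_eq_smul_one, Algebra.algebraMap_eq_smul_one, smul_tmul]
    · rw [e, ← Ideal.comap_comap, hiS]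
      exact (q.over_def p).symm
    · apply hbij.1
      show τ (residue E (h (algebraMap Rh Sh x))) = τ (residue E (toE R S Rh Sh E (x ⊗ₜ[R] (1 : S))))
      rw [hhres, ← hgres, hgd, Algebra.TensorProduct.lift_tmul, map_one, mul_one]
      exact τe.apply_symm_apply _
  have hhg : h.comp g = RingHom.id E := (strict_ext (R := Rh ⊗[R] S) (p := tensorPrime R S Rh Sh) (Rh := E)
    (g := RingHom.id E) (g' := h.comp g)
    (RingHom.ext fun d => by
      show toE R S Rh Sh E d = h (g (toE R S Rh Sh E d))
      rw [hgd]
      induction d with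
      | zero => simp
      | add a b ha hb => simp only [map_add, ha, hb]
      | tmul r s =>
        rw [Algebra.TensorProduct.lift_tmul, map_mul]
        show _ = h (algebraMap Rh Sh r) * h (algebraMap S Sh s)
        rw [hhS, show h (algebraMap Rh Sh r) = _ from RingHom.congr_fun hR r]
        simp [iS, ← map_mul])
    (comap_toE R S Rh Sh E) (fun x => by
      show residue E x = residue E (h (g x))
      rw [hhres, hgres]
      exact (τe.symm_apply_apply _).symm)).symm
  exact ⟨RingEquiv.ofRingHom g h hgh hhg, hgd⟩

end Tensor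

end Groth.Agent.Hensel
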