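import Groth.Agent.Hensel.PairNbhd
import Groth.Agent.Hensel.Factor
import Mathlib.RingTheory.Etale.Pi

/-!
# Lifting units, idempotents and factorizations to étale neighbourhoods
-/

noncomputable section

namespace Groth.Agent.Hensel

universe u

open Polynomial

variable {A : Type u} [CommRing A] (I : Ideal A)

theorem mk_eq_quotientMap {V : Type u} [CommRing V] [Algebra A V] (hV : IsPairNbhd I V)
    (τ : V →ₐ[A] A ⧸ I) (x : V) :
    Ideal.Quotient.mk (I.map (algebraMap A V)) x =
      Ideal.quotientMap (I.map (algebraMap A V)) (algebraMap A V) Ideal.le_comap_map (τ x) := by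
  obtain ⟨c, hc⟩ := hV.2 (Ideal.Quotient.mk _ x)
  obtain ⟨a, rfl⟩ := Ideal.Quotient.mk_surjective c
  rw [← hc]
  congr 1
  rw [Ideal.quotientMap_mk, Ideal.Quotient.eq] at hc
  have h := map_mem_ker I τ hc
  rw [map_sub, AlgHom.commutes, sub_eq_zero] at h
  exact h

/-- An element which is a unit modulo `I` gives an étale algebra with a point over `A ⧸ I`. -/
theorem exists_away_toQuot {a : A} (ha : IsUnit (Ideal.Quotient.mk I a)) :
    ∃ τ : Localization.Away a →ₐ[A] A ⧸ I, True :=
  ⟨IsLocalization.liftAlgHom (M := Submonoid.powers a) (f := Algebra.ofId A (A ⧸ I)) fun y => by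
    obtain ⟨_, n, rfl⟩ := y
    simpa using ha.pow n, trivial⟩

theorem exists_etale_lift_unit' (u : (A ⧸ I)ˣ) :
    ∃ (A' : Type u) (_ : CommRing A') (_ : Algebra A A'), Algebra.Etale A A' ∧
      Function.Bijective (Ideal.quotientMap (Ideal.map (algebraMap A A') I) (algebraMap A A')
        Ideal.le_comap_map) ∧
      ∃ u' : A'ˣ, Ideal.Quotient.mk (Ideal.map (algebraMap A A') I) (u' : A') =
        Ideal.quotientMap (Ideal.map (algebraMap A A') I) (algebraMap A A') Ideal.le_comap_map
          (u : A ⧸ I) := by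
  obtain ⟨a, ha⟩ := Ideal.Quotient.mk_surjective (u : A ⧸ I)
  obtain ⟨τ, -⟩ := exists_away_toQuot I (a := a) (ha ▸ u.isUnit)
  have : Algebra.Etale A (Localization.Away a) := Algebra.Etale.of_isLocalizationAway a
  obtain ⟨V, _, _, _, γ, τV, hV, hτ⟩ := exists_isPairNbhd I _ τ
  refine ⟨V, inferInstance, inferInstance, inferInstance, hV,
    ((IsLocalization.Away.algebraMap_isUnit (S := Localization.Away a) a).map γ).unit, ?_⟩
  rw [IsUnit.unit_spec, mk_eq_quotientMap I hV τV,
    show τV (γ _) = τ (algebraMap A _ a) from congr($hτ _), AlgHom.commutes,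
    Ideal.Quotient.algebraMap_eq, ha]

theorem exists_etale_lift_idempotents' {n : ℕ} (e : Fin n → A ⧸ I) (he : CompleteOrthogonalIdempotents e) :
    ∃ (A' : Type u) (_ : CommRing A') (_ : Algebra A A'), Algebra.Etale A A' ∧
      Function.Bijective (Ideal.quotientMap (Ideal.map (algebraMap A A') I) (algebraMap A A')
        Ideal.le_comap_map) ∧
      ∃ e' : Fin n → A', CompleteOrthogonalIdempotents e' ∧
        ∀ j, Ideal.Quotient.mk (Ideal.map (algebraMap A A') I) (e' j) =
          Ideal.quotientMap (Ideal.map (algebraMap A A') I) (algebraMap A A') Ideal.le_comap_map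
            (e j) := by
  classical
  let τ : (Fin n → A) →ₐ[A] A ⧸ I :=
    { toFun := fun a => ∑ j, a j • e j
      map_one' := by simpa using he.complete
      map_mul' := fun a b => by
        rw [Finset.sum_mul_sum]
        refine Finset.sum_congr rfl fun i _ => ?_
        rw [Finset.sum_eq_single i]
        · rw [smul_mul_smul_comm, (he.idem i).eq]; rfl
        · intro j _ hj; rw [smul_mul_smul_comm, he.ortho hj.symm, smul_zero]
        · simp
      map_zero' := by simp
      map_add' := fun a b => by simp [add_smul, Finset.sum_add_distrib]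
      commutes' := fun r => by
        show ∑ j, r • e j = _
        rw [← Finset.smul_sum, he.complete, Algebra.smul_def, mul_one] }
  obtain ⟨V, _, _, _, γ, τV, hV, hτ⟩ := exists_isPairNbhd I _ τ
  refine ⟨V, inferInstance, inferInstance, inferInstance, hV, fun j => γ (Pi.single j 1),
    (CompleteOrthogonalIdempotents.single fun _ : Fin n => A).map γ.toRingHom, fun j => ?_⟩
  rw [mk_eq_quotientMap I hV τV, show τV (γ _) = τ (Pi.single j 1) from congr($hτ _)]
  congr 1
  show ∑ k, (Pi.single j (1 : A) : Fin n → A) k • e k = e j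
  rw [Finset.sum_eq_single j]
  · simp
  · intro k _ hk; simp [hk]
  · simp

theorem exists_etale_lift_factorization' (f : A[X]) (hf : f.Monic)
    (g h : (A ⧸ I)[X]) (hgh : f.map (Ideal.Quotient.mk I) = g * h) (hlead : IsUnit g.leadingCoeff)
    (hcop : IsCoprime g h) :
    ∃ (A' : Type u) (_ : CommRing A') (_ : Algebra A A') (_ : Algebra.Etale A A'),
      Function.Bijective (Ideal.quotientMap (I.map (algebraMap A A')) (algebraMap A A') Ideal.le_comap_map) ∧
      ∃ g' h' : A'[X], f.map (algebraMap A A') = g' * h' ∧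
        g'.map (Ideal.Quotient.mk (I.map (algebraMap A A'))) =
          g.map (Ideal.quotientMap (I.map (algebraMap A A')) (algebraMap A A') Ideal.le_comap_map) ∧
        h'.map (Ideal.Quotient.mk (I.map (algebraMap A A'))) =
          h.map (Ideal.quotientMap (I.map (algebraMap A A')) (algebraMap A A') Ideal.le_comap_map) := by
  rcases subsingleton_or_nontrivial (A ⧸ I) with hs | hs
  · have : IsLocalization.Away (1 : A) A := IsLocalization.away_of_isUnit_of_bijective A isUnit_one Function.bijective_id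
    have : Algebra.Etale A A := Algebra.Etale.of_isLocalizationAway (1 : A)
    obtain ⟨V, _, _, _, γ, τV, hV, hτ⟩ := exists_isPairNbhd I A (Algebra.ofId A (A ⧸ I))
    refine ⟨V, inferInstance, inferInstance, inferInstance, hV, f.map (algebraMap A V), 1,
      (mul_one _).symm, ?_, ?_⟩ <;>
    · have : Subsingleton (V ⧸ I.map (algebraMap A V)) := hV.2.subsingleton
      exact Subsingleton.elim _ _
  obtain ⟨a, ha⟩ := Ideal.Quotient.mk_surjective g.leadingCoeff
  obtain ⟨τ₁, -⟩ := exists_away_toQuot I (a := a) (ha ▸ hlead)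
  let A₁ := Localization.Away a
  let : Algebra A₁ (A ⧸ I) := τ₁.toAlgebra
  have : IsScalarTower A A₁ (A ⧸ I) := .of_algebraMap_eq fun x => (τ₁.commutes x).symm
  obtain ⟨c, hc⟩ := hlead.exists_left_inv
  let g₀ := C c * g
  let h₀ := C g.leadingCoeff * h
  have hcC : (C c : (A ⧸ I)[X]) * C g.leadingCoeff = 1 := by rw [← C_mul, hc, C_1]
  have hprod : g₀ * h₀ = f.map (Ideal.Quotient.mk I) := by
    rw [hgh]
    linear_combination (g * h) * hcC
  have hg₀ : g₀.Monic := monic_C_mul_of_mul_leadingCoeff_eq_one hc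
  have hh₀ : h₀.Monic := hg₀.of_mul_monic_left (hprod ▸ hf.map _)
  have hcop' : IsCoprime g₀ h₀ :=
    (isCoprime_mul_unit_left_left (IsUnit.of_mul_eq_one _ (by rw [← C_mul, hc, C_1])) _ _).mpr
      ((isCoprime_mul_unit_left_right (hlead.map C) _ _).mpr hcop)
  let f₁ := f.map (algebraMap A A₁)
  have hf₁ : f₁.map (algebraMap A₁ (A ⧸ I)) = g₀ * h₀ := by
    rw [Polynomial.map_map, ← IsScalarTower.algebraMap_eq, hprod, Ideal.Quotient.algebraMap_eq]
  have hn : f₁.natDegree = g₀.natDegree + h₀.natDegree := by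
    rw [← (hf.map _).natDegree_map (algebraMap A₁ (A ⧸ I)), hf₁, hg₀.natDegree_mul hh₀]
  let P : MonicDegreeEq A₁ f₁.natDegree := .mk f₁ (hf.map _) rfl
  let σ := (UniversalCoprimeFactorizationRing.homEquiv (A ⧸ I) g₀.natDegree h₀.natDegree hn P).symm
    ⟨(.mk g₀ hg₀ rfl, .mk h₀ hh₀ rfl), hf₁.symm, hcop'⟩
  let U := UniversalCoprimeFactorizationRing g₀.natDegree h₀.natDegree hn P
  have : Algebra.Etale A A₁ := Algebra.Etale.of_isLocalizationAway a
  let : Algebra A U := ((algebraMap A₁ U).comp (algebraMap A A₁)).toAlgebra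
  have : IsScalarTower A A₁ U := .of_algebraMap_eq fun _ => rfl
  have : Algebra.Etale A U := Algebra.Etale.comp A A₁ U
  obtain ⟨V, _, _, _, γ, τV, hV, hτ⟩ := exists_isPairNbhd I U (σ.restrictScalars A)
  let : Algebra A₁ V := (γ.comp (IsScalarTower.toAlgHom A A₁ U)).toAlgebra
  have : IsScalarTower A A₁ V := .of_algebraMap_eq fun x =>
    ((γ.comp (IsScalarTower.toAlgHom A A₁ U)).commutes x).symm
  let γ₁ : U →ₐ[A₁] V := { γ with commutes' := fun r => rfl }
  have hτ₁ : ∀ r : A₁, τV (algebraMap A₁ V r) = algebraMap A₁ (A ⧸ I) r := fun r =>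
    (congr($hτ (algebraMap A₁ U r))).trans (σ.commutes r)
  let τ₁V : V →ₐ[A₁] A ⧸ I := { τV with commutes' := hτ₁ }
  have hcomp : τ₁V.comp γ₁ = σ := AlgHom.ext fun x => congr($hτ x)
  set q := UniversalCoprimeFactorizationRing.homEquiv V g₀.natDegree h₀.natDegree hn P γ₁ with hq
  have h1 := UniversalCoprimeFactorizationRing.homEquiv_comp_fst V g₀.natDegree h₀.natDegree hn P γ₁ τ₁V
  have h2 := UniversalCoprimeFactorizationRing.homEquiv_comp_snd V g₀.natDegree h₀.natDegree hn P γ₁ τ₁V
  rw [hcomp, Equiv.apply_symm_apply] at h1 h2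
  have h1' : q.1.1.1.map τV.toRingHom = g₀ := congr(($h1).1).symm
  have h2' : q.1.2.1.map τV.toRingHom = h₀ := congr(($h2).1).symm
  obtain ⟨w, hw⟩ := (IsLocalization.Away.algebraMap_isUnit (S := A₁) a).exists_left_inv
  have hτa : τV (algebraMap A V a) = g.leadingCoeff := by
    rw [AlgHom.commutes]; exact ha
  have hτw : τV (algebraMap A₁ V w) = c := by
    have hq' : algebraMap A₁ V w * algebraMap A V a = 1 := by
      rw [IsScalarTower.algebraMap_apply A A₁ V, ← map_mul, hw, map_one]
    have := congr(τV $hq')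
    rw [map_mul, map_one, hτa] at this
    exact (left_inv_eq_right_inv hc (by rwa [mul_comm] at this)).symm
  have hmk : ∀ p : V[X], p.map (Ideal.Quotient.mk (I.map (algebraMap A V))) =
      (p.map τV.toRingHom).map
        (Ideal.quotientMap (I.map (algebraMap A V)) (algebraMap A V) Ideal.le_comap_map) := fun p => by
    rw [Polynomial.map_map]
    congr 1
    exact RingHom.ext fun x => mk_eq_quotientMap I hV τV x
  refine ⟨V, inferInstance, inferInstance, inferInstance, hV, C (algebraMap A V a) * q.1.1.1,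
    C (algebraMap A₁ V w) * q.1.2.1, ?_, ?_, ?_⟩
  · rw [mul_mul_mul_comm, ← C_mul, IsScalarTower.algebraMap_apply A A₁ V, ← map_mul, mul_comm _ w, hw,
      map_one, C_1, one_mul, q.2.1]
    simp [P, f₁, Polynomial.map_map, ← IsScalarTower.algebraMap_eq]
  · rw [hmk, Polynomial.map_mul (f := τV.toRingHom), Polynomial.map_C, h1']
    congr 1
    show C (τV (algebraMap A V a)) * g₀ = g
    rw [hτa]
    linear_combination g * hcC
  · rw [hmk, Polynomial.map_mul (f := τV.toRingHom), Polynomial.map_C, h2']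
    congr 1
    show C (τV (algebraMap A₁ V w)) * h₀ = h
    rw [hτw]
    linear_combination h * hcC

end Groth.Agent.Hensel
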