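import Groth.Agent.Hensel.EtaleLift
import Groth.Agent.Hensel.PairBasic

noncomputable section

namespace Groth.Agent.Hensel

universe u

open IsLocalRing

theorem henselianLocalRing_iff_bijective_sections (A : Type u) [CommRing A] [IsLocalRing A] :
    HenselianLocalRing A ↔
      ∀ (C : Type u) [CommRing C] [Algebra A C] [Module.Finite A C] (E : Type u) [CommRing E]
        [Algebra A E] [Algebra.Etale A E],
        Function.Bijective (fun φ : E →ₐ[A] C =>
          (Ideal.Quotient.mkₐ A (Ideal.map (algebraMap A C) (maximalIdeal A))).comp φ) := by
  constructor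
  · intro _ C _ _ _ E _ _ _
    have : HenselianRing C (Ideal.map (algebraMap A C) (maximalIdeal A)) :=
      henselianRing_of_isIntegral' (maximalIdeal A) C
    refine Function.bijective_iff_existsUnique _ |>.mpr fun σ => ?_
    exact existsUnique_etale_lift_of_algebra _ σ
  · intro h
    refine henselianLocalRing_of_etale_retraction A fun S _ _ _ q _ hq hres => ?_
    have hs : Function.Surjective (Algebra.ofId A q.ResidueField) := hres
    have hk : RingHom.ker (Algebra.ofId A q.ResidueField) =
        Ideal.map (algebraMap A A) (maximalIdeal A) := by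
      rw [Algebra.algebraMap_self, Ideal.map_id]
      ext r
      rw [RingHom.mem_ker, show Algebra.ofId A q.ResidueField r = algebraMap S q.ResidueField
        (algebraMap A S r) from IsScalarTower.algebraMap_apply A S q.ResidueField r,
        Ideal.algebraMap_residueField_eq_zero]
      exact (SetLike.ext_iff.mp (q.over_def (maximalIdeal A)) r).symm
    let σ' : S →ₐ[A] A ⧸ Ideal.map (algebraMap A A) (maximalIdeal A) :=
      (((Ideal.quotientKerAlgEquivOfSurjective hs).symm.trans
        (Ideal.quotientEquivAlgOfEq A hk)).toAlgHom).comp (IsScalarTower.toAlgHom A S q.ResidueField)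
    obtain ⟨τ, -⟩ := (h A S).2 σ'
    exact ⟨τ⟩

end Groth.Agent.Hensel
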