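import Groth.Agent.Hensel.HenselizationDescent
import Groth.Agent.Hensel.DepthFlat
import Mathlib.RingTheory.Ideal.KrullsHeightTheorem
import Mathlib.RingTheory.Unramified.LocalRing
import Mathlib.RingTheory.Artinian.Module

/-!
# Localizations and fibres of henselizations
-/

noncomputable section

namespace Groth.Agent.Hensel

universe u v

open IsLocalRing

section flat

variable {R S : Type u} [CommRing R] [IsLocalRing R] [IsNoetherianRing R] [CommRing S]
  [IsLocalRing S] [IsNoetherianRing S] [Algebra R S] [IsLocalHom (algebraMap R S)] [Module.Flat R S]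
  (hm : (maximalIdeal R).map (algebraMap R S) = maximalIdeal S)

include hm

theorem ringKrullDim_eq_of_flat_of_map_maximalIdeal_eq : ringKrullDim S = ringKrullDim R := by
  have : (maximalIdeal S).LiesOver (maximalIdeal R) := ⟨(maximalIdeal_comap (algebraMap R S)).symm⟩
  have h := Ideal.height_eq_height_add_of_liesOver_of_hasGoingDown (maximalIdeal R) (maximalIdeal S)
  rw [hm, Ideal.map_quotient_self] at h
  have : Nontrivial (S ⧸ maximalIdeal S) :=
    Ideal.Quotient.nontrivial_iff.mpr (maximalIdeal.isMaximal S).ne_top
  rw [Ideal.height_bot, add_zero] at h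
  rw [← maximalIdeal_height_eq_ringKrullDim, ← maximalIdeal_height_eq_ringKrullDim, h]

theorem spanFinrank_maximalIdeal_eq_of_flat :
    (maximalIdeal S).spanFinrank = (maximalIdeal R).spanFinrank := by
  classical
  have : Module.FaithfullyFlat R S := Module.FaithfullyFlat.of_flat_of_isLocalHom
  obtain ⟨t, ht, htspan⟩ :=
    (IsNoetherian.noetherian (maximalIdeal R)).exists_span_finset_card_eq_spanFinrank
  have hspanS : Ideal.span (algebraMap R S '' t) = maximalIdeal S := by
    rw [← Ideal.map_span, ← hm]; exact congrArg _ htspan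
  refine le_antisymm ?_ ?_
  · rw [← hspanS]
    refine (Submodule.spanFinrank_span_le_ncard_of_finite (t.finite_toSet.image _)).trans ?_
    rw [← ht, ← Set.ncard_coe_finset t]
    exact Set.ncard_image_le t.finite_toSet
  · let v : t → maximalIdeal S := fun a => ⟨algebraMap R S a, by
      rw [← hspanS]; exact Ideal.subset_span ⟨a, a.2, rfl⟩⟩
    have hv : Submodule.span (ResidueField S)
        ((maximalIdeal S).toCotangent '' Set.range v) = ⊤ := by
      rw [CotangentSpace.span_image_eq_top_iff]
      refine Submodule.map_injective_of_injective (maximalIdeal S).subtype_injective ?_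
      rw [Submodule.map_span, Submodule.map_top, Submodule.range_subtype, ← Set.range_comp]
      refine Eq.trans ?_ hspanS
      congr 1
      ext z; simp [v]
    obtain ⟨b, hb, hbspan, hbli⟩ := exists_linearIndependent (ResidueField S)
      ((maximalIdeal S).toCotangent '' Set.range v)
    rw [hv] at hbspan
    rw [← Set.range_comp] at hb
    choose g hg using fun c : b => hb c.2
    have : Finite b := Finite.of_injective g fun c c' e => Subtype.ext (by rw [← hg, ← hg, e])
    have : Fintype b := Fintype.ofFinite b
    rw [spanFinrank_maximalIdeal_eq_finrank_cotangentSpace S, ← finrank_top (ResidueField S),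
      ← hbspan, finrank_span_set_eq_card hbli]
    have hgen : Submodule.span S (Set.range (v ∘ g)) = ⊤ := by
      rw [← CotangentSpace.span_image_eq_top_iff, eq_top_iff, ← hbspan]
      exact Submodule.span_mono fun c hc => ⟨v (g ⟨c, hc⟩), ⟨_, rfl⟩, hg ⟨c, hc⟩⟩
    have hgen' : Ideal.span (Set.range fun c => (g c : R)) = maximalIdeal R := by
      rw [← Ideal.comap_map_eq_self_of_faithfullyFlat (B := S) (Ideal.span _),
        ← Ideal.comap_map_eq_self_of_faithfullyFlat (B := S) (maximalIdeal R), hm, Ideal.map_span]
      congr 1
      have h2 := congrArg (Submodule.map (maximalIdeal S).subtype) hgen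
      rw [Submodule.map_span, Submodule.map_top, Submodule.range_subtype] at h2
      refine Eq.trans ?_ h2
      rw [← Set.range_comp, ← Set.range_comp]
      rfl
    rw [← hgen']
    refine (Submodule.spanFinrank_span_le_ncard_of_finite (Set.finite_range _)).trans ?_
    rw [Set.toFinset_card, ← Nat.card_eq_fintype_card]
    exact (Nat.card_coe_set_eq _).symm.trans_le (Finite.card_range_le _)

theorem isRegularLocalRing_iff_of_flat : IsRegularLocalRing R ↔ IsRegularLocalRing S := by
  rw [_root_.isRegularLocalRing_iff, _root_.isRegularLocalRing_iff,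
    spanFinrank_maximalIdeal_eq_of_flat hm, ringKrullDim_eq_of_flat_of_map_maximalIdeal_eq hm]

end flat

/-- The fibres of `Henz` are unramified. -/
theorem exists_notMem_mul_mem_henz {R K : Type u} [CommRing R] [CommRing K] [Algebra R K]
    (q : Ideal (Henz R K)) [q.IsPrime] {z : Henz R K} (hz : z ∈ q) :
    ∃ t ∉ q, t * z ∈ (q.comap (algebraMap R (Henz R K))).map (algebraMap R (Henz R K)) := by
  obtain ⟨N, b, rfl⟩ := Henz.exists_ofB z
  let p : Ideal R := q.comap (algebraMap R (Henz R K))
  let Q : Ideal N.B := q.comap (Henz.ofB N)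
  have hp : Q.LiesOver p := ⟨by ext r; simp [p, Q, Ideal.under_def]⟩
  have hun : Algebra.IsUnramifiedAt R Q := inferInstance
  let := Localization.AtPrime.algebraOfLiesOver p Q
  obtain ⟨-, hmap⟩ := (Algebra.isUnramifiedAt_iff_map_eq R p Q).mp hun
  have hb : algebraMap N.B (Localization.AtPrime Q) b ∈
      (p.map (algebraMap R N.B)).map (algebraMap N.B (Localization.AtPrime Q)) := by
    rw [Ideal.map_map, ← IsScalarTower.algebraMap_eq, hmap]
    exact (IsLocalization.AtPrime.to_map_mem_maximal_iff _ Q b).mpr hz
  obtain ⟨t, ht, htb⟩ :=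
    (IsLocalization.algebraMap_mem_map_algebraMap_iff Q.primeCompl (Localization.AtPrime Q) _ _).mp hb
  exact ⟨Henz.ofB N t, ht, by rw [← map_mul]; exact algHom_mem_map _ (Henz.ofB N) htb⟩

theorem IsHenzLike.exists_notMem_mul_mem {R S : Type u} [CommRing R] [IsLocalRing R] [CommRing S]
    [IsLocalRing S] [Algebra R S] [IsLocalHom (algebraMap R S)] (h : IsHenzLike R S)
    (q : Ideal S) [q.IsPrime] {z : S} (hz : z ∈ q) :
    ∃ t ∉ q, t * z ∈ (q.comap (algebraMap R S)).map (algebraMap R S) := by
  obtain ⟨L, _, _, _, _, ⟨e⟩⟩ := h
  obtain ⟨t, ht, htz⟩ := exists_notMem_mul_mem_henz (q.comap e.toAlgHom) (z := e.symm z)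
    (by simpa using hz)
  refine ⟨e t, by simpa using ht, ?_⟩
  rw [show (q.comap e.toAlgHom).comap (algebraMap R (Henz R L)) = q.comap (algebraMap R S) by
    ext r; simp] at htz
  simpa using algHom_mem_map _ e.toAlgHom htz

section loc

variable {R S : Type u} [CommRing R] [IsLocalRing R] [CommRing S] [IsLocalRing S] [Algebra R S]
  [IsLocalHom (algebraMap R S)] (h : IsHenzLike R S)

include h

theorem IsHenzLike.map_maximalIdeal_localization (p : Ideal R) [p.IsPrime] (q : Ideal S) [q.IsPrime]
    [q.LiesOver p] [Algebra (Localization.AtPrime p) (Localization.AtPrime q)]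
    [Localization.AtPrime.IsLiesOverAlgebra p q] :
    (maximalIdeal (Localization.AtPrime p)).map
      (algebraMap (Localization.AtPrime p) (Localization.AtPrime q)) =
      maximalIdeal (Localization.AtPrime q) := by
  rw [← Localization.AtPrime.map_eq_maximalIdeal, Ideal.map_map, ← IsScalarTower.algebraMap_eq,
    IsScalarTower.algebraMap_eq R S (Localization.AtPrime q), ← Ideal.map_map]
  refine le_antisymm ((Ideal.map_mono ?_).trans_eq Localization.AtPrime.map_eq_maximalIdeal) ?_
  · exact Ideal.map_le_iff_le_comap.mpr (Ideal.LiesOver.over (P := q) (p := p)).le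
  · intro x hx
    obtain ⟨⟨z, s⟩, hs⟩ := IsLocalization.surj q.primeCompl x
    have hz : z ∈ q := (IsLocalization.AtPrime.to_map_mem_maximal_iff (Localization.AtPrime q) q z).mp
      (hs ▸ Ideal.mul_mem_right _ _ hx)
    obtain ⟨t, ht, htz⟩ := h.exists_notMem_mul_mem q hz
    rw [show q.comap (algebraMap R S) = p from (Ideal.LiesOver.over (P := q) (p := p)).symm] at htz
    have h1 := Ideal.mem_map_of_mem (algebraMap S (Localization.AtPrime q)) htz
    rw [map_mul, ← hs] at h1
    have hu : IsUnit (algebraMap S (Localization.AtPrime q) t) :=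
      IsLocalization.map_units _ (⟨t, ht⟩ : q.primeCompl)
    rw [Ideal.unit_mul_mem_iff_mem _ hu,
      Ideal.mul_unit_mem_iff_mem _ (IsLocalization.map_units _ s)] at h1
    exact h1

variable [IsNoetherianRing R]

/-- Transfer of the basic invariants between a prime of the henselization and the prime below. -/
theorem IsHenzLike.localization_invariants (q : Ideal S) [q.IsPrime] :
    let p := q.comap (algebraMap R S)
    ringKrullDim (Localization.AtPrime q) = ringKrullDim (Localization.AtPrime p) ∧
    LocCoh.depth (Localization.AtPrime q) (Localization.AtPrime q) =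
      LocCoh.depth (Localization.AtPrime p) (Localization.AtPrime p) ∧
    (IsRegularLocalRing (Localization.AtPrime p) ↔ IsRegularLocalRing (Localization.AtPrime q)) := by
  intro p
  have := h.faithfullyFlat
  have := h.isNoetherianRing_iff.mp inferInstance
  have : q.LiesOver p := ⟨rfl⟩
  let := Localization.AtPrime.algebraOfLiesOver p q
  have : IsLocalHom (algebraMap (Localization.AtPrime p) (Localization.AtPrime q)) := by
    rw [RingHom.algebraMap_toAlgebra]
    exact Localization.isLocalHom_localRingHom p q (algebraMap R S) Ideal.LiesOver.over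
  have hm := h.map_maximalIdeal_localization p q
  exact ⟨ringKrullDim_eq_of_flat_of_map_maximalIdeal_eq hm,
    depth_eq_of_flat_of_map_maximalIdeal_eq _ hm, isRegularLocalRing_iff_of_flat hm⟩

theorem IsHenzLike.depth_localizedModule_eq (q : Ideal S) [q.IsPrime] :
    LocCoh.depth (Localization.AtPrime q) (LocalizedModule q.primeCompl S) =
      LocCoh.depth (Localization.AtPrime (q.comap (algebraMap R S)))
        (LocalizedModule (q.comap (algebraMap R S)).primeCompl R) := by
  rw [← Groth.Agent.Alg6.depth_localized_eq q (Localization.AtPrime q)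
      (Algebra.linearMap S (Localization.AtPrime q)),
    ← Groth.Agent.Alg6.depth_localized_eq _ (Localization.AtPrime (q.comap (algebraMap R S)))
      (Algebra.linearMap R (Localization.AtPrime (q.comap (algebraMap R S))))]
  exact (h.localization_invariants q).2.1

theorem IsHenzLike.supportDim_localizedModule_eq (q : Ideal S) [q.IsPrime] :
    Module.supportDim (Localization.AtPrime q) (LocalizedModule q.primeCompl S) =
      Module.supportDim (Localization.AtPrime (q.comap (algebraMap R S)))
        (LocalizedModule (q.comap (algebraMap R S)).primeCompl R) := by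
  rw [← Groth.Agent.Alg6.supportDim_localized_eq q (Localization.AtPrime q)
      (Algebra.linearMap S (Localization.AtPrime q)),
    ← Groth.Agent.Alg6.supportDim_localized_eq _ (Localization.AtPrime (q.comap (algebraMap R S)))
      (Algebra.linearMap R (Localization.AtPrime (q.comap (algebraMap R S)))),
    Module.supportDim_self_eq_ringKrullDim, Module.supportDim_self_eq_ringKrullDim]
  exact (h.localization_invariants q).1

theorem IsHenzLike.hasSk_iff (k : ℕ) : LocCoh.HasSk k S S ↔ LocCoh.HasSk k R R := by
  have := h.faithfullyFlat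
  constructor
  · intro hS p hp
    obtain ⟨q, hq⟩ := PrimeSpectrum.comap_surjective_of_faithfullyFlat (B := S) ⟨p, hp⟩
    obtain rfl : q.asIdeal.comap (algebraMap R S) = p := congr(($hq).asIdeal)
    rw [← h.depth_localizedModule_eq q.asIdeal, ← h.supportDim_localizedModule_eq q.asIdeal]
    exact hS q.asIdeal
  · intro hR q hq
    rw [h.depth_localizedModule_eq q, h.supportDim_localizedModule_eq q]
    exact hR _

theorem IsHenzLike.hasRk_iff (k : ℕ) : LocCoh.HasRk k S ↔ LocCoh.HasRk k R := by
  have := h.faithfullyFlat
  have ht : ∀ (q : Ideal S) [q.IsPrime], q.height = (q.comap (algebraMap R S)).height := fun q _ =>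
    WithBot.coe_injective (by
      rw [← IsLocalization.AtPrime.ringKrullDim_eq_height q (Localization.AtPrime q),
        ← IsLocalization.AtPrime.ringKrullDim_eq_height _
          (Localization.AtPrime (q.comap (algebraMap R S)))]
      exact (h.localization_invariants q).1)
  constructor
  · intro hS p hp hpk
    obtain ⟨q, hq⟩ := PrimeSpectrum.comap_surjective_of_faithfullyFlat (B := S) ⟨p, hp⟩
    obtain rfl : q.asIdeal.comap (algebraMap R S) = p := congr(($hq).asIdeal)
    exact (h.localization_invariants q.asIdeal).2.2.mpr (hS q.asIdeal (by rw [ht]; exact hpk))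
  · intro hR q hq hqk
    exact (h.localization_invariants q).2.2.mp (hR _ (by rw [← ht]; exact hqk))

theorem IsHenzLike.mem_associatedPrimes_iff (q : Ideal S) [q.IsPrime] :
    q ∈ associatedPrimes S S ↔ q.comap (algebraMap R S) ∈ associatedPrimes R R := by
  have := h.isNoetherianRing_iff.mp inferInstance
  rw [← Groth.Agent.Alg6.ass_localized_iff q, ← Groth.Agent.Alg6.ass_localized_iff (q.comap _)]
  exact not_iff_not.mp (Groth.Agent.Alg6.one_le_depth_iff.symm.trans
    ((h.depth_localizedModule_eq q).symm ▸ Groth.Agent.Alg6.one_le_depth_iff))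

end loc

end Groth.Agent.Hensel
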