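import Groth.Agent.Hensel.EtaleLift
import Mathlib.RingTheory.Unramified.Field
import Mathlib.RingTheory.Unramified.Finite
import Mathlib.RingTheory.Etale.Basic
import Mathlib.FieldTheory.IsSepClosed

/-!
# Points of étale algebras over strictly henselian local rings
-/

noncomputable section

namespace Groth.Agent.Hensel

universe u v w

open IsLocalRing TensorProduct

theorem mem_range_of_formallyUnramified_sepClosed {k : Type u} [Field k] [IsSepClosed k]
    {U : Type v} [CommRing U] [Algebra k U] [Algebra.FormallyUnramified k U]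
    [Algebra.EssFiniteType k U] {l : Type w} [Field l] [Algebra k l] (σ : U →ₐ[k] l) (u : U) :
    ∃ c : k, σ u = algebraMap k l c := by
  have : (RingHom.ker σ).IsPrime := RingHom.ker_isPrime σ
  let K := U ⧸ RingHom.ker σ
  have : Algebra.FormallyUnramified k K :=
    .of_surjective (Ideal.Quotient.mkₐ k (RingHom.ker σ)) Ideal.Quotient.mk_surjective
  have : Algebra.EssFiniteType k K := Algebra.EssFiniteType.comp k U K
  have : Module.Finite k K := Algebra.FormallyUnramified.finite_of_free k K
  have : IsArtinianRing K := IsArtinianRing.of_finite k K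
  let : Field K := (IsArtinianRing.isField_of_isDomain K).toField
  have : Algebra.IsSeparable k K := Algebra.FormallyUnramified.isSeparable k K
  obtain ⟨c, hc⟩ := IsSepClosed.algebraMap_surjective k K (Ideal.Quotient.mk _ u)
  refine ⟨c, ?_⟩
  have h : u - algebraMap k U c ∈ RingHom.ker σ := by
    rw [← Ideal.Quotient.eq, ← hc]; rfl
  rw [RingHom.mem_ker, map_sub, AlgHom.commutes, sub_eq_zero] at h
  exact h

theorem bijective_comp_algebraMap_of_strictlyHenselian (R : Type u) [CommRing R]
    [HenselianLocalRing R] [IsSepClosed (ResidueField R)] (S : Type v) [CommRing S]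
    [HenselianLocalRing S] [Algebra R S] [IsLocalHom (algebraMap R S)]
    (U : Type w) [CommRing U] [Algebra R U] [Algebra.Etale R U] :
    Function.Bijective (fun τ : U →ₐ[R] R => (Algebra.ofId R S).comp τ) := by
  refine ⟨fun τ τ' h => ?_, fun ρ => ?_⟩
  · refine algHom_ext_of_le_jacobson (IsLocalRing.maximalIdeal_le_jacobson ⊥) τ τ' fun s => ?_
    rw [← residue_eq_zero_iff, map_sub, sub_eq_zero]
    refine (ResidueField.map (algebraMap R S)).injective ?_
    rw [ResidueField.map_residue, ResidueField.map_residue]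
    exact congr(residue S ($h s))
  · let : Algebra (ResidueField R) (ResidueField S) := (ResidueField.map (algebraMap R S)).toAlgebra
    have : IsScalarTower R (ResidueField R) (ResidueField S) :=
      .of_algebraMap_eq fun r => (ResidueField.map_residue (algebraMap R S) r).symm
    let σ₀ : U →ₐ[R] ResidueField S := (IsScalarTower.toAlgHom R S (ResidueField S)).comp ρ
    let σ : ResidueField R ⊗[R] U →ₐ[ResidueField R] ResidueField S :=
      Algebra.TensorProduct.lift (Algebra.ofId _ _) σ₀ fun _ _ => .all _ _
    choose c hc using fun u : U => mem_range_of_formallyUnramified_sepClosed σ (1 ⊗ₜ u)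
    have hinj := (algebraMap (ResidueField R) (ResidueField S)).injective
    have hc' : ∀ u, σ₀ u = algebraMap _ _ (c u) := fun u => by simpa [σ] using hc u
    let τ₀ : U →ₐ[R] R ⧸ maximalIdeal R :=
      { toFun := c
        map_one' := hinj (((hc' 1).symm.trans (map_one σ₀)).trans (map_one (algebraMap _ (ResidueField S))).symm)
        map_mul' := fun x y => hinj (by
          rw [← hc', map_mul σ₀, hc', hc']; exact (map_mul _ _ _).symm)
        map_zero' := hinj (((hc' 0).symm.trans (map_zero σ₀)).trans (map_zero (algebraMap _ (ResidueField S))).symm)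
        map_add' := fun x y => hinj (by
          rw [← hc', map_add σ₀, hc', hc']; exact (map_add _ _ _).symm)
        commutes' := fun r => hinj (by
          show algebraMap _ _ (c (algebraMap R U r)) = algebraMap _ _ (residue R r)
          rw [← hc', AlgHom.commutes]
          exact IsScalarTower.algebraMap_apply R (ResidueField R) (ResidueField S) r) }
    obtain ⟨τ, hτ, -⟩ := existsUnique_etale_lift_of_algebra (maximalIdeal R) τ₀
    refine ⟨τ, algHom_ext_of_le_jacobson (IsLocalRing.maximalIdeal_le_jacobson ⊥) _ ρ fun s => ?_⟩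
    rw [← residue_eq_zero_iff, map_sub, sub_eq_zero]
    show residue S (algebraMap R S (τ s)) = σ₀ s
    rw [hc', show c s = residue R (τ s) from congr($hτ.symm s)]
    exact (ResidueField.map_residue (algebraMap R S) (τ s)).symm

theorem bijOn_solutions (R : Type u) [CommRing R]
    [HenselianLocalRing R] [IsSepClosed (ResidueField R)] (S : Type u) [CommRing S]
    [HenselianLocalRing S] (φ : R →+* S) [IsLocalHom φ] (n : ℕ)
    (P : Fin n → MvPolynomial (Fin n) R)
    [Algebra.Etale R (MvPolynomial (Fin n) R ⧸ Ideal.span (Set.range P))] :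
    Set.BijOn (fun r : Fin n → R => φ ∘ r)
      {r : Fin n → R | ∀ i, MvPolynomial.eval r (P i) = 0}
      {s : Fin n → S | ∀ i, MvPolynomial.eval s (MvPolynomial.map φ (P i)) = 0} := by
  let := φ.toAlgebra
  have : IsLocalHom (algebraMap R S) := ‹IsLocalHom φ›
  have hev : ∀ (s : Fin n → S) p, MvPolynomial.eval s (MvPolynomial.map φ p) =
      MvPolynomial.aeval (R := R) s p := fun s p => by
    rw [MvPolynomial.eval_map]; rfl
  have hb := bijective_comp_algebraMap_of_strictlyHenselian R S
    (MvPolynomial (Fin n) R ⧸ Ideal.span (Set.range P))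
  let x : Fin n → MvPolynomial (Fin n) R ⧸ Ideal.span (Set.range P) := fun i =>
    Ideal.Quotient.mk _ (MvPolynomial.X i)
  let ofPt : ∀ (T : Type u) [CommRing T] [Algebra R T] (r : Fin n → T),
      (∀ i, MvPolynomial.aeval (R := R) r (P i) = 0) →
        (MvPolynomial (Fin n) R ⧸ Ideal.span (Set.range P) →ₐ[R] T) := fun T _ _ r hr =>
    Ideal.Quotient.liftₐ _ (MvPolynomial.aeval r) fun p hp => by
      refine (Ideal.span_le.mpr ?_ : _ ≤ RingHom.ker (MvPolynomial.aeval (R := R) r)) hp
      rintro _ ⟨k, rfl⟩
      exact hr k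
  have hx : ∀ (T : Type u) [CommRing T] [Algebra R T] (r : Fin n → T)
      (hr : ∀ i, MvPolynomial.aeval (R := R) r (P i) = 0) i, ofPt T r hr (x i) = r i :=
    fun T _ _ r hr i => MvPolynomial.aeval_X r i
  have hext : ∀ (T : Type u) [CommRing T] [Algebra R T]
      (f g : MvPolynomial (Fin n) R ⧸ Ideal.span (Set.range P) →ₐ[R] T),
      (∀ i, f (x i) = g (x i)) → f = g := fun T _ _ f g h =>
    Ideal.Quotient.algHom_ext R (MvPolynomial.algHom_ext h)
  have hpt : ∀ (T : Type u) [CommRing T] [Algebra R T]
      (f : MvPolynomial (Fin n) R ⧸ Ideal.span (Set.range P) →ₐ[R] T) i,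
      MvPolynomial.aeval (R := R) (fun j => f (x j)) (P i) = 0 := fun T _ _ f i => by
    rw [show MvPolynomial.aeval (R := R) (fun j => f (x j)) =
      f.comp (Ideal.Quotient.mkₐ R _) from MvPolynomial.algHom_ext fun j => by
        rw [MvPolynomial.aeval_X]; rfl]
    show f (Ideal.Quotient.mk _ (P i)) = 0
    rw [Ideal.Quotient.eq_zero_iff_mem.mpr (Ideal.subset_span (Set.mem_range_self i)), map_zero]
  refine ⟨fun r hr i => ?_, fun r hr r' hr' h => ?_, fun s hs => ?_⟩
  · show MvPolynomial.eval (φ ∘ r) (MvPolynomial.map φ (P i)) = 0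
    rw [MvPolynomial.map_eval φ r (P i) |>.symm, hr i, map_zero]
  · have hr₁ : ∀ i, MvPolynomial.aeval (R := R) r (P i) = 0 := fun i => by
      rw [MvPolynomial.aeval_eq_eval]; exact hr i
    have hr₂ : ∀ i, MvPolynomial.aeval (R := R) r' (P i) = 0 := fun i => by
      rw [MvPolynomial.aeval_eq_eval]; exact hr' i
    have := hb.1 (a₁ := ofPt R r hr₁) (a₂ := ofPt R r' hr₂) (hext S _ _ fun i => by
      show φ (ofPt R r hr₁ (x i)) = φ (ofPt R r' hr₂ (x i))
      rw [hx R r hr₁, hx R r' hr₂]; exact congrFun h i)
    funext i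
    rw [← hx R r hr₁, ← hx R r' hr₂, this]
  · obtain ⟨τ, hτ⟩ := hb.2 (ofPt S s fun i => (hev s _).symm.trans (hs i))
    refine ⟨fun i => τ (x i), fun i => ?_, funext fun i => ?_⟩
    · rw [← MvPolynomial.aeval_eq_eval]; exact hpt R τ i
    · exact (congr($hτ (x i))).trans (hx S s (fun i => (hev s _).symm.trans (hs i)) i)

end Groth.Agent.Hensel
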