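import Mathlib.RingTheory.ZariskisMainTheorem
import Mathlib.RingTheory.Etale.Basic
import Mathlib.RingTheory.Spectrum.Prime.Topology

/-!
# Shrinking to a principal neighbourhood of a zero locus
-/

noncomputable section

namespace Groth.Agent.Hensel

universe u

open PrimeSpectrum

variable {R : Type u} [CommRing R]

theorem exists_away_zeroLocus (J : Ideal R) (U : Set (PrimeSpectrum R)) (hU : IsOpen U)
    (h : zeroLocus (J : Set R) ⊆ U) :
    ∃ j : R, (∀ p : PrimeSpectrum R, j ∉ p.asIdeal → p ∈ U) ∧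
      Function.Bijective (Ideal.quotientMap (J.map (algebraMap R (Localization.Away j)))
        (algebraMap R (Localization.Away j)) Ideal.le_comap_map) := by
  obtain ⟨s, hs⟩ := (isClosed_iff_zeroLocus Uᶜ).mp hU.isClosed_compl
  have htop : Ideal.span s ⊔ J = ⊤ := by
    by_contra hne
    obtain ⟨m, hm, hle⟩ := Ideal.exists_le_maximal _ hne
    have h1 : (⟨m, hm.isPrime⟩ : PrimeSpectrum R) ∈ U :=
      h ((mem_zeroLocus _ _).mpr (le_trans le_sup_right hle : J ≤ m))
    have h2 : (⟨m, hm.isPrime⟩ : PrimeSpectrum R) ∈ Uᶜ := by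
      rw [hs]
      exact (mem_zeroLocus _ _).mpr fun x hx => hle (Ideal.mem_sup_left (Ideal.subset_span hx))
    exact h2 h1
  obtain ⟨j, hj, b, hb, hjb⟩ := Submodule.mem_sup.mp (htop ▸ Submodule.mem_top : (1 : R) ∈ Ideal.span s ⊔ J)
  have hj1 : Ideal.Quotient.mk J j = 1 := by
    rw [← map_one (Ideal.Quotient.mk J), Ideal.Quotient.eq, show j - 1 = -b by rw [← hjb]; ring]
    exact neg_mem hb
  refine ⟨j, fun p hp => ?_, ?_⟩
  · by_contra hpU
    exact hp ((Ideal.span_le.mpr ((mem_zeroLocus _ _).mp (hs ▸ hpU : p ∈ zeroLocus s))) hj)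
  let L := Localization.Away j
  let g : L →+* R ⧸ J := IsLocalization.Away.lift j (g := Ideal.Quotient.mk J) (by rw [hj1]; exact isUnit_one)
  have hg : ∀ r, g (algebraMap R L r) = Ideal.Quotient.mk J r := IsLocalization.Away.lift_eq j _
  have hg0 : J.map (algebraMap R L) ≤ RingHom.ker g := Ideal.map_le_iff_le_comap.mpr fun r hr => by
    show g (algebraMap R L r) = 0
    rw [hg, Ideal.Quotient.eq_zero_iff_mem.mpr hr]
  refine ⟨(injective_iff_map_eq_zero _).mpr fun z hz => ?_, fun z => ?_⟩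
  · obtain ⟨r, rfl⟩ := Ideal.Quotient.mk_surjective z
    rw [Ideal.quotientMap_mk, Ideal.Quotient.eq_zero_iff_mem] at hz
    rw [← hg]; exact hg0 hz
  · obtain ⟨z, rfl⟩ := Ideal.Quotient.mk_surjective z
    obtain ⟨r, hr⟩ := Ideal.Quotient.mk_surjective (g z)
    refine ⟨Ideal.Quotient.mk J r, ?_⟩
    rw [Ideal.quotientMap_mk, eq_comm, Ideal.Quotient.eq]
    obtain ⟨⟨y, s⟩, hy⟩ := IsLocalization.surj (Submonoid.powers j) z
    have hs : Ideal.Quotient.mk J (s : R) = 1 := by
      obtain ⟨n, hn⟩ := s.2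
      rw [← hn, map_pow, hj1, one_pow]
    have h1 : Ideal.Quotient.mk J (y - r * s) = 0 := by
      rw [map_sub, map_mul, hs, mul_one, ← hg, ← hy, map_mul, hg, hs, mul_one, hr, sub_self]
    have h2 := Ideal.mem_map_of_mem (algebraMap R L) (Ideal.Quotient.eq_zero_iff_mem.mp h1)
    rw [map_sub, map_mul, ← hy, ← sub_mul,
      Ideal.mul_unit_mem_iff_mem _ (IsLocalization.map_units L s)] at h2
    exact h2

theorem isOpen_setOf_quasiFiniteAt (A : Type u) [CommRing A] [Algebra A R] [Algebra.FiniteType A R] :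
    IsOpen {p : PrimeSpectrum R | Algebra.QuasiFiniteAt A p.asIdeal} := by
  refine isOpen_iff_forall_mem_open.mpr fun p hp => ?_
  have : Algebra.QuasiFiniteAt A p.asIdeal := hp
  obtain ⟨r, hr, hb⟩ := Algebra.ZariskisMainProperty.of_finiteType (R := A) p.asIdeal
  exact ⟨basicOpen r.1, fun q hq => Algebra.ZariskisMainProperty.quasiFiniteAt _ ⟨r, hq, hb⟩,
    isOpen_basicOpen, hr⟩

theorem quasiFinite_of_forall_quasiFiniteAt (A : Type u) [CommRing A] [Algebra A R] [Algebra.FiniteType A R]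
    (h : ∀ p : PrimeSpectrum R, Algebra.QuasiFiniteAt A p.asIdeal) : Algebra.QuasiFinite A R := by
  refine Algebra.QuasiFinite.iff_finite_comap_preimage_singleton.mpr fun x => ?_
  let F := PrimeSpectrum.comap (algebraMap A R) ⁻¹' {x}
  have : CompactSpace F := (PrimeSpectrum.preimageHomeomorphFiber A R x).symm.compactSpace
  have : DiscreteTopology F := discreteTopology_iff_isOpen_singleton.mpr fun q => by
    obtain ⟨q, hq⟩ := q
    obtain rfl : PrimeSpectrum.comap (algebraMap A R) q = x := hq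
    exact Algebra.quasiFiniteAt_iff_isOpen_singleton_fiber q |>.mp (h q)
  exact Set.finite_coe_iff.mp finite_of_compact_of_discrete

end Groth.Agent.Hensel
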