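import Groth.Agent.Hensel.Hfp
import Groth.Agent.Hensel.ZeroLocus
import Groth.Agent.FlatModel.Open
import Mathlib.RingTheory.Smooth.Fiber
import Mathlib.RingTheory.Etale.Locus

/-!
# Henselian finitely presented algebras and their truncations
-/

noncomputable section

namespace Groth.Agent.Hensel

universe u

open TensorProduct IsLocalRing

variable {A : Type u} [CommRing A] (I : Ideal A) {R : Type u} [CommRing R] [Algebra A R]
  {B : Type u} [CommRing B] [Algebra R B] [Algebra A B] [IsScalarTower A R B]
  (hB : Hens2.IsPairHenselization R (I.map (algebraMap A R)) B)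

include hB

theorem exists_algEquiv_quotient_pow_tower (r : ℕ) :
    ∃ e : (R ⧸ (I ^ r).map (algebraMap A R)) ≃ₐ[A ⧸ I ^ r] (B ⧸ (I ^ r).map (algebraMap A B)),
      ∀ x, e (Ideal.Quotient.mk _ x) = Ideal.Quotient.mk _ (algebraMap R B x) := by
  have hmap : ((I.map (algebraMap A R)) ^ r).map (algebraMap R B) = (I ^ r).map (algebraMap A B) := by
    rw [← Ideal.map_pow, Ideal.map_map, ← IsScalarTower.algebraMap_eq]
  have hb := bijective_quotientMap_pow_of_isPairHenselization (I.map (algebraMap A R)) hB r
  let e : (R ⧸ (I ^ r).map (algebraMap A R)) ≃+* (B ⧸ (I ^ r).map (algebraMap A B)) :=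
    (Ideal.quotEquivOfEq (Ideal.map_pow (algebraMap A R) I r)).trans ((RingEquiv.ofBijective _ hb).trans (Ideal.quotEquivOfEq hmap))
  have he : ∀ x, e (Ideal.Quotient.mk _ x) = Ideal.Quotient.mk _ (algebraMap R B x) := fun x => rfl
  refine ⟨AlgEquiv.ofRingEquiv (f := e) fun a => ?_, he⟩
  obtain ⟨a, rfl⟩ := Ideal.Quotient.mk_surjective a
  show e (Ideal.Quotient.mk _ (algebraMap A R a)) = Ideal.Quotient.mk _ (algebraMap A B a)
  rw [he, ← IsScalarTower.algebraMap_apply]

theorem exists_prime_over_zeroLocus (p : Ideal R) [p.IsPrime] (hp : I.map (algebraMap A R) ≤ p) :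
    ∃ q : Ideal B, q.IsPrime ∧ q.comap (algebraMap R B) = p := by
  obtain ⟨e, he⟩ := exists_algEquiv_quotient_pow_tower I hB 1
  have hp1 : (I ^ 1).map (algebraMap A R) ≤ p := by rwa [pow_one]
  let P : Ideal (R ⧸ (I ^ 1).map (algebraMap A R)) := p.map (Ideal.Quotient.mk _)
  have : P.IsPrime := Ideal.map_isPrime_of_surjective Ideal.Quotient.mk_surjective (by rwa [Ideal.mk_ker])
  let Q : Ideal (B ⧸ (I ^ 1).map (algebraMap A B)) := P.comap e.symm.toAlgHom.toRingHom
  refine ⟨Q.comap (Ideal.Quotient.mk _), inferInstance, ?_⟩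
  ext x
  show e.symm (Ideal.Quotient.mk _ (algebraMap R B x)) ∈ P ↔ x ∈ p
  rw [← he, AlgEquiv.symm_apply_apply]
  conv_rhs => rw [← Ideal.comap_map_mk hp1]
  rfl

theorem flat_localization_of_flat [Module.Flat A B] (p : Ideal R) [p.IsPrime] (hp : I.map (algebraMap A R) ≤ p) :
    Module.Flat A (Localization.AtPrime p) := by
  obtain ⟨q, _, hq⟩ := exists_prime_over_zeroLocus I hB p hp
  have : q.LiesOver p := ⟨hq.symm⟩
  let := Localization.AtPrime.algebraOfLiesOver p q
  have : Module.Flat R B := flat_of_isPairHenselization _ hB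
  have : Module.Flat R (Localization.AtPrime q) := Module.Flat.trans R B _
  have : Module.Flat (Localization.AtPrime p) (Localization.AtPrime q) :=
    (Module.flat_iff_of_isLocalization (Localization.AtPrime p) p.primeCompl (Localization.AtPrime q)).mpr this
  have : Module.FaithfullyFlat (Localization.AtPrime p) (Localization.AtPrime q) :=
    Module.FaithfullyFlat.of_flat_of_isLocalHom
  have : IsScalarTower A (Localization.AtPrime p) (Localization.AtPrime q) := .to₁₃₄ A R _ _
  have : Module.Flat A (Localization.AtPrime q) := Module.Flat.trans A B _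
  refine Module.Flat.iff_lTensor_preserves_injective_linearMap.mpr fun N P _ _ _ _ f hf => ?_
  have h1 := Module.Flat.lTensor_preserves_injective_linearMap (M := Localization.AtPrime q) f hf
  let Rp := Localization.AtPrime p
  let Bq := Localization.AtPrime q
  have h2 : Function.Injective ((AlgebraTensorModule.lTensor Rp Rp f).lTensor Bq) := by
    have e : ((AlgebraTensorModule.lTensor Rp Rp f).lTensor Bq) =
        (AlgebraTensorModule.cancelBaseChange A Rp Rp Bq P).symm.toLinearMap ∘ₗ
          AlgebraTensorModule.lTensor Rp Bq f ∘ₗ (AlgebraTensorModule.cancelBaseChange A Rp Rp Bq N).toLinearMap := by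
      refine TensorProduct.ext' fun b y => ?_
      induction y using TensorProduct.induction_on with
      | zero => simp
      | add x y hx hy => rw [TensorProduct.tmul_add, map_add, map_add, hx, hy]
      | tmul c n =>
        simp only [LinearMap.lTensor_tmul, AlgebraTensorModule.lTensor_tmul, LinearMap.coe_comp, Function.comp_apply,
          LinearEquiv.coe_coe, AlgebraTensorModule.cancelBaseChange_tmul, AlgebraTensorModule.cancelBaseChange_symm_tmul]
        rw [TensorProduct.smul_tmul, TensorProduct.smul_tmul', smul_eq_mul, mul_one]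
    rw [e, LinearMap.coe_comp, LinearMap.coe_comp]
    exact (LinearEquiv.injective _).comp (h1.comp (LinearEquiv.injective _))
  exact (Module.FaithfullyFlat.lTensor_injective_iff_injective Rp Bq _).mp h2

variable [Algebra.FinitePresentation A R]

/-- The henselization is that of any principal neighbourhood of the zero locus. -/
theorem exists_away_model (j : R) (hbij : Function.Bijective
      (Ideal.quotientMap ((I.map (algebraMap A R)).map (algebraMap R (Localization.Away j)))
        (algebraMap R (Localization.Away j)) Ideal.le_comap_map)) :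
    ∃ (_ : Algebra (Localization.Away j) B), IsScalarTower A (Localization.Away j) B ∧
      Hens2.IsPairHenselization (Localization.Away j) (I.map (algebraMap A (Localization.Away j))) B := by
  let S := Localization.Away j
  have hjB : IsUnit (algebraMap R B j) := by
    obtain ⟨z, hz⟩ := Ideal.Quotient.mk_surjective ((RingEquiv.ofBijective _ hbij).symm
      (Ideal.Quotient.mk _ (IsLocalization.Away.invSelf j)))
    have h1 : algebraMap R S (j * z - 1) ∈ (I.map (algebraMap A R)).map (algebraMap R S) := by
      rw [← Ideal.Quotient.eq_zero_iff_mem, map_sub, map_mul, map_one, map_sub, map_mul, map_one, sub_eq_zero,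
        show Ideal.Quotient.mk _ (algebraMap R S z) =
          Ideal.Quotient.mk _ (IsLocalization.Away.invSelf (S := S) j) from
          (congrArg (RingEquiv.ofBijective _ hbij) hz).trans ((RingEquiv.ofBijective _ hbij).apply_symm_apply _),
        ← map_mul, IsLocalization.Away.mul_invSelf, map_one]
    have h2 : j * z - 1 ∈ I.map (algebraMap A R) := by
      rw [← Ideal.Quotient.eq_zero_iff_mem]
      refine hbij.1 ?_
      rw [map_zero, Ideal.quotientMap_mk, Ideal.Quotient.eq_zero_iff_mem]
      exact h1
    have := Ideal.mem_jacobson_bot.mp (hB.1.jac (Ideal.mem_map_of_mem (algebraMap R B) h2)) 1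
    simp only [mul_one, map_sub, map_mul, map_one, sub_add_cancel] at this
    exact isUnit_of_mul_isUnit_left this
  let g : S →+* B := IsLocalization.Away.lift j hjB
  let : Algebra S B := g.toAlgebra
  have : IsScalarTower R S B := .of_algebraMap_eq fun x => (IsLocalization.Away.lift_eq j hjB x).symm
  have : IsScalarTower A S B := .to₁₃₄ A R S B
  refine ⟨inferInstance, inferInstance, ?_⟩
  rw [IsScalarTower.algebraMap_eq A R S, ← Ideal.map_map]
  exact isPairHenselization_of_isPairNbhd _ hB S hbij

/-- A flat henselian finitely presented algebra has a flat finitely presented model. -/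
theorem exists_flat_model [Module.Flat A B] :
    ∃ (S : Type u) (_ : CommRing S) (_ : Algebra A S) (_ : Algebra S B) (_ : IsScalarTower A S B),
      Algebra.FinitePresentation A S ∧ Module.Flat A S ∧
      Hens2.IsPairHenselization S (I.map (algebraMap A S)) B := by
  let e : ∀ q : PrimeSpectrum R, LocalizedModule q.asIdeal.primeCompl R ≃ₗ[A] Localization.AtPrime q.asIdeal :=
    fun q => (IsLocalizedModule.iso q.asIdeal.primeCompl
      (Algebra.linearMap R (Localization.AtPrime q.asIdeal))).restrictScalars A
  obtain ⟨j, hj, hbij⟩ := exists_away_zeroLocus (I.map (algebraMap A R)) _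
    (FlatModel.isOpen_flatLocus (R := A) R) fun q hq => by
      have := flat_localization_of_flat I hB q.asIdeal ((PrimeSpectrum.mem_zeroLocus _ _).mp hq)
      exact Module.Flat.of_linearEquiv (e q)
  let S := Localization.Away j
  obtain ⟨_, _, hS⟩ := exists_away_model I hB j hbij
  have := IsLocalization.Away.finitePresentation (S := S) j
  refine ⟨S, inferInstance, inferInstance, inferInstance, inferInstance,
    Algebra.FinitePresentation.trans A R _, ?_, ?_⟩
  · refine Module.flat_of_isLocalized_maximal S S
      (fun P _ => Localization.AtPrime P) (fun P _ => Algebra.linearMap _ _) fun P _ => ?_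
    let p := PrimeSpectrum.comap (algebraMap R S) ⟨P, inferInstance⟩
    have hp : Module.Flat A (LocalizedModule p.asIdeal.primeCompl R) := hj p fun hq =>
      (inferInstance : P.IsPrime).ne_top
        (Ideal.eq_top_of_isUnit_mem _ hq (IsLocalization.Away.algebraMap_isUnit j))
    have : Module.Flat A (Localization.AtPrime p.asIdeal) := Module.Flat.of_linearEquiv (e p).symm
    have : IsLocalization.AtPrime (Localization.AtPrime P) p.asIdeal :=
      IsLocalization.isLocalization_isLocalization_atPrime_isLocalization (.powers j) _ P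
    exact Module.Flat.of_linearEquiv
      ((IsLocalization.algEquiv p.asIdeal.primeCompl (Localization.AtPrime P) (Localization.AtPrime p.asIdeal)).restrictScalars A).toLinearEquiv
  · exact hS

omit hB

end Groth.Agent.Hensel

namespace Groth.Agent.Hensel

universe v

open TensorProduct

section zeroLocus

variable {A : Type v} [CommRing A] (I : Ideal A) {R : Type v} [CommRing R] [Algebra A R]
  [Algebra.FinitePresentation A R]

theorem isSmoothAt_of_smooth_quotient [Module.Flat A R]
    [Algebra.FormallySmooth (A ⧸ I) (R ⧸ I.map (algebraMap A R))]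
    (q : Ideal R) [q.IsPrime] (hq : I.map (algebraMap A R) ≤ q) : Algebra.IsSmoothAt A q := by
  let p := q.under A
  have hIp : I ≤ p := Ideal.map_le_iff_le_comap.mp hq
  let κ := p.ResidueField
  let φ : (A ⧸ I) →ₐ[A] κ := Ideal.Quotient.liftₐ I (Algebra.ofId A κ) fun a ha =>
    Ideal.algebraMap_residueField_eq_zero.mpr (hIp ha)
  let : Algebra (A ⧸ I) κ := φ.toRingHom.toAlgebra
  have : IsScalarTower A (A ⧸ I) κ := .of_algebraMap_eq fun a => (φ.commutes a).symm
  let Rb := R ⧸ I.map (algebraMap A R)
  let v : p.Fiber R →ₐ[κ] κ ⊗[A ⧸ I] Rb :=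
    Algebra.TensorProduct.lift (Algebra.ofId κ _)
      ((Algebra.TensorProduct.includeRight.restrictScalars A).comp (Ideal.Quotient.mkₐ A _)) fun _ _ => .all _ _
  have hI0 : ∀ x ∈ I.map (algebraMap A R), (1 : κ) ⊗ₜ[A] x = 0 := by
    intro x hx
    have := Ideal.mem_map_of_mem (Algebra.TensorProduct.includeRight (R := A) (A := κ)).toRingHom hx
    rw [Ideal.map_map, show (Algebra.TensorProduct.includeRight (R := A) (A := κ) (B := R)).toRingHom.comp
      (algebraMap A R) = (algebraMap κ (κ ⊗[A] R)).comp (algebraMap A κ) from RingHom.ext fun a => by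
        show Algebra.TensorProduct.includeRight (R := A) (A := κ) (algebraMap A R a) = _
        rw [AlgHom.commutes]; rfl, ← Ideal.map_map,
      show I.map (algebraMap A κ) = ⊥ from le_bot_iff.mp (Ideal.map_le_iff_le_comap.mpr fun a ha =>
        Ideal.algebraMap_residueField_eq_zero.mpr (hIp ha)), Ideal.map_bot] at this
    exact (Submodule.mem_bot _).mp this
  let w₀ : Rb →ₐ[A ⧸ I] κ ⊗[A] R :=
    AlgHom.mk (Ideal.Quotient.lift _ (Algebra.TensorProduct.includeRight (R := A) (A := κ)).toRingHom hI0) fun a => by
      obtain ⟨a, rfl⟩ := Ideal.Quotient.mk_surjective a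
      show Algebra.TensorProduct.includeRight (R := A) (A := κ) (algebraMap A R a) = _
      rw [AlgHom.commutes]
      rfl
  let w : κ ⊗[A ⧸ I] Rb →ₐ[κ] p.Fiber R :=
    Algebra.TensorProduct.lift (Algebra.ofId κ _) w₀ fun _ _ => .all _ _
  let e : κ ⊗[A ⧸ I] Rb ≃ₐ[κ] p.Fiber R := AlgEquiv.ofAlgHom w v (by
      ext x
      simp [v, w, w₀, ← Algebra.TensorProduct.one_def]
      rfl) (by
      ext x
      obtain ⟨x, rfl⟩ := Ideal.Quotient.mk_surjective x
      simp [v, w, w₀, ← Algebra.TensorProduct.one_def]
      exact (Algebra.TensorProduct.lift_tmul _ _ _ _ _).trans (by simp [← Algebra.TensorProduct.one_def]; rfl))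
  have : Algebra.FormallySmooth κ (p.Fiber R) := Algebra.FormallySmooth.of_equiv e
  exact Algebra.IsSmoothAt.of_formallySmooth_fiber p q

theorem isUnramifiedAt_of_unramified_quotient
    [Algebra.FormallyUnramified (A ⧸ I) (R ⧸ I.map (algebraMap A R))]
    (q : Ideal R) [q.IsPrime] (hq : I.map (algebraMap A R) ≤ q) : Algebra.IsUnramifiedAt A q := by
  let J := I.map (algebraMap A R)
  have : Algebra.FormallyUnramified A (R ⧸ J) := Algebra.FormallyUnramified.comp A (A ⧸ I) _
  have hDJ : ∀ x ∈ J, (1 : R ⧸ J) ⊗ₜ[R] (KaehlerDifferential.D A R x) = 0 := by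
    intro x hx
    induction hx using Submodule.span_induction with
    | mem y hy =>
      obtain ⟨a, -, rfl⟩ := hy
      simp
    | zero => simp
    | add y z _ _ hy hz => rw [map_add, TensorProduct.tmul_add, hy, hz, add_zero]
    | smul c y hyJ hy =>
      rw [smul_eq_mul, Derivation.leibniz, TensorProduct.tmul_add, TensorProduct.tmul_smul, hy, smul_zero, zero_add,
        ← TensorProduct.smul_tmul, Algebra.smul_def, mul_one, Ideal.Quotient.algebraMap_eq,
        show Ideal.Quotient.mk J y = 0 from Ideal.Quotient.eq_zero_iff_mem.mpr hyJ, TensorProduct.zero_tmul]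
  have hsub : Subsingleton ((R ⧸ J) ⊗[R] KaehlerDifferential A R) := by
    refine ⟨fun z z' => ?_⟩
    have key : ∀ z, z = (0 : (R ⧸ J) ⊗[R] KaehlerDifferential A R) := fun z => by
      obtain ⟨c, rfl⟩ := (KaehlerDifferential.exact_kerCotangentToTensor_mapBaseChange A R (R ⧸ J)
        Ideal.Quotient.mk_surjective z).mp (Subsingleton.elim _ _)
      obtain ⟨c, rfl⟩ := Ideal.toCotangent_surjective _ c
      rw [KaehlerDifferential.kerCotangentToTensor_toCotangent]
      refine hDJ _ ?_
      exact Ideal.Quotient.eq_zero_iff_mem.mp c.2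
    rw [key z, key z']
  have htop : (⊤ : Submodule R (KaehlerDifferential A R)) ≤ J • ⊤ := fun x _ => by
    rw [← Submodule.Quotient.mk_eq_zero]
    exact ((TensorProduct.quotTensorEquivQuotSMul (KaehlerDifferential A R) J).symm.toEquiv.subsingleton).elim _ _
  obtain ⟨r, hr, hr0⟩ :=
    Submodule.exists_sub_one_mem_and_smul_eq_zero_of_fg_of_le_smul J _ (Module.Finite.fg_top) htop
  have hmem : (⟨q, inferInstance⟩ : PrimeSpectrum R) ∈ Algebra.unramifiedLocus A R := by
    rw [Algebra.unramifiedLocus_eq_compl_support, Set.mem_compl_iff, Module.notMem_support_iff']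
    exact fun m => ⟨r, fun h => (inferInstance : q.IsPrime).ne_top ((Ideal.eq_top_iff_one q).mpr (by
      rw [show (1 : R) = r - (r - 1) by ring]; exact sub_mem h (hq hr))), hr0 m trivial⟩
  exact hmem

theorem isEtaleAt_of_etale_quotient [Module.Flat A R]
    [Algebra.FormallyEtale (A ⧸ I) (R ⧸ I.map (algebraMap A R))]
    (q : Ideal R) [q.IsPrime] (hq : I.map (algebraMap A R) ≤ q) : Algebra.IsEtaleAt A q :=
  Algebra.FormallyEtale.iff_formallyUnramified_and_formallySmooth.mpr
    ⟨isUnramifiedAt_of_unramified_quotient I q hq, isSmoothAt_of_smooth_quotient I q hq⟩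

end zeroLocus

end Groth.Agent.Hensel

namespace Groth.Agent.Hensel

universe w

open TensorProduct

theorem finitePresentation_truncation {A : Type w} [CommRing A] (I : Ideal A) {R : Type w} [CommRing R] [Algebra A R]
    [Algebra.FinitePresentation A R] :
    Algebra.FinitePresentation (A ⧸ I) (R ⧸ I.map (algebraMap A R)) := by
  let e₁ : ((A ⧸ I) ⊗[A] R) ≃ₐ[A] (R ⧸ I.map (algebraMap A R)) :=
    ((Algebra.TensorProduct.quotIdealMapEquivTensorQuot R I).restrictScalars A |>.trans
      (Algebra.TensorProduct.comm A R (A ⧸ I))).symm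
  let e₂ : ((A ⧸ I) ⊗[A] R) ≃ₐ[A ⧸ I] (R ⧸ I.map (algebraMap A R)) := AlgEquiv.ofRingEquiv (f := e₁.toRingEquiv)
    fun a => by
      obtain ⟨a, rfl⟩ := Ideal.Quotient.mk_surjective a
      exact e₁.commutes a
  exact Algebra.FinitePresentation.equiv e₂

end Groth.Agent.Hensel
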