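import Groth.Agent.Hensel.Colim
import Groth.Agent.Hensel.HenselizationMisc
import Mathlib.RingTheory.Smooth.Basic

/-!
# Étale neighbourhoods of pairs and maps between henselizations
-/

noncomputable section

namespace Groth.Agent.Hensel

universe u v

open TensorProduct

variable {A : Type u} [CommRing A] (I : Ideal A)

/-- An étale neighbourhood of a pair. -/
def IsPairNbhd (U : Type u) [CommRing U] [Algebra A U] : Prop :=
  Function.Bijective (Ideal.quotientMap (I.map (algebraMap A U)) (algebraMap A U) Ideal.le_comap_map)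

theorem map_mem_ker {U : Type u} [CommRing U] [Algebra A U] (τ : U →ₐ[A] A ⧸ I) {x : U}
    (hx : x ∈ I.map (algebraMap A U)) : τ x = 0 := by
  have h := algHom_mem_map I τ hx
  rwa [Ideal.Quotient.algebraMap_eq, Ideal.map_quotient_self, Ideal.mem_bot] at h

theorem exists_toQuot_of_isPairNbhd {U : Type u} [CommRing U] [Algebra A U]
    (h : IsPairNbhd I U) : ∃ τ : U →ₐ[A] A ⧸ I, ∀ x, τ x = 0 → x ∈ I.map (algebraMap A U) := by
  let q := RingEquiv.ofBijective _ h
  refine ⟨{ q.symm.toRingHom.comp (Ideal.Quotient.mk (I.map (algebraMap A U))) with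
    commutes' := fun a => (q.symm_apply_eq).mpr rfl }, fun x hx => ?_⟩
  exact Ideal.Quotient.eq_zero_iff_mem.mp (q.symm.map_eq_zero_iff.mp hx)

theorem toQuot_unique_of_isPairNbhd {U : Type u} [CommRing U] [Algebra A U] (h : IsPairNbhd I U)
    (τ τ' : U →ₐ[A] A ⧸ I) : τ = τ' := by
  refine AlgHom.ext fun x => ?_
  obtain ⟨a, ha⟩ := h.2 (Ideal.Quotient.mk _ x)
  obtain ⟨a, rfl⟩ := Ideal.Quotient.mk_surjective a
  rw [Ideal.quotientMap_mk, eq_comm, Ideal.Quotient.eq] at ha
  have h1 := map_mem_ker I τ ha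
  have h2 := map_mem_ker I τ' ha
  rw [map_sub, AlgHom.commutes, sub_eq_zero] at h1 h2
  rw [h1, h2]

/-- Every étale algebra with a point over `A ⧸ I` refines to a neighbourhood of the pair. -/
theorem exists_isPairNbhd (U : Type u) [CommRing U] [Algebra A U] [Algebra.Etale A U]
    (τ : U →ₐ[A] A ⧸ I) :
    ∃ (V : Type u) (_ : CommRing V) (_ : Algebra A V) (_ : Algebra.Etale A V) (γ : U →ₐ[A] V)
      (τV : V →ₐ[A] A ⧸ I), IsPairNbhd I V ∧ τV.comp γ = τ := by
  let Bb := U ⧸ I.map (algebraMap A U)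
  let π : U →ₐ[A] Bb := Ideal.Quotient.mkₐ A _
  let ι : A ⧸ I →ₐ[A] Bb :=
    Ideal.Quotient.liftₐ I (Algebra.ofId A Bb) fun a ha =>
      Ideal.Quotient.eq_zero_iff_mem.mpr (Ideal.mem_map_of_mem (algebraMap A U) ha)
  let σb : Bb →ₐ[A] A ⧸ I := Ideal.Quotient.liftₐ _ τ fun a ha => map_mem_ker I τ ha
  let Φ : U ⊗[A] U →ₐ[A] Bb := Algebra.TensorProduct.lift π (ι.comp τ) fun _ _ => .all _ _
  obtain ⟨g, hg⟩ := Ideal.Quotient.mk_surjective (Φ (Algebra.FormallyUnramified.elem A U))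
  have hι : ∀ c, σb (ι c) = c := fun c => congr($(Ideal.Quotient.algHom_ext A
    (f := σb.comp ι) (g := AlgHom.id A (A ⧸ I)) (by ext)) c)
  have hgτ : τ g = 1 := by
    show σb (π g) = 1
    rw [show π g = _ from hg]
    have : σb.comp Φ = τ.comp (Algebra.TensorProduct.lmul' A) := by
      ext t
      · simp [Φ, σb, π]; rfl
      · simpa [Φ, π] using hι (τ t)
    show σb.comp Φ (Algebra.FormallyUnramified.elem A U) = 1
    rw [this, AlgHom.comp_apply, Algebra.FormallyUnramified.lmul_elem, map_one]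
  have hker : ∀ b, τ b = 0 → b * g ∈ I.map (algebraMap A U) := by
    intro b hb
    rw [← Ideal.Quotient.eq_zero_iff_mem, map_mul]
    show π b * π g = 0
    rw [show π g = _ from hg]
    have := congr(Φ $(Algebra.FormallyUnramified.one_tmul_sub_tmul_one_mul_elem (R := A) b))
    simp only [map_mul, map_sub, Φ, Algebra.TensorProduct.lift_tmul, map_one, one_mul, mul_one,
      map_zero, AlgHom.comp_apply, hb] at this
    linear_combination -this
  let V := Localization.Away g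
  have : Algebra.Etale A V :=
    have : Algebra.Etale U V := inferInstance
    Algebra.Etale.comp A U V
  let τV : V →ₐ[A] A ⧸ I := IsLocalization.Away.liftAlgHom (A := A) g (f := τ)
    (by rw [hgτ]; exact isUnit_one)
  have hτV : ∀ b, τV (algebraMap U V b) = τ b := fun b => by simp [τV]
  refine ⟨V, inferInstance, inferInstance, inferInstance, IsScalarTower.toAlgHom A U V, τV, ⟨?_, ?_⟩,
    AlgHom.ext hτV⟩
  · refine Ideal.quotientMap_injective' fun a ha => ?_
    have := map_mem_ker I τV (Ideal.mem_comap.mp ha)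
    rwa [AlgHom.commutes, Ideal.Quotient.algebraMap_eq, Ideal.Quotient.eq_zero_iff_mem] at this
  · intro x
    obtain ⟨x, rfl⟩ := Ideal.Quotient.mk_surjective x
    obtain ⟨a, ha⟩ := Ideal.Quotient.mk_surjective (τV x)
    refine ⟨Ideal.Quotient.mk I a, ?_⟩
    rw [Ideal.quotientMap_mk, eq_comm, Ideal.Quotient.eq]
    have h0 : τV (x - algebraMap A V a) = 0 := by
      rw [map_sub, AlgHom.commutes, Ideal.Quotient.algebraMap_eq, ha, sub_self]
    obtain ⟨⟨b, s⟩, hs⟩ := IsLocalization.surj (Submonoid.powers g) (x - algebraMap A V a)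
    have hb : τ b = 0 := by rw [← hτV, ← hs, map_mul, h0, zero_mul]
    have h1 := Ideal.mem_map_of_mem (algebraMap U V) (hker b hb)
    rw [map_mul, ← hs, Ideal.map_map, ← IsScalarTower.algebraMap_eq,
      Ideal.mul_unit_mem_iff_mem _ (IsLocalization.Away.algebraMap_isUnit g),
      Ideal.mul_unit_mem_iff_mem _ (IsLocalization.map_units V s)] at h1
    exact h1

theorem exists_isPairNbhd_hom₂ {A₁ A₂ : Type u} [CommRing A₁] [Algebra A A₁] [Algebra.Etale A A₁]
    [CommRing A₂] [Algebra A A₂] [Algebra.Etale A A₂] (h₁ : IsPairNbhd I A₁) (h₂ : IsPairNbhd I A₂) :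
    ∃ (V : Type u) (_ : CommRing V) (_ : Algebra A V) (_ : Algebra.Etale A V), IsPairNbhd I V ∧
      Nonempty (A₁ →ₐ[A] V) ∧ Nonempty (A₂ →ₐ[A] V) := by
  obtain ⟨τ₁, -⟩ := exists_toQuot_of_isPairNbhd I h₁
  obtain ⟨τ₂, -⟩ := exists_toQuot_of_isPairNbhd I h₂
  have : Algebra.Etale A (A₁ ⊗[A] A₂) := Algebra.Etale.comp A A₁ (A₁ ⊗[A] A₂)
  obtain ⟨V, _, _, _, γ, -, hV, -⟩ := exists_isPairNbhd I (A₁ ⊗[A] A₂)
    (Algebra.TensorProduct.lift τ₁ τ₂ fun _ _ => .all _ _)
  exact ⟨V, inferInstance, inferInstance, inferInstance, hV,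
    ⟨γ.comp Algebra.TensorProduct.includeLeft⟩, ⟨γ.comp Algebra.TensorProduct.includeRight⟩⟩

theorem exists_isPairNbhd_equalizer {A₁ A₂ : Type u} [CommRing A₁] [Algebra A A₁] [Algebra.Etale A A₁]
    [CommRing A₂] [Algebra A A₂] [Algebra.Etale A A₂] (h₁ : IsPairNbhd I A₁) (h₂ : IsPairNbhd I A₂)
    (f g : A₁ →ₐ[A] A₂) :
    ∃ (V : Type u) (_ : CommRing V) (_ : Algebra A V) (_ : Algebra.Etale A V), IsPairNbhd I V ∧
      ∃ h : A₂ →ₐ[A] V, h.comp f = h.comp g := by
  obtain ⟨τ₂, -⟩ := exists_toQuot_of_isPairNbhd I h₂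
  obtain ⟨N, e₁, he₁⟩ := Nbhd.exists_equiv A₁ (τ₂.comp f)
  obtain ⟨M, e₂, he₂⟩ := Nbhd.exists_equiv A₂ τ₂
  let F : (A₁ →ₐ[A] A₂) → (N.B →ₐ[A] M.B) := fun φ =>
    e₂.symm.toAlgHom.comp (φ.comp e₁.toAlgHom)
  have hF : ∀ φ, M.toK.comp (F φ) = N.toK := fun φ => by
    rw [he₁, he₂, toQuot_unique_of_isPairNbhd I h₁ (τ₂.comp f) (τ₂.comp φ)]
    ext b; simp [F]
  obtain ⟨P, δ, -, hfg⟩ := Nbhd.exists_equalizer (F f) (F g) (hF f) (hF g)
  obtain ⟨V, _, _, _, γ, -, hV, -⟩ := exists_isPairNbhd I P.B P.toK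
  refine ⟨V, inferInstance, inferInstance, inferInstance, hV,
    γ.comp (δ.comp e₂.symm.toAlgHom), AlgHom.ext fun x => ?_⟩
  have := congrArg γ congr($hfg (e₁.symm x))
  simpa [F] using this

section henselization

variable {B : Type u} [CommRing B] [Algebra A B] (hB : Hens2.IsPairHenselization A I B)

include hB

theorem existsUnique_algHom_of_isPairNbhd (U : Type u) [CommRing U] [Algebra A U] [Algebra.Etale A U]
    (hU : IsPairNbhd I U) : Nonempty (Unique (U →ₐ[A] B)) := by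
  have := hB.1
  obtain ⟨τ, -⟩ := exists_toQuot_of_isPairNbhd I hU
  let σ : U →ₐ[A] B ⧸ I.map (algebraMap A B) :=
    (Ideal.Quotient.liftₐ I (Algebra.ofId A (B ⧸ I.map (algebraMap A B))) fun a ha =>
      Ideal.Quotient.eq_zero_iff_mem.mpr (Ideal.mem_map_of_mem (algebraMap A B) ha)).comp τ
  obtain ⟨φ, hφ, huniq⟩ := existsUnique_etale_lift_of_algebra (I.map (algebraMap A B)) (R := A) σ
  refine ⟨⟨⟨φ⟩, fun ψ => huniq ψ (AlgHom.ext fun x => ?_)⟩⟩
  obtain ⟨a, ha⟩ := hU.2 (Ideal.Quotient.mk _ x)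
  obtain ⟨a, rfl⟩ := Ideal.Quotient.mk_surjective a
  rw [Ideal.quotientMap_mk, eq_comm, Ideal.Quotient.eq] at ha
  have h1 := map_mem_ker I τ ha
  rw [map_sub, AlgHom.commutes, sub_eq_zero] at h1
  show Ideal.Quotient.mk _ (ψ x) = _
  simp only [σ, AlgHom.comp_apply, h1, AlgHom.commutes]
  show _ = Ideal.Quotient.mk _ (algebraMap A B a)
  rw [Ideal.Quotient.eq, ← AlgHom.commutes ψ, ← map_sub]
  exact algHom_mem_map _ ψ ha

theorem exists_of_isPairHenselization (x : B) :
    ∃ (U : Type u) (_ : CommRing U) (_ : Algebra A U) (_ : Algebra.Etale A U),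
      IsPairNbhd I U ∧ ∃ (φ : U →ₐ[A] B) (s : U), φ s = x := by
  obtain ⟨e⟩ := exists_algEquiv_pairHenz I hB
  obtain ⟨N, b, hb⟩ := Henz.exists_ofB (e.symm x)
  obtain ⟨V, _, _, _, γ, τV, hV, hτ⟩ := exists_isPairNbhd I N.B N.toK
  refine ⟨V, inferInstance, inferInstance, inferInstance, hV, e.toAlgHom.comp (Henz.ofNbhd V τV),
    γ b, ?_⟩
  have h1 : (Henz.ofNbhd V τV).comp γ = Henz.ofB N := by
    refine algHom_ext_of_isUnit (Henz.proj A (A ⧸ I)).toRingHom
      (fun _ ht => Henz.isUnit_of_proj_eq_one ht) _ _ fun b => ?_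
    simp [← hτ]
  have h2 : Henz.ofNbhd V τV (γ b) = e.symm x := by rw [← hb, ← h1]; rfl
  show e (Henz.ofNbhd V τV (γ b)) = x
  rw [h2, AlgEquiv.apply_symm_apply]

theorem exists_of_map_eq_zero (U : Type u) [CommRing U] [Algebra A U] [Algebra.Etale A U]
    (hU : IsPairNbhd I U) (φ : U →ₐ[A] B) (s : U) (hs : φ s = 0) :
    ∃ (V : Type u) (_ : CommRing V) (_ : Algebra A V) (_ : Algebra.Etale A V),
      IsPairNbhd I V ∧ ∃ ψ : U →ₐ[A] V, ψ s = 0 := by
  obtain ⟨e⟩ := exists_algEquiv_pairHenz I hB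
  obtain ⟨τ, -⟩ := exists_toQuot_of_isPairNbhd I hU
  obtain ⟨N, ε, hε⟩ := Nbhd.exists_equiv U τ
  have h1 : φ = e.toAlgHom.comp ((Henz.ofB N).comp ε.symm.toAlgHom) := by
    obtain ⟨_⟩ := existsUnique_algHom_of_isPairNbhd I hB U hU
    exact Subsingleton.elim _ _
  have h2 : Henz.ofB N (ε.symm s) = 0 := e.injective (by
    rw [map_zero, ← hs, h1]; rfl)
  obtain ⟨M, α, -, hα⟩ := Henz.exists_of_ofB_eq_zero h2
  obtain ⟨V, _, _, _, γ, -, hV, -⟩ := exists_isPairNbhd I M.B M.toK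
  exact ⟨V, inferInstance, inferInstance, inferInstance, hV,
    γ.comp (α.comp ε.symm.toAlgHom), by simp [hα]⟩

end henselization

section maps

variable {R : Type u} [CommRing R] [Algebra A R] {B : Type u} [CommRing B] [Algebra R B]
  [Algebra A B] [IsScalarTower A R B]
  (hB : Hens2.IsPairHenselization R (I.map (algebraMap A R)) B)

include hB

/-- Maps out of a henselization are determined by their restriction. -/
theorem algHom_ext_of_isPairHenselization {C : Type u} [CommRing C] [Algebra A C] (J : Ideal C)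
    [HenselianRing C J] (hJ : I.map (algebraMap A C) ≤ J) {φ ψ : B →ₐ[A] C}
    (h : ∀ r : R, φ (algebraMap R B r) = ψ (algebraMap R B r)) : φ = ψ := by
  have h1 := (hB.2 C J (φ.toRingHom.comp (algebraMap R B)) ‹_› (by
    rw [Ideal.map_map, RingHom.comp_assoc, ← IsScalarTower.algebraMap_eq,
      show φ.toRingHom.comp (algebraMap A B) = algebraMap A C from φ.comp_algebraMap]
    exact hJ)).unique (y₁ := φ.toRingHom) (y₂ := ψ.toRingHom) rfl (RingHom.ext fun r => (h r).symm)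
  exact AlgHom.ext fun b => congr($h1 b)

theorem eq_of_sub_mem_of_isPairHenselization [Algebra.Etale A R] {C : Type u} [CommRing C] [Algebra A C]
    [HenselianRing C (I.map (algebraMap A C))] {φ ψ : B →ₐ[A] C}
    (h : ∀ b, φ b - ψ b ∈ I.map (algebraMap A C)) : φ = ψ := by
  refine algHom_ext_of_isPairHenselization I hB _ le_rfl fun r => ?_
  let i := IsScalarTower.toAlgHom A R B
  obtain ⟨τ, -, huniq⟩ := existsUnique_etale_lift_of_algebra (I.map (algebraMap A C)) (R := A)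
    ((Ideal.Quotient.mkₐ A (I.map (algebraMap A C))).comp (φ.comp i))
  exact congr($((huniq (φ.comp i) rfl).trans
    (huniq (ψ.comp i) (AlgHom.ext fun r => (Ideal.Quotient.eq.mpr (h _)).symm)).symm) r)

theorem exists_lift_of_isPairHenselization [Algebra.Etale A R] {C : Type u} [CommRing C] [Algebra A C]
    [HenselianRing C (I.map (algebraMap A C))]
    (χ : (B ⧸ I.map (algebraMap A B)) →ₐ[A] (C ⧸ I.map (algebraMap A C))) :
    ∃ φ : B →ₐ[A] C, ∀ b,
      Ideal.Quotient.mk (I.map (algebraMap A C)) (φ b) = χ (Ideal.Quotient.mk _ b) := by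
  obtain ⟨τ, hτ, -⟩ := existsUnique_etale_lift_of_algebra (I.map (algebraMap A C)) (R := A)
    ((χ.comp (Ideal.Quotient.mkₐ A _)).comp (IsScalarTower.toAlgHom A R B))
  obtain ⟨g, hg, -⟩ := hB.2 C (I.map (algebraMap A C)) τ.toRingHom ‹_› (by
    rw [Ideal.map_map, show τ.toRingHom.comp (algebraMap A R) = algebraMap A C from τ.comp_algebraMap])
  let φ : B →ₐ[A] C := { g with
    commutes' := fun a => by
      show g (algebraMap A B a) = _
      rw [IsScalarTower.algebraMap_apply A R B, ← RingHom.comp_apply, hg]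
      exact τ.commutes a }
  have : HenselianRing (C ⧸ I.map (algebraMap A C)) ⊥ := henselianRing_bot
  have h2 : (Ideal.Quotient.mkₐ A _).comp φ = χ.comp (Ideal.Quotient.mkₐ A _) := by
    refine algHom_ext_of_isPairHenselization I hB (⊥ : Ideal (C ⧸ I.map (algebraMap A C))) ?_
      fun r => ?_
    · rw [IsScalarTower.algebraMap_eq A C (C ⧸ I.map (algebraMap A C)), ← Ideal.map_map,
        Ideal.Quotient.algebraMap_eq, Ideal.map_quotient_self]
    · show Ideal.Quotient.mk _ (g (algebraMap R B r)) = _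
      rw [show g (algebraMap R B r) = τ r from congr($hg r)]
      exact congr($hτ r)
  exact ⟨φ, fun b => congr($h2 b)⟩

/-- The truncations of a henselization. -/
def quotientPowEquiv (r : ℕ) :
    (R ⧸ (I ^ r).map (algebraMap A R)) ≃ₐ[A ⧸ I ^ r] (B ⧸ (I ^ r).map (algebraMap A B)) := by
  have hbij := bijective_quotientMap_pow_of_isPairHenselization (I.map (algebraMap A R)) hB r
  have e : ((I.map (algebraMap A R)) ^ r).map (algebraMap R B) = (I ^ r).map (algebraMap A B) := by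
    rw [← Ideal.map_pow, Ideal.map_map, ← IsScalarTower.algebraMap_eq]
  exact AlgEquiv.ofRingEquiv (f := (Ideal.quotEquivOfEq (Ideal.map_pow _ I r)).trans
    ((RingEquiv.ofBijective _ hbij).trans (Ideal.quotEquivOfEq e))) fun a => by
      obtain ⟨a, rfl⟩ := Ideal.Quotient.mk_surjective a
      show Ideal.Quotient.mk _ (algebraMap R B (algebraMap A R a)) = _
      rw [← IsScalarTower.algebraMap_apply]
      rfl

theorem flat_and_etale_quotient [Algebra.Etale A R] (r : ℕ) :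
    Module.Flat A B ∧ Algebra.Etale (A ⧸ I ^ r) (B ⧸ (I ^ r).map (algebraMap A B)) := by
  have := flat_of_isPairHenselization _ hB
  refine ⟨Module.Flat.trans A R B, ?_⟩
  have : Algebra.Etale (A ⧸ I ^ r) (R ⧸ (I ^ r).map (algebraMap A R)) :=
    Algebra.Etale.of_equiv (Algebra.TensorProduct.quotIdealMapEquivQuotTensor R (I ^ r)).symm
  exact Algebra.Etale.of_equiv (quotientPowEquiv I hB r)

theorem flat_and_smooth_quotient [Algebra.Smooth A R] (r : ℕ) :
    Module.Flat A B ∧ Algebra.Smooth (A ⧸ I ^ r) (B ⧸ (I ^ r).map (algebraMap A B)) := by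
  have := flat_of_isPairHenselization _ hB
  refine ⟨Module.Flat.trans A R B, ?_⟩
  have : Algebra.Smooth (A ⧸ I ^ r) (R ⧸ (I ^ r).map (algebraMap A R)) :=
    Algebra.Smooth.of_equiv (Algebra.TensorProduct.quotIdealMapEquivQuotTensor R (I ^ r)).symm
  exact Algebra.Smooth.of_equiv (quotientPowEquiv I hB r)

end maps

end Groth.Agent.Hensel
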