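import Groth.Agent.Hensel.PairBasic
import Mathlib.RingTheory.Finiteness.Projective
import Mathlib.LinearAlgebra.Matrix.Charpoly.LinearMap
import Mathlib.LinearAlgebra.TensorProduct.Quotient
import Mathlib.RingTheory.TensorProduct.Basic
import Mathlib.RingTheory.Nakayama

/-!
# Finite projective modules over henselian pairs
-/

noncomputable section

namespace Groth.Agent.Hensel

universe u

open Polynomial TensorProduct

variable {R : Type u} [CommRing R] (I : Ideal R) [HenselianRing R I]

theorem exists_idempotent_end_lift {M N : Type u} [AddCommGroup M] [Module R M] [AddCommGroup N]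
    [Module R N] [Module.Finite R M] (π : M →ₗ[R] N) (hπ : ∀ v, π v = 0 → v ∈ I • (⊤ : Submodule R M))
    (hπ' : ∀ v ∈ I • (⊤ : Submodule R M), π v = 0)
    (e₀ : Module.End R M) (h₀ : ∀ v, π (e₀ (e₀ v)) = π (e₀ v)) :
    ∃ E : Module.End R M, IsIdempotentElem E ∧ ∀ v, π (E v) = π (e₀ v) := by
  let C := R[X] ⧸ RingHom.ker (Polynomial.aeval (R := R) e₀)
  let ι : C →ₐ[R] Module.End R M :=
    Ideal.Quotient.liftₐ _ (Polynomial.aeval e₀) fun a ha => ha
  have hι : Function.Injective ι := by
    intro a b h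
    obtain ⟨a, rfl⟩ := Ideal.Quotient.mk_surjective a
    obtain ⟨b, rfl⟩ := Ideal.Quotient.mk_surjective b
    refine Ideal.Quotient.eq.mpr ?_
    rw [RingHom.mem_ker, map_sub, sub_eq_zero]
    exact h
  have : Algebra.IsIntegral R C := ⟨fun c =>
    (isIntegral_algHom_iff ι hι).mp (Algebra.IsIntegral.isIntegral (ι c))⟩
  let I' : Ideal C :=
    { carrier := {c | ∀ v, π (ι c v) = 0}
      zero_mem' := fun v => by simp
      add_mem' := fun {a b} ha hb v => by
        rw [map_add, LinearMap.add_apply, map_add, ha v, hb v, add_zero]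
      smul_mem' := fun c d hd v => by
        show π (ι (c • d) v) = 0
        rw [smul_eq_mul, mul_comm, map_mul]
        exact hd (ι c v) }
  have : HenselianRing C (I.map (algebraMap R C)) := henselianRing_of_isIntegral' I C
  have : HenselianRing C (I.map (algebraMap R C)).radical :=
    (henselianRing_radical_iff _).mpr inferInstance
  have hle : I' ≤ (I.map (algebraMap R C)).radical := by
    intro c hc
    obtain ⟨p, hp, -, hcoeff, hp0⟩ :=
      LinearMap.exists_monic_and_natDegree_eq_and_coeff_mem_pow_and_aeval_eq_zero R (ι c) I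
        (by rintro _ ⟨v, rfl⟩; exact hπ _ (hc v))
    rw [Polynomial.aeval_algHom_apply] at hp0
    have h0 : aeval c p = 0 := hι (hp0.trans (map_zero ι).symm)
    rw [aeval_eq_sum_range, Finset.sum_range_succ, hp.coeff_natDegree, one_smul] at h0
    refine ⟨p.natDegree, ?_⟩
    rw [eq_neg_of_add_eq_zero_right h0]
    refine neg_mem (sum_mem fun k hk => ?_)
    rw [Algebra.smul_def]
    refine Ideal.mul_mem_right _ _ (Ideal.mem_map_of_mem _ ?_)
    exact Ideal.pow_le_self (Nat.sub_ne_zero_of_lt (Finset.mem_range.mp hk)) (hcoeff k)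
  have : HenselianRing C I' := henselianRing_of_le hle
  let x : C := Ideal.Quotient.mk _ Polynomial.X
  have hx : ι x = e₀ := Polynomial.aeval_X e₀
  have hidem : IsIdempotentElem (Ideal.Quotient.mk I' x) := by
    rw [IsIdempotentElem, ← map_mul, Ideal.Quotient.eq]
    intro v
    rw [map_sub, map_mul, hx, LinearMap.sub_apply, map_sub, sub_eq_zero]
    exact h₀ v
  obtain ⟨e, he, hee⟩ : ∃ e : C, IsIdempotentElem e ∧ Ideal.Quotient.mk I' e = Ideal.Quotient.mk I' x := by
    have hb := bijOn_idempotents_of_isIntegral I' C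
    rw [Algebra.algebraMap_self, Ideal.map_id] at hb
    exact hb.surjOn hidem
  refine ⟨ι e, he.map ι, fun v => ?_⟩
  have h1 : π (ι (e - x) v) = 0 := Ideal.Quotient.eq.mp hee v
  rwa [map_sub, hx, LinearMap.sub_apply, map_sub, sub_eq_zero] at h1

theorem exists_projective_lift (Q : Type u) [AddCommGroup Q] [Module (R ⧸ I) Q]
    [Module.Finite (R ⧸ I) Q] [Module.Projective (R ⧸ I) Q] :
    ∃ (P : Type u) (_ : AddCommGroup P) (_ : Module R P), Module.Finite R P ∧ Module.Projective R P ∧
      Nonempty (TensorProduct R (R ⧸ I) P ≃ₗ[R ⧸ I] Q) := by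
  classical
  let : Module R Q := Module.compHom Q (Ideal.Quotient.mk I)
  have : IsScalarTower R (R ⧸ I) Q := .of_algebraMap_smul fun _ _ => rfl
  obtain ⟨n, f, g, hf, -, hfg⟩ := Module.Finite.exists_comp_eq_id_of_projective (R ⧸ I) Q
  let π : (Fin n → R) →ₗ[R] (Fin n → R ⧸ I) := (Algebra.linearMap R (R ⧸ I)).compLeft (Fin n)
  have hπ : Function.Surjective π := fun v =>
    ⟨fun i => (Ideal.Quotient.mk_surjective (v i)).choose,
      funext fun i => (Ideal.Quotient.mk_surjective (v i)).choose_spec⟩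
  obtain ⟨e₀, he₀⟩ := Module.projective_lifting_property π
    (((g ∘ₗ f).restrictScalars R) ∘ₗ π) hπ
  have he₀' : ∀ v, π (e₀ v) = g (f (π v)) := fun v => congr($he₀ v)
  have hfg' : ∀ q, f (g q) = q := fun q => congr($hfg q)
  obtain ⟨E, hE, hEe⟩ := exists_idempotent_end_lift I π
    (fun v hv => by
      rw [pi_eq_sum_univ v]
      refine sum_mem fun i _ => Submodule.smul_mem_smul ?_ Submodule.mem_top
      exact Ideal.Quotient.eq_zero_iff_mem.mp (congrFun hv i))
    (fun v hv => by
      refine Submodule.smul_induction_on hv (fun r hr m _ => ?_)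
        (fun a b ha hb => by rw [map_add, ha, hb, add_zero])
      rw [map_smul]
      funext i
      show r • π m i = 0
      rw [Algebra.smul_def, Ideal.Quotient.algebraMap_eq, Ideal.Quotient.eq_zero_iff_mem.mpr hr,
        zero_mul])
    e₀ (fun v => by rw [he₀', he₀', hfg'])
  have hπE : ∀ v, π (E v) = g (f (π v)) := fun v => (hEe v).trans (he₀' v)
  let P := LinearMap.range E
  have hEP : ∀ p : P, E p.1 = p.1 := fun ⟨_, v, rfl⟩ => congr($hE.eq v)
  have : Module.Projective R P := Module.Projective.of_split P.subtype E.rangeRestrict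
    (LinearMap.ext fun p => Subtype.ext (hEP p))
  have hfin : Module.Finite R P := Module.Finite.range E
  let α : (R ⧸ I) ⊗[R] P →ₗ[R ⧸ I] Q :=
    LinearMap.liftBaseChange (R ⧸ I) ((f.restrictScalars R) ∘ₗ π ∘ₗ P.subtype)
  let γ : (Fin n → R ⧸ I) →ₗ[R ⧸ I] (R ⧸ I) ⊗[R] P :=
    (Pi.basisFun (R ⧸ I) (Fin n)).constr (R ⧸ I) fun i =>
      (1 : R ⧸ I) ⊗ₜ E.rangeRestrict (Pi.single i 1)
  have hπs : ∀ i, π (Pi.single i 1) = Pi.single i 1 := fun i => funext fun k => by
    simp only [π, LinearMap.compLeft_apply, Function.comp_apply, Algebra.linearMap_apply,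
      Pi.single_apply]
    split_ifs <;> simp
  have hγ : ∀ v, γ (π v) = (1 : R ⧸ I) ⊗ₜ E.rangeRestrict v := fun v => by
    have : (γ.restrictScalars R) ∘ₗ π =
        (TensorProduct.mk R (R ⧸ I) P 1) ∘ₗ E.rangeRestrict := by
      refine (Pi.basisFun R (Fin n)).ext fun i => ?_
      simp only [Pi.basisFun_apply, LinearMap.comp_apply, LinearMap.restrictScalars_apply, hπs,
        TensorProduct.mk_apply]
      rw [← Pi.basisFun_apply (R ⧸ I)]
      exact (Pi.basisFun (R ⧸ I) (Fin n)).constr_basis (R ⧸ I) _ i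
    exact congr($this v)
  have h1 : α ∘ₗ γ = f ∘ₗ g ∘ₗ f := by
    refine (Pi.basisFun (R ⧸ I) (Fin n)).ext fun i => ?_
    simp only [Pi.basisFun_apply, LinearMap.comp_apply]
    rw [← hπs, hγ]
    simp only [α, LinearMap.liftBaseChange_tmul, one_smul, LinearMap.comp_apply,
      LinearMap.restrictScalars_apply, Submodule.subtype_apply, LinearMap.codRestrict_apply]
    exact congrArg f (hπE _)
  refine ⟨P, inferInstance, inferInstance, hfin, inferInstance,
    ⟨LinearEquiv.ofLinearMap α (γ ∘ₗ g) ?_ ?_⟩⟩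
  · refine LinearMap.ext fun q => ?_
    show α (γ (g q)) = q
    rw [show α (γ (g q)) = f (g (f (g q))) from congr($h1 (g q)), hfg', hfg']
  · refine LinearMap.ext fun z => ?_
    show γ (g (α z)) = z
    induction z using TensorProduct.induction_on with
    | zero => simp
    | add a b ha hb => rw [map_add, map_add, map_add, ha, hb]
    | tmul a p =>
      rw [show a ⊗ₜ[R] p = a • ((1 : R ⧸ I) ⊗ₜ[R] p) by rw [smul_tmul', smul_eq_mul, mul_one],
        map_smul, map_smul, map_smul]
      congr 1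
      simp only [α, LinearMap.liftBaseChange_tmul, one_smul, LinearMap.comp_apply,
        LinearMap.restrictScalars_apply, Submodule.subtype_apply]
      rw [← hπE, hγ]
      congr 1
      exact Subtype.ext ((congrArg E (hEP p)).trans (hEP p))

theorem bijective_of_forall_sub_mem {P : Type u} [AddCommGroup P] [Module R P] [Module.Finite R P]
    (φ : P →ₗ[R] P) (h : ∀ p, φ p - p ∈ I • (⊤ : Submodule R P)) : Function.Bijective φ := by
  have hs : Function.Surjective φ := by
    refine LinearMap.range_eq_top.mp (eq_top_iff.mpr (Submodule.le_of_le_smul_of_le_jacobson_bot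
      Module.Finite.fg_top (HenselianRing.jac (I := I)) fun p _ => ?_))
    exact Submodule.mem_sup.mpr ⟨φ p, ⟨p, rfl⟩, -(φ p - p), neg_mem (h p), by abel⟩
  exact ⟨OrzechProperty.injective_of_surjective_endomorphism φ hs, hs⟩

theorem nonempty_linearEquiv_of_tensor (P₁ P₂ : Type u) [AddCommGroup P₁] [Module R P₁]
    [AddCommGroup P₂] [Module R P₂] [Module.Finite R P₁] [Module.Projective R P₁]
    [Module.Finite R P₂] [Module.Projective R P₂]
    (e : TensorProduct R (R ⧸ I) P₁ ≃ₗ[R ⧸ I] TensorProduct R (R ⧸ I) P₂) :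
    Nonempty (P₁ ≃ₗ[R] P₂) := by
  have hs : ∀ (P : Type u) [AddCommGroup P] [Module R P],
      Function.Surjective (TensorProduct.mk R (R ⧸ I) P 1) := fun P _ _ =>
    TensorProduct.mk_surjective R P (R ⧸ I) Ideal.Quotient.mk_surjective
  have hker : ∀ (P : Type u) [AddCommGroup P] [Module R P] (p : P),
      (1 : R ⧸ I) ⊗ₜ[R] p = 0 → p ∈ I • (⊤ : Submodule R P) := fun P _ _ p hp => by
    have := congrArg (TensorProduct.quotTensorEquivQuotSMul P I) hp
    rw [map_zero, show (1 : R ⧸ I) = Ideal.Quotient.mk I 1 from rfl,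
      TensorProduct.quotTensorEquivQuotSMul_mk_tmul, one_smul, Submodule.Quotient.mk_eq_zero] at this
    exact this
  obtain ⟨φ, hφ⟩ := Module.projective_lifting_property (TensorProduct.mk R (R ⧸ I) P₂ 1)
    ((e.toLinearMap.restrictScalars R) ∘ₗ TensorProduct.mk R (R ⧸ I) P₁ 1) (hs P₂)
  obtain ⟨ψ, hψ⟩ := Module.projective_lifting_property (TensorProduct.mk R (R ⧸ I) P₁ 1)
    ((e.symm.toLinearMap.restrictScalars R) ∘ₗ TensorProduct.mk R (R ⧸ I) P₂ 1) (hs P₁)
  have hφ' : ∀ p, (1 : R ⧸ I) ⊗ₜ[R] φ p = e (1 ⊗ₜ p) := fun p => congr($hφ p)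
  have hψ' : ∀ p, (1 : R ⧸ I) ⊗ₜ[R] ψ p = e.symm (1 ⊗ₜ p) := fun p => congr($hψ p)
  have h1 : Function.Bijective (φ ∘ₗ ψ) := bijective_of_forall_sub_mem I _ fun p => hker P₂ _ (by
    rw [tmul_sub, LinearMap.comp_apply, hφ', hψ', e.apply_symm_apply, sub_self])
  have h2 : Function.Bijective (ψ ∘ₗ φ) := bijective_of_forall_sub_mem I _ fun p => hker P₁ _ (by
    rw [tmul_sub, LinearMap.comp_apply, hψ', hφ', e.symm_apply_apply, sub_self])
  exact ⟨LinearEquiv.ofBijective φ ⟨Function.Injective.of_comp (f := ψ) h2.1,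
    Function.Surjective.of_comp (g := ψ) h1.2⟩⟩

end Groth.Agent.Hensel
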