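import Groth.Agent.Hensel.SmoothLift
import Groth.Agent.Hensel.ProjectiveLift
import Groth.Agent.Hensel.PairNbhd
import Groth.Agent.Hensel.Hfp
import Mathlib.RingTheory.Kaehler.Polynomial
import Mathlib.RingTheory.Ideal.IdempotentFG
import Mathlib.RingTheory.Derivation.ToSquareZero

/-!
# Lifting smooth algebras along quotients
-/

noncomputable section

namespace Groth.Agent.Hensel

universe u

open MvPolynomial Matrix

section relations

variable {A : Type u} [CommRing A] {n m : ℕ}

/-- Over the reduction, a smooth algebra makes the relations reproduce themselves. -/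
theorem exists_matrix_of_formallySmooth (I : Ideal A) {C : Type u} [CommRing C] [Algebra A C] [Algebra (A ⧸ I) C]
    [IsScalarTower A (A ⧸ I) C] [Algebra.FormallySmooth (A ⧸ I) C]
    (π : MvPolynomial (Fin n) A →ₐ[A] C) (hπ : Function.Surjective π) (g : Fin m → MvPolynomial (Fin n) A)
    (J : Ideal (MvPolynomial (Fin n) A)) (hJ : RingHom.ker π = J)
    (hg : J = Ideal.span (Set.range g) ⊔ I.map MvPolynomial.C) :
    ∃ L : Fin m → Fin n → MvPolynomial (Fin n) A,
      (∀ j, g j - ∑ l, g l * (∑ i, L l i * pderiv i (g j)) ∈ J ^ 2 ⊔ I.map MvPolynomial.C) ∧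
      ∀ l j, ∑ k, (∑ i, L l i * pderiv i (g k)) * (∑ i, L k i * pderiv i (g j)) -
        (∑ i, L l i * pderiv i (g j)) ∈ J := by
  classical
  let P := MvPolynomial (Fin n) A
  let K : Ideal P := J ^ 2 ⊔ I.map MvPolynomial.C
  have hKJ : K ≤ J := sup_le (Ideal.pow_le_self two_ne_zero) (by rw [hg]; exact le_sup_right)
  let E := P ⧸ K
  let φE : (A ⧸ I) →ₐ[A] E := Ideal.Quotient.liftₐ I (Algebra.ofId A E) fun a ha =>
    Ideal.Quotient.eq_zero_iff_mem.mpr (Ideal.mem_sup_right (Ideal.mem_map_of_mem _ ha))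
  let : Algebra (A ⧸ I) E := φE.toRingHom.toAlgebra
  let p₀ : E →ₐ[A] C := Ideal.Quotient.liftₐ K π fun x hx => hJ.ge (hKJ hx)
  let p : E →ₐ[A ⧸ I] C := AlgHom.mk p₀.toRingHom fun a => by
    obtain ⟨a, rfl⟩ := Ideal.Quotient.mk_surjective a
    show p₀ (φE (algebraMap A _ a)) = algebraMap (A ⧸ I) C (algebraMap A (A ⧸ I) a)
    rw [φE.commutes, p₀.commutes, ← IsScalarTower.algebraMap_apply]
  have hp : Function.Surjective p := fun c => by
    obtain ⟨x, rfl⟩ := hπ c; exact ⟨Ideal.Quotient.mk K x, rfl⟩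
  have hnil : IsNilpotent (RingHom.ker p) := by
    refine ⟨2, le_bot_iff.mp ?_⟩
    have hk : RingHom.ker p ≤ J.map (Ideal.Quotient.mk K) := fun z hz => by
      obtain ⟨x, rfl⟩ := Ideal.Quotient.mk_surjective z
      exact Ideal.mem_map_of_mem _ (hJ.le (show π x = 0 from hz))
    refine (pow_le_pow_left' hk 2).trans ?_
    rw [← Ideal.map_pow, le_bot_iff, Ideal.map_eq_bot_iff_le_ker, Ideal.mk_ker]
    exact le_sup_left
  let q : (E ⧸ RingHom.ker p) ≃ₐ[A ⧸ I] C := Ideal.quotientKerAlgEquivOfSurjective hp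
  obtain ⟨s, hs⟩ := Algebra.FormallySmooth.exists_lift (R := A ⧸ I) (A := C) (RingHom.ker p) hnil q.symm.toAlgHom
  have hps : ∀ c, p (s c) = c := fun c =>
    (congrArg q (AlgHom.congr_fun hs c)).trans (q.apply_symm_apply c)
  choose y hy using fun i : Fin n => Ideal.Quotient.mk_surjective (s (π (X i)))
  have hk : ∀ i, X i - y i ∈ J := fun i => hJ.le (by
    rw [RingHom.mem_ker, map_sub, sub_eq_zero]
    refine (hps _).symm.trans ?_
    rw [← hy i]
    rfl)
  have hdec : ∀ i, ∃ c : Fin m → P, (X i - y i) - ∑ l, g l * c l ∈ I.map MvPolynomial.C := by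
    intro i
    obtain ⟨a, ha, b, hb, hab⟩ := Submodule.mem_sup.mp (hg.le (hk i))
    obtain ⟨c, hc⟩ := (Ideal.mem_span_range_iff_exists_fun).mp ha
    refine ⟨c, ?_⟩
    rw [← hab, show a + b - ∑ l, g l * c l = b by rw [← hc]; simp [mul_comm]]
    exact hb
  choose c hc using hdec
  refine ⟨fun l i => c i l, ?_⟩
  have hmain : ∀ j, g j - ∑ l, g l * (∑ i, c i l * pderiv i (g j)) ∈ K := by
    intro j
    have hgJ : g j ∈ J := by rw [hg]; exact Ideal.mem_sup_left (Ideal.subset_span ⟨j, rfl⟩)
    let sA : C →ₐ[A] E := AlgHom.mk s.toRingHom fun a => by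
      show s (algebraMap A C a) = _
      rw [IsScalarTower.algebraMap_apply A (A ⧸ I) C, s.commutes]
      exact φE.commutes a
    have h1 : Ideal.Quotient.mk K (aeval y (g j)) = 0 := by
      have e : (Ideal.Quotient.mkₐ A K).comp (aeval y) = sA.comp π := MvPolynomial.algHom_ext fun i => by
        simp only [AlgHom.comp_apply, aeval_X]
        exact hy i
      refine (AlgHom.congr_fun e (g j)).trans ?_
      rw [AlgHom.comp_apply, show π (g j) = 0 from hJ.ge hgJ, map_zero]
    have h2 := taylor_mod_sq (K := J) (fun i => X i - y i) hk (g j)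
    simp only [sub_sub_cancel] at h2
    have h3 : Ideal.Quotient.mk (J ^ 2) (aeval y (g j)) = Ideal.Quotient.mk (J ^ 2) (g j - ∑ i, pderiv i (g j) * (X i - y i)) := by
      rw [← h2]
      exact AlgHom.congr_fun (MvPolynomial.comp_aeval y (Ideal.Quotient.mkₐ A (J ^ 2))) (g j)
    have h4 : g j - ∑ i, pderiv i (g j) * (X i - y i) ∈ K := by
      have := Ideal.mem_sup_left (T := I.map MvPolynomial.C) (Ideal.Quotient.eq.mp h3)
      have h5 := sub_mem (Ideal.Quotient.eq_zero_iff_mem.mp h1) this
      rwa [sub_sub_cancel] at h5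
    have h6 : ∑ i, pderiv i (g j) * (X i - y i) - ∑ l, g l * (∑ i, c i l * pderiv i (g j)) ∈ K := by
      have : ∑ l, g l * (∑ i, c i l * pderiv i (g j)) = ∑ i, pderiv i (g j) * ∑ l, g l * c i l := by
        simp only [Finset.mul_sum]
        rw [Finset.sum_comm]
        exact Finset.sum_congr rfl fun i _ => Finset.sum_congr rfl fun l _ => by ring
      rw [this, ← Finset.sum_sub_distrib]
      exact sum_mem fun i _ => by rw [← mul_sub]; exact Ideal.mul_mem_left _ _ (Ideal.mem_sup_right (hc i))
    have := add_mem h4 h6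
    simpa using this
  refine ⟨hmain, fun l j => ?_⟩
  have hpd : ∀ z ∈ K, ∀ i, pderiv i z ∈ J := by
    intro z hz i
    have hIC : ∀ b ∈ I.map MvPolynomial.C, pderiv i b ∈ I.map MvPolynomial.C := by
      intro b hb
      induction hb using Submodule.span_induction with
      | mem x hx => obtain ⟨t, -, rfl⟩ := hx; rw [pderiv_C]; exact zero_mem _
      | zero => rw [map_zero]; exact zero_mem _
      | add x x' _ _ hx hx' => rw [map_add]; exact add_mem hx hx'
      | smul r x hx' hx =>
        rw [smul_eq_mul, pderiv_mul]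
        exact add_mem (Ideal.mul_mem_left _ _ hx') (Ideal.mul_mem_left _ _ hx)
    obtain ⟨a, ha, b, hb, rfl⟩ := Submodule.mem_sup.mp hz
    rw [map_add]
    exact add_mem (pderiv_mem_of_mem_sq ha i) (hg.ge (Ideal.mem_sup_right (hIC b hb)))
  have hD : ∀ i, pderiv i (g j) - ∑ k, pderiv i (g k) * (∑ i', c i' k * pderiv i' (g j)) ∈ J := by
    intro i
    have h1 := hpd _ (hmain j) i
    rw [map_sub, map_sum, Finset.sum_congr rfl (fun l _ => pderiv_mul), Finset.sum_add_distrib] at h1
    have h2 : ∑ k, g k * pderiv i (∑ i', c i' k * pderiv i' (g j)) ∈ J :=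
      sum_mem fun k _ => Ideal.mul_mem_right _ _ (hg.ge (Ideal.mem_sup_left (Ideal.subset_span ⟨k, rfl⟩)))
    convert add_mem h1 h2 using 1
    ring
  have h7 : ∑ i, c i l * (pderiv i (g j) - ∑ k, pderiv i (g k) * (∑ i', c i' k * pderiv i' (g j))) ∈ J :=
    sum_mem fun i _ => Ideal.mul_mem_left _ _ (hD i)
  have hh : ∀ w : Fin m → P, ∑ k, (∑ i, c i l * pderiv i (g k)) * w k = ∑ i, c i l * ∑ k, pderiv i (g k) * w k :=
    fun w => (Finset.sum_congr rfl fun k _ => Finset.sum_mul _ _ _).trans (Finset.sum_comm.trans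
      (Finset.sum_congr rfl fun i _ => ((Finset.mul_sum _ _ _).trans
        (Finset.sum_congr rfl fun k _ => (mul_assoc _ _ _).symm)).symm))
  rw [← neg_sub]
  refine neg_mem ?_
  convert h7 using 1
  rw [hh fun k => ∑ i', c i' k * pderiv i' (g j)]
  beta_reduce
  simp [mul_sub, Finset.sum_sub_distrib]

end relations

section idempotent

variable {P : Type u} [CommRing P] (J : Ideal P) {m : ℕ}

theorem exists_idempotent_matrix_nbhd (Λ : Matrix (Fin m) (Fin m) P) (hΛ : ∀ l j, (Λ * Λ) l j - Λ l j ∈ J) :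
    ∃ (U : Type u) (_ : CommRing U) (_ : Algebra P U) (_ : Algebra.Etale P U) (e : Matrix (Fin m) (Fin m) U),
      IsPairNbhd J U ∧ e * e = e ∧ ∀ l j, e l j - algebraMap P U (Λ l j) ∈ J.map (algebraMap P U) := by
  classical
  let H := PairHenz P J
  have hH : Hens2.IsPairHenselization P J H := isPairHenselization_pairHenz P J
  let JH := J.map (algebraMap P H)
  have : HenselianRing H JH := hH.1
  let π : (Fin m → H) →ₗ[H] (Fin m → H ⧸ JH) := (Algebra.linearMap H (H ⧸ JH)).compLeft (Fin m)
  let Λ' : Matrix (Fin m) (Fin m) H := Λ.map (algebraMap P H)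
  obtain ⟨Ee, hEe, hπe⟩ := exists_idempotent_end_lift JH π
    (fun v hv => by
      rw [pi_eq_sum_univ v]
      refine sum_mem fun i _ => Submodule.smul_mem_smul ?_ Submodule.mem_top
      exact Ideal.Quotient.eq_zero_iff_mem.mp (congrFun hv i))
    (fun v hv => by
      refine Submodule.smul_induction_on hv (fun r hr x _ => ?_)
        (fun a b ha hb => by rw [map_add, ha, hb, add_zero])
      rw [map_smul]
      funext i
      show r • π x i = 0
      rw [Algebra.smul_def, Ideal.Quotient.algebraMap_eq, Ideal.Quotient.eq_zero_iff_mem.mpr hr, zero_mul])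
    Λ'.mulVecLin (fun v => by
      funext l
      show Ideal.Quotient.mk JH ((Λ'.mulVec (Λ'.mulVec v)) l) = Ideal.Quotient.mk JH ((Λ'.mulVec v) l)
      rw [Matrix.mulVec_mulVec, ← sub_eq_zero, ← map_sub, Ideal.Quotient.eq_zero_iff_mem]
      rw [← Pi.sub_apply, ← Matrix.sub_mulVec]
      show ∑ k, (Λ' * Λ' - Λ') l k * v k ∈ JH
      refine sum_mem fun k _ => Ideal.mul_mem_right _ _ ?_
      have := Ideal.mem_map_of_mem (algebraMap P H) (hΛ l k)
      rw [map_sub, ← Matrix.map_apply (f := algebraMap P H) (M := Λ * Λ), Matrix.map_mul] at this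
      exact this)
  let eH := LinearMap.toMatrix' Ee
  have heH : eH * eH = eH := by rw [← LinearMap.toMatrix'_comp]; exact congrArg _ hEe.eq
  have heΛ : ∀ l j, eH l j - Λ' l j ∈ JH := fun l j => by
    have := congrFun (hπe (Pi.single j 1)) l
    rw [show eH l j = Ee (Pi.single j 1) l from LinearMap.toMatrix'_apply Ee l j,
      ← Ideal.Quotient.eq]
    refine this.trans ?_
    show Ideal.Quotient.mk JH ((Λ'.mulVec (Pi.single j 1)) l) = _
    rw [Matrix.mulVec_single_one]
    rfl
  obtain ⟨U₀, _, _, _, hU₀, φ₀, hφ₀⟩ := exists_isPairNbhd_finset J hH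
    (Finset.univ.image fun lj : Fin m × Fin m => eH lj.1 lj.2)
  choose e₀ he₀ using fun l j => hφ₀ (eH l j) (Finset.mem_image.mpr ⟨(l, j), Finset.mem_univ _, rfl⟩)
  have key : ∀ s : Finset (Fin m × Fin m), ∃ (U : Type u) (_ : CommRing U) (_ : Algebra P U)
      (_ : Algebra.Etale P U) (γ : U₀ →ₐ[P] U), IsPairNbhd J U ∧
      ∀ lj ∈ s, γ (∑ k, e₀ lj.1 k * e₀ k lj.2 - e₀ lj.1 lj.2) = 0 := by
    intro s
    induction s using Finset.induction with
    | empty => exact ⟨U₀, inferInstance, inferInstance, inferInstance, AlgHom.id _ _, hU₀, by simp⟩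
    | insert lj t _ ih =>
      obtain ⟨U, _, _, _, γ, hU, hγ⟩ := ih
      obtain ⟨uu⟩ := existsUnique_algHom_of_isPairNbhd J hH U hU
      obtain ⟨_⟩ := existsUnique_algHom_of_isPairNbhd J hH U₀ hU₀
      let φU : U →ₐ[P] H := uu.default
      obtain ⟨V, _, _, _, hV, ψ, hψ⟩ := exists_of_map_eq_zero J hH U hU φU
        (γ (∑ k, e₀ lj.1 k * e₀ k lj.2 - e₀ lj.1 lj.2)) (by
          rw [← AlgHom.comp_apply, Subsingleton.elim (φU.comp γ) φ₀]
          simp only [map_sub, map_sum, map_mul, he₀, sub_eq_zero]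
          exact congrFun (congrFun heH lj.1) lj.2)
      refine ⟨V, inferInstance, inferInstance, inferInstance, ψ.comp γ, hV, fun z hz => ?_⟩
      rcases Finset.mem_insert.mp hz with rfl | hz
      · exact hψ
      · rw [AlgHom.comp_apply, hγ z hz, map_zero]
  obtain ⟨U, _, _, _, γ, hU, hγ⟩ := key Finset.univ
  refine ⟨U, inferInstance, inferInstance, inferInstance, Matrix.of fun l j => γ (e₀ l j), hU, ?_, fun l j => ?_⟩
  · ext l j
    have := hγ (l, j) (Finset.mem_univ _)
    simp only [map_sub, map_sum, map_mul, sub_eq_zero] at this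
    simpa [Matrix.mul_apply] using this
  · obtain ⟨uu⟩ := existsUnique_algHom_of_isPairNbhd J hH U hU
    obtain ⟨_⟩ := existsUnique_algHom_of_isPairNbhd J hH U₀ hU₀
    let φU : U →ₐ[P] H := uu.default
    have h1 : φU (γ (e₀ l j) - algebraMap P U (Λ l j)) ∈ JH := by
      rw [map_sub, AlgHom.commutes, ← AlgHom.comp_apply, Subsingleton.elim (φU.comp γ) φ₀, he₀]
      exact heΛ l j
    obtain ⟨a, ha⟩ := hU.2 (Ideal.Quotient.mk _ (γ (e₀ l j) - algebraMap P U (Λ l j)))
    obtain ⟨a, rfl⟩ := Ideal.Quotient.mk_surjective a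
    rw [Ideal.quotientMap_mk, eq_comm, Ideal.Quotient.eq] at ha
    have h2 : φU (γ (e₀ l j) - algebraMap P U (Λ l j) - algebraMap P U a) ∈ JH :=
      algHom_mem_map J φU ha
    rw [map_sub, AlgHom.commutes φU a] at h2
    have h3 : algebraMap P H a ∈ JH := by simpa using sub_mem h1 h2
    have h4 : a ∈ J := by
      have h5 : Henz.proj P (P ⧸ J) (algebraMap P H a) = 0 := (ker_proj_pairHenz P J).ge h3
      rw [AlgHom.commutes] at h5
      exact Ideal.Quotient.eq_zero_iff_mem.mp h5
    simpa using add_mem ha (Ideal.mem_map_of_mem (algebraMap P U) h4)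

end idempotent

section derivative

variable {A : Type u} [CommRing A] {n : ℕ} {U : Type u} [CommRing U] [Algebra (MvPolynomial (Fin n) A) U]
  [Algebra A U] [IsScalarTower A (MvPolynomial (Fin n) A) U]

/-- The differential of an element of an étale algebra over affine space in coordinates. -/
theorem exists_differential [Algebra.FormallyUnramified (MvPolynomial (Fin n) A) U] (x : U) :
    ∃ c : Fin n → U, ∀ (E : Type u) [CommRing E] [Algebra A E] (J₀ : Ideal E), J₀ ^ 2 = ⊥ →
      ∀ u w : U →ₐ[A] E, (∀ z, w z - u z ∈ J₀) →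
        w x - u x = ∑ i, u (c i) * (w (algebraMap _ U (X i : MvPolynomial (Fin n) A)) -
          u (algebraMap _ U (X i : MvPolynomial (Fin n) A))) := by
  let P := MvPolynomial (Fin n) A
  let v : Fin n → KaehlerDifferential A U := fun i => KaehlerDifferential.D A U (algebraMap P U (X i))
  have htop : ∀ z : KaehlerDifferential A U, z ∈ Submodule.span U (Set.range v) := by
    intro z
    have hz : KaehlerDifferential.map A P U U z = 0 := Subsingleton.elim _ _
    obtain ⟨y, rfl⟩ := (KaehlerDifferential.exact_mapBaseChange_map A P U z).mp hz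
    clear hz
    induction y using TensorProduct.induction_on with
    | zero => simp
    | add y y' hy hy' => rw [map_add]; exact add_mem hy hy'
    | tmul b w =>
      rw [KaehlerDifferential.mapBaseChange_tmul]
      refine Submodule.smul_mem _ b ?_
      have hw : w ∈ Submodule.span P (Set.range fun i => KaehlerDifferential.D A P (X i)) := by
        rw [← (KaehlerDifferential.mvPolynomialBasis A (Fin n)).sum_repr w]
        exact sum_mem fun i _ => Submodule.smul_mem _ _
          (Submodule.subset_span ⟨i, (KaehlerDifferential.mvPolynomialBasis_apply A (Fin n) i).symm⟩)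
      induction hw using Submodule.span_induction with
      | mem y hy =>
        obtain ⟨i, rfl⟩ := hy
        rw [KaehlerDifferential.map_D]
        exact Submodule.subset_span ⟨i, rfl⟩
      | zero => simp
      | add y y' _ _ hy hy' => rw [map_add]; exact add_mem hy hy'
      | smul r y _ hy => rw [map_smul]; exact Submodule.smul_of_tower_mem _ r hy
  obtain ⟨c, hc⟩ := (Submodule.mem_span_range_iff_exists_fun U).mp (htop (KaehlerDifferential.D A U x))
  refine ⟨c, fun E _ _ J₀ hJ₀ u w huw => ?_⟩
  let : Algebra U E := u.toRingHom.toAlgebra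
  have : IsScalarTower A U E := .of_algebraMap_eq fun a => (u.commutes a).symm
  let d := derivationToSquareZeroOfLift J₀ hJ₀ w (AlgHom.ext fun z => Ideal.Quotient.eq.mpr (huw z))
  have hd : ∀ z, ((d z : J₀) : E) = w z - u z := fun z => rfl
  have h1 := congrArg d.liftKaehlerDifferential hc
  simp only [map_sum, map_smul, v, Derivation.liftKaehlerDifferential_comp_D] at h1
  have h2 := congrArg (Subtype.val : J₀ → E) h1
  simp only [Submodule.coe_sum, hd] at h2
  exact h2.symm

end derivative

section main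

variable {A : Type u} [CommRing A] (I : Ideal A) {C : Type u} [CommRing C] [Algebra A C] [Algebra (A ⧸ I) C]
  [IsScalarTower A (A ⧸ I) C]

/-- Smooth algebras over a quotient lift. -/
theorem exists_smooth_algebra_lift [Algebra.Smooth (A ⧸ I) C] :
    ∃ (R : Type u) (_ : CommRing R) (_ : Algebra A R), Algebra.Smooth A R ∧
      ∃ f : R →ₐ[A] C, Function.Surjective f ∧ RingHom.ker f = I.map (algebraMap A R) := by
  classical
  obtain ⟨n, π₁, hπ₁, ⟨G, hG⟩⟩ := Algebra.FinitePresentation.out (R := A ⧸ I) (A := C)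
  let P := MvPolynomial (Fin n) A
  let red : P →+* MvPolynomial (Fin n) (A ⧸ I) := MvPolynomial.map (Ideal.Quotient.mk I)
  have hred : Function.Surjective red := MvPolynomial.map_surjective _ Ideal.Quotient.mk_surjective
  let π : P →ₐ[A] C := aeval fun i => π₁ (X i)
  have hπeq : ∀ p, π p = π₁ (red p) := fun p => by
    refine congr($(MvPolynomial.ringHom_ext (f := π.toRingHom) (g := π₁.toRingHom.comp red) (fun a => ?_)
      (fun i => ?_)) p)
    · show π (MvPolynomial.C a) = π₁ (red (MvPolynomial.C a))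
      exact ((π.commutes a).trans (IsScalarTower.algebraMap_apply A (A ⧸ I) C a)).trans
        ((π₁.commutes (Ideal.Quotient.mk I a)).symm.trans (congrArg π₁ (MvPolynomial.map_C (Ideal.Quotient.mk I) a).symm))
    · show π (X i) = π₁ (red (X i))
      exact (aeval_X _ i).trans (congrArg π₁ (MvPolynomial.map_X (Ideal.Quotient.mk I) i).symm)
  have hπ : Function.Surjective π := fun c => by
    obtain ⟨q, rfl⟩ := hπ₁ c
    obtain ⟨p, rfl⟩ := hred q
    exact ⟨p, hπeq p⟩
  choose lg hlg using fun q : G => hred q.1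
  let m := Fintype.card G
  let g : Fin m → P := fun j => lg ((Fintype.equivFin G).symm j)
  let J : Ideal P := RingHom.ker π
  have hkerred : RingHom.ker red = I.map MvPolynomial.C := by
    simp only [red]
    rw [MvPolynomial.ker_map, Ideal.mk_ker]
  have hJ : J = Ideal.span (Set.range g) ⊔ I.map MvPolynomial.C := by
    refine le_antisymm (fun p hp => ?_) (sup_le (Ideal.span_le.mpr ?_) (fun p hp => ?_))
    · have h1 : red p ∈ (Ideal.span (Set.range g)).map red := by
        have h2 : red p ∈ Ideal.span (↑G : Set _) := hG.ge (show π₁ (red p) = 0 from (hπeq p).symm.trans hp)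
        refine Ideal.span_le.mpr (fun q hq => ?_) h2
        rw [show q = red (lg ⟨q, hq⟩) from (hlg ⟨q, hq⟩).symm]
        refine Ideal.mem_map_of_mem _ (Ideal.subset_span ⟨Fintype.equivFin G ⟨q, hq⟩, ?_⟩)
        simp [g]
      rw [← hkerred]
      have := Ideal.mem_comap.mpr h1
      rwa [Ideal.comap_map_of_surjective _ hred, ← RingHom.ker_eq_comap_bot] at this
    · rintro _ ⟨j, rfl⟩
      show π (g j) = 0
      rw [hπeq, hlg]
      exact (hG.le (Ideal.subset_span ((Fintype.equivFin G).symm j).2) : _ ∈ RingHom.ker π₁.toRingHom)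
    · show π p = 0
      rw [hπeq, show red p = 0 from hkerred.ge hp, map_zero]
  have hgJ : ∀ j, g j ∈ J := fun j => hJ.ge (Ideal.mem_sup_left (Ideal.subset_span ⟨j, rfl⟩))
  obtain ⟨L, hL, hΛ⟩ := exists_matrix_of_formallySmooth I π hπ g J rfl hJ
  let D : Matrix (Fin n) (Fin m) P := Matrix.of fun i j => pderiv i (g j)
  let Lm : Matrix (Fin m) (Fin n) P := Matrix.of L
  have hΛ' : ∀ l j, ((Lm * D) * (Lm * D)) l j - (Lm * D) l j ∈ J := fun l j => by
    simpa [Matrix.mul_apply, Lm, D] using hΛ l j
  obtain ⟨U, _, _, _, e, hU, hee, heΛ⟩ := exists_idempotent_matrix_nbhd J (Lm * D) hΛ'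
  let : Algebra A U := Algebra.compHom U (algebraMap A P)
  have : IsScalarTower A P U := .of_algebraMap_eq' rfl
  let ι := algebraMap P U
  let JU := J.map ι
  let IU := I.map (algebraMap A U)
  have hIU : IU ≤ JU := by
    simp only [IU, JU]
    rw [IsScalarTower.algebraMap_eq A P U, ← Ideal.map_map]
    refine Ideal.map_mono (le_of_le_of_eq ?_ hJ.symm)
    exact le_sup_right
  let gU : Fin m → U := fun j => ι (g j)
  let g' : Fin m → U := Matrix.vecMul gU e
  have hg'e : Matrix.vecMul g' e = g' := by rw [Matrix.vecMul_vecMul, hee]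
  let K' : Ideal U := Ideal.span (Set.range g')
  have hg'J : ∀ j, g' j ∈ JU := fun j => show ∑ k, gU k * e k j ∈ JU from
    sum_mem fun k _ => Ideal.mul_mem_right _ _ (Ideal.mem_map_of_mem _ (hgJ k))
  have hK'J : K' ≤ JU := Ideal.span_le.mpr (by rintro _ ⟨j, rfl⟩; exact hg'J j)
  -- modulo the relations and `I`, the ideal of `C` is idempotent
  let q := Ideal.Quotient.mk (K' ⊔ IU)
  have hidem : IsIdempotentElem (JU.map q) := by
    refine le_antisymm Ideal.mul_le_left ?_
    rw [← pow_two, ← Ideal.map_pow, Ideal.map_le_iff_le_comap]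
    refine (Ideal.map_le_iff_le_comap (f := ι)).mpr ((le_of_eq hJ).trans ?_)
    refine sup_le (Ideal.span_le.mpr ?_) ?_
    · rintro _ ⟨j, rfl⟩
      have h1 : ι (g j - ∑ l, g l * ∑ i, L l i * pderiv i (g j)) ∈ JU ^ 2 ⊔ IU := by
        have := Ideal.mem_map_of_mem ι (hL j)
        rw [Ideal.map_sup, Ideal.map_pow] at this
        simp only [IU]
        rw [IsScalarTower.algebraMap_eq A P U, ← Ideal.map_map]
        exact this
      have h2 : ∑ l, gU l * (ι (∑ i, L l i * pderiv i (g j)) - e l j) ∈ JU ^ 2 := by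
        refine sum_mem fun l _ => ?_
        rw [pow_two]
        refine Ideal.mul_mem_mul (Ideal.mem_map_of_mem _ (hgJ l)) ?_
        rw [← neg_sub]
        refine neg_mem ?_
        have := heΛ l j
        simpa [Matrix.mul_apply, Lm, D] using this
      have h3 : q (ι (g j)) ∈ (JU ^ 2).map q := by
        have e1 : ι (g j) = ι (g j - ∑ l, g l * ∑ i, L l i * pderiv i (g j)) +
            ∑ l, gU l * (ι (∑ i, L l i * pderiv i (g j)) - e l j) + g' j := by
          simp only [map_sub, map_sum, map_mul, mul_sub, Finset.sum_sub_distrib, gU, g', Matrix.vecMul, dotProduct]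
          ring
        rw [e1, map_add, map_add, show q (g' j) = 0 from Ideal.Quotient.eq_zero_iff_mem.mpr
          (Ideal.mem_sup_left (Ideal.subset_span ⟨j, rfl⟩)), add_zero]
        refine add_mem ?_ (Ideal.mem_map_of_mem _ h2)
        obtain ⟨a, ha, b, hb, hab⟩ := Submodule.mem_sup.mp h1
        rw [← hab, map_add, show q b = 0 from Ideal.Quotient.eq_zero_iff_mem.mpr (Ideal.mem_sup_right hb), add_zero]
        exact Ideal.mem_map_of_mem _ ha
      simp only [SetLike.mem_coe, Ideal.mem_comap]
      exact h3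
    · refine Ideal.map_le_iff_le_comap.mpr fun a ha => ?_
      simp only [Ideal.mem_comap]
      rw [show q (ι (MvPolynomial.C a)) = 0 from Ideal.Quotient.eq_zero_iff_mem.mpr (Ideal.mem_sup_right (by
        simp only [IU]
        rw [IsScalarTower.algebraMap_eq A P U]
        exact Ideal.mem_map_of_mem _ ha))]
      exact zero_mem _
  have hfg : (JU.map q).FG := by
    have : JU.map q = (Ideal.span (Set.range gU)).map q := by
      simp only [JU]
      rw [hJ, Ideal.map_sup, Ideal.map_sup, Ideal.map_span, ← Set.range_comp,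
        show (((I.map MvPolynomial.C).map ι).map q) = ⊥ from ?_, sup_bot_eq]
      · rfl
      rw [Ideal.map_map, Ideal.map_map, Ideal.map_eq_bot_iff_le_ker]
      intro a ha
      refine Ideal.Quotient.eq_zero_iff_mem.mpr (Ideal.mem_sup_right ?_)
      simp only [IU]
      rw [IsScalarTower.algebraMap_eq A P U]
      exact Ideal.mem_map_of_mem _ ha
    rw [this]
    exact Ideal.FG.map (Submodule.fg_span (Set.finite_range gU)) q
  obtain ⟨ε, hε, hεJ⟩ := (Ideal.isIdempotentElem_iff_of_fg _ hfg).mp hidem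
  have hεJ' : JU.map q = Ideal.span {ε} := hεJ
  obtain ⟨s₀, hs₀⟩ := Ideal.Quotient.mk_surjective (1 - ε)
  have hs₁ : s₀ - 1 ∈ JU := by
    have h1 : q (s₀ - 1) ∈ JU.map q := by
      rw [hεJ', map_sub, hs₀, map_one]
      exact Ideal.mem_span_singleton'.mpr ⟨-1, by ring⟩
    have h2 := Ideal.mem_comap.mpr h1
    rw [Ideal.comap_map_of_surjective _ Ideal.Quotient.mk_surjective, ← RingHom.ker_eq_comap_bot, Ideal.mk_ker,
      sup_eq_left.mpr (sup_le hK'J hIU)] at h2
    exact h2
  have hsJ : ∀ x ∈ JU, s₀ * x ∈ K' ⊔ IU := fun x hx => by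
    obtain ⟨t, ht⟩ := Ideal.mem_span_singleton'.mp (hεJ'.le (Ideal.mem_map_of_mem q hx))
    refine Ideal.Quotient.eq_zero_iff_mem.mp ?_
    rw [map_mul, hs₀, ← ht]
    linear_combination (-t) * hε.eq
  -- the Jacobian
  choose c hc using fun x : U => exists_differential (A := A) (n := n) x
  let D' : Matrix (Fin n) (Fin m) U := Matrix.of fun i j =>
    ∑ k, (ι (pderiv i (g k)) * e k j + gU k * c (e k j) i)
  let M₁ : Matrix (Fin m) (Fin m) U := e * Lm.map ι * (D' * e)
  let Δ : Matrix (Fin m) (Fin m) U := M₁ - e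
  have hqe : ∀ l j, Ideal.Quotient.mk JU (e l j) = Ideal.Quotient.mk JU (ι ((Lm * D) l j)) :=
    fun l j => Ideal.Quotient.eq.mpr (heΛ l j)
  have hΔ : Δ.map (Ideal.Quotient.mk JU) = 0 := by
    let r := Ideal.Quotient.mk JU
    have hD' : D'.map r = (D.map ι).map r * e.map r := by
      ext i j
      simp only [Matrix.map_apply, Matrix.mul_apply, D', D, Matrix.of_apply, map_sum, map_add, map_mul]
      refine Finset.sum_congr rfl fun k _ => ?_
      rw [show r (gU k) = 0 from Ideal.Quotient.eq_zero_iff_mem.mpr (Ideal.mem_map_of_mem _ (hgJ k)), zero_mul,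
        add_zero]
    have hLD : (Lm.map ι).map r * (D.map ι).map r = e.map r := by
      rw [← Matrix.map_mul, ← Matrix.map_mul]
      ext l j
      exact (hqe l j).symm
    have h2 : e.map r * e.map r = e.map r := by rw [← Matrix.map_mul, hee]
    rw [Matrix.map_sub _ (fun a b => map_sub r a b), Matrix.map_mul, Matrix.map_mul, Matrix.map_mul, hD',
      sub_eq_zero]
    calc e.map r * (Lm.map ι).map r * ((D.map ι).map r * e.map r * e.map r)
        = e.map r * ((Lm.map ι).map r * (D.map ι).map r) * (e.map r * e.map r) := by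
          simp only [Matrix.mul_assoc]
      _ = e.map r := by rw [hLD]; simp only [h2]
  have hMe : M₁ * e = M₁ := by simp only [M₁, Matrix.mul_assoc, hee]
  let T : Matrix (Fin m) (Fin m) U := 1 + Δ
  have hTe : T * e = M₁ := by
    simp only [T, Δ, Matrix.add_mul, Matrix.sub_mul, Matrix.one_mul, hMe, hee]
    exact add_sub_cancel _ _
  have hdet : T.det - 1 ∈ JU := by
    rw [← Ideal.Quotient.eq, map_one, RingHom.map_det, RingHom.mapMatrix_apply,
      Matrix.map_add _ (fun a b => map_add _ a b), Matrix.map_one _ (map_zero _) (map_one _), hΔ, add_zero,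
      Matrix.det_one]
  let M₀ : Matrix (Fin m) (Fin n) U := T.adjugate * (e * Lm.map ι)
  have hM₀ : M₀ * (D' * e) = T.det • e := by
    rw [Matrix.mul_assoc, show (e * Lm.map ι) * (D' * e) = T * e from hTe.symm, ← Matrix.mul_assoc,
      Matrix.adjugate_mul, Matrix.smul_mul, Matrix.one_mul]
  let s : U := s₀ * T.det
  have hs1 : s - 1 ∈ JU := by
    rw [show s - 1 = s₀ * (T.det - 1) + (s₀ - 1) by simp only [s]; ring]
    exact add_mem (Ideal.mul_mem_left _ _ hdet) hs₁
  let Q := U ⧸ K'
  let R := Localization.Away (Ideal.Quotient.mk K' s)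
  have hPC : Algebra.FinitePresentation A U := Algebra.FinitePresentation.trans A P U
  have hQ : Algebra.FinitePresentation A Q := Algebra.FinitePresentation.quotient (Submodule.fg_span (Set.finite_range g'))
  have hR : Algebra.FinitePresentation A R := by
    have := IsLocalization.Away.finitePresentation (S := R) (Ideal.Quotient.mk K' s)
    exact Algebra.FinitePresentation.trans A Q R
  -- the map to `C`
  obtain ⟨τ, hτ⟩ := exists_toQuot_of_isPairNbhd J hU
  let θ : (P ⧸ J) →ₐ[A] C := Ideal.Quotient.liftₐ J π fun x hx => hx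
  let ψU : U →ₐ[A] C := θ.comp (τ.restrictScalars A)
  have hψU : ∀ x, ψU x = 0 ↔ x ∈ JU := fun x => by
    constructor
    · intro hx
      refine hτ x ?_
      obtain ⟨p, hp⟩ := Ideal.Quotient.mk_surjective (τ x)
      have : π p = 0 := by
        have h1 : θ (τ x) = 0 := hx
        rw [← hp] at h1
        exact h1
      rw [← hp]
      exact Ideal.Quotient.eq_zero_iff_mem.mpr this
    · intro hx
      show θ (τ x) = 0
      rw [map_mem_ker J τ hx, map_zero]
  have hψs : IsUnit (ψU s) := by
    have := (hψU _).mpr hs1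
    rw [map_sub, map_one, sub_eq_zero] at this
    rw [this]; exact isUnit_one
  let ψQ : Q →ₐ[A] C := Ideal.Quotient.liftₐ K' ψU fun x hx => (hψU x).mpr (hK'J hx)
  let ψ : R →ₐ[A] C := IsLocalization.Away.liftAlgHom (A := A) (Ideal.Quotient.mk K' s) (f := ψQ) hψs
  have hψ : ∀ x, ψ (algebraMap Q R (Ideal.Quotient.mk K' x)) = ψU x := fun x => by
    show IsLocalization.Away.lift (Ideal.Quotient.mk K' s) (g := ψQ.toRingHom) hψs (algebraMap Q R _) = _
    exact (IsLocalization.Away.lift_eq (S := R) (g := ψQ.toRingHom) (Ideal.Quotient.mk K' s) hψs _).trans rfl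
  refine ⟨R, inferInstance, inferInstance, { formallySmooth := ?_, finitePresentation := hR }, ψ, fun z => ?_, ?_⟩
  · refine Algebra.FormallySmooth.of_comp_surjective fun E _ _ J₀ hJ₀ f => ?_
    let fU : U →ₐ[A] E ⧸ J₀ :=
      f.comp ((IsScalarTower.toAlgHom A Q R).comp (Ideal.Quotient.mkₐ A K'))
    let xv : Fin n → E := fun i => (Ideal.Quotient.mk_surjective (fU (ι (X i)))).choose
    have hxv : ∀ i, Ideal.Quotient.mk J₀ (xv i) = fU (ι (X i)) := fun i =>
      (Ideal.Quotient.mk_surjective (fU (ι (X i)))).choose_spec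
    have hlift : ∀ y : Fin n → E, (∀ i, Ideal.Quotient.mk J₀ (y i) = fU (ι (X i))) →
        ∃ u : U →ₐ[A] E, (∀ i, u (ι (X i)) = y i) ∧ ∀ z, Ideal.Quotient.mk J₀ (u z) = fU z := by
      intro y hy
      let yP : P →ₐ[A] E := aeval y
      let : Algebra P E := yP.toRingHom.toAlgebra
      have hcomm : ∀ p, Ideal.Quotient.mk J₀ (yP p) = fU (ι p) := fun p =>
        AlgHom.congr_fun (MvPolynomial.algHom_ext (f := (Ideal.Quotient.mkₐ A J₀).comp yP)
          (g := fU.comp (IsScalarTower.toAlgHom A P U)) fun i => by simp [yP, hy]; rfl) p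
      let fP : U →ₐ[P] E ⧸ J₀ := AlgHom.mk fU.toRingHom fun p => (hcomm p).symm
      obtain ⟨u, hu⟩ := (Algebra.FormallyEtale.comp_bijective P U J₀ hJ₀).2 fP
      refine ⟨AlgHom.mk u.toRingHom fun a => ?_, fun i => ?_, fun z => AlgHom.congr_fun hu z⟩
      · show u (algebraMap A U a) = _
        rw [IsScalarTower.algebraMap_apply A P U, u.commutes]
        exact yP.commutes a
      · exact (u.commutes (X i)).trans (aeval_X _ i)
    obtain ⟨u, hux, huJ⟩ := hlift xv hxv
    have hnilJ : IsNilpotent J₀ := ⟨2, hJ₀⟩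
    have hsq : ∀ a ∈ J₀, ∀ b ∈ J₀, a * b = 0 := fun a ha b hb => by
      have := Ideal.mul_mem_mul ha hb
      rwa [← pow_two, hJ₀, Submodule.mem_bot] at this
    have hunit : ∀ (w : U →ₐ[A] E), (∀ z, Ideal.Quotient.mk J₀ (w z) = fU z) → IsUnit (w s) := fun w hw => by
      refine (IsNilpotent.isUnit_quotient_mk_iff hnilJ).mp ?_
      rw [hw]
      exact ((IsLocalization.Away.algebraMap_isUnit (S := R) (Ideal.Quotient.mk K' s)).map f :)
    obtain ⟨di, hdi⟩ : ∃ di, u T.det * di = 1 :=
      (isUnit_of_mul_isUnit_right (show IsUnit (u s₀ * u T.det) from map_mul u s₀ T.det ▸ hunit u huJ)).exists_right_inv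
    let cv : Fin m → E := fun j => u (g' j)
    have hcv : ∀ j, cv j ∈ J₀ := fun j => by
      rw [← Ideal.Quotient.eq_zero_iff_mem, huJ]
      show f (algebraMap Q R (Ideal.Quotient.mk K' (g' j))) = 0
      rw [Ideal.Quotient.eq_zero_iff_mem.mpr (Ideal.subset_span ⟨j, rfl⟩ : g' j ∈ K'), map_zero, map_zero]
    let t : Fin n → E := fun i => -(di * ∑ k, cv k * u (M₀ k i))
    have ht : ∀ i, t i ∈ J₀ := fun i =>
      neg_mem (Ideal.mul_mem_left _ _ (sum_mem fun k _ => Ideal.mul_mem_right _ _ (hcv k)))
    obtain ⟨w, hwx, hwJ⟩ := hlift (fun i => xv i + t i) fun i => by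
      rw [map_add, hxv, Ideal.Quotient.eq_zero_iff_mem.mpr (ht i), add_zero]
    have huw : ∀ z, w z - u z ∈ J₀ := fun z => Ideal.Quotient.eq.mp ((hwJ z).trans (huJ z).symm)
    have hdiff : ∀ z, w z - u z = ∑ i, u (c z i) * t i := fun z => by
      rw [hc z E J₀ hJ₀ u w huw]
      exact Finset.sum_congr rfl fun i _ => by rw [hwx, hux, add_sub_cancel_left]
    have hP : ∀ p : P, w (ι p) - u (ι p) = ∑ i, u (ι (pderiv i p)) * t i := by
      intro p
      induction p using MvPolynomial.induction_on with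
      | C a =>
        rw [show ι (MvPolynomial.C a) = algebraMap A U a from (IsScalarTower.algebraMap_apply A P U a).symm,
          w.commutes, u.commutes, sub_self]
        simp [pderiv_C]
      | add p p' hp hp' =>
        simp only [map_add, add_mul, Finset.sum_add_distrib, ← hp, ← hp']
        ring
      | mul_X p i hp =>
        simp only [map_mul, pderiv_mul, map_add, add_mul, Finset.sum_add_distrib]
        have h1 : ∑ x, u (ι p) * u (ι ((pderiv x) (X i))) * t x = u (ι p) * t i := by
          simp [pderiv_X, Pi.single_apply, apply_ite ι, apply_ite u, ite_mul, mul_ite, Finset.sum_ite_eq]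
        have h2 : ∑ x, u (ι (pderiv x p)) * u (ι (X i)) * t x = u (ι (X i)) * (w (ι p) - u (ι p)) := by
          rw [hp, Finset.mul_sum]
          exact Finset.sum_congr rfl fun x _ => by ring
        rw [h1, h2, hwx, hux]
        have := hsq _ (huw (ι p)) _ (ht i)
        linear_combination this
    have hδ : ∀ j, w (g' j) - u (g' j) = ∑ i, u (D' i j) * t i := by
      intro j
      have e1 : ∀ k, w (gU k * e k j) - u (gU k * e k j) =
          ∑ i, u (ι (pderiv i (g k)) * e k j + gU k * c (e k j) i) * t i := by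
        intro k
        have h1 := hsq _ (huw (gU k)) _ (huw (e k j))
        simp only [map_mul, map_add, add_mul, Finset.sum_add_distrib]
        have h2 : ∑ i, u (ι (pderiv i (g k))) * u (e k j) * t i = u (e k j) * (w (gU k) - u (gU k)) := by
          rw [show gU k = ι (g k) from rfl, hP, Finset.mul_sum]
          exact Finset.sum_congr rfl fun x _ => by ring
        have h3 : ∑ i, u (gU k) * u (c (e k j) i) * t i = u (gU k) * (w (e k j) - u (e k j)) := by
          rw [hdiff, Finset.mul_sum]
          exact Finset.sum_congr rfl fun x _ => by ring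
        rw [h2, h3]
        linear_combination h1
      simp only [g', D', Matrix.vecMul, dotProduct, Matrix.of_apply, map_sum, ← Finset.sum_sub_distrib, e1,
        Finset.sum_mul]
      exact Finset.sum_comm
    have hδe : ∀ j, w (g' j) - u (g' j) = ∑ k, (w (g' k) - u (g' k)) * u (e k j) := by
      intro j
      conv_lhs => rw [← hg'e]
      simp only [Matrix.vecMul, dotProduct, map_sum, map_mul, ← Finset.sum_sub_distrib]
      refine Finset.sum_congr rfl fun k _ => ?_
      have h1 := hsq _ (huw (g' k)) _ (huw (e k j))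
      have h2 := hsq _ (hcv k) _ (huw (e k j))
      simp only [cv] at h2
      linear_combination h1 + h2
    have hwg : ∀ j, w (g' j) = 0 := by
      intro j
      have h1 : w (g' j) - u (g' j) = ∑ i, u ((D' * e) i j) * t i := by
        rw [hδe]
        simp only [hδ, Matrix.mul_apply, map_sum, map_mul, Finset.sum_mul]
        rw [Finset.sum_comm]
        exact Finset.sum_congr rfl fun i _ => Finset.sum_congr rfl fun k _ => by ring
      have h2 : ∑ i, u ((D' * e) i j) * (∑ k, cv k * u (M₀ k i)) = u T.det * cv j := by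
        have h3 : ∑ i, u ((D' * e) i j) * (∑ k, cv k * u (M₀ k i)) = ∑ k, cv k * u ((M₀ * (D' * e)) k j) := by
          simp only [Matrix.mul_apply (M := M₀), map_sum, map_mul, Finset.mul_sum]
          rw [Finset.sum_comm]
          exact Finset.sum_congr rfl fun k _ => Finset.sum_congr rfl fun i _ => by ring
        rw [h3]
        simp only [hM₀, Matrix.smul_apply, smul_eq_mul, map_mul]
        have h4 : cv j = ∑ k, cv k * u (e k j) := by
          simp only [cv]
          conv_lhs => rw [← hg'e]
          simp [Matrix.vecMul, dotProduct]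
        rw [h4, Finset.mul_sum]
        exact Finset.sum_congr rfl fun k _ => by ring
      have h5 : ∑ i, u ((D' * e) i j) * t i = -(di * ∑ i, u ((D' * e) i j) * (∑ k, cv k * u (M₀ k i))) := by
        rw [Finset.mul_sum, ← Finset.sum_neg_distrib]
        exact Finset.sum_congr rfl fun i _ => by simp only [t]; ring
      rw [h5, h2] at h1
      simp only [cv] at h1
      linear_combination h1 - u (g' j) * hdi
    let wQ : Q →ₐ[A] E := Ideal.Quotient.liftₐ K' w fun x hx =>
      (Ideal.span_le (I := RingHom.ker w)).mpr (by rintro _ ⟨j, rfl⟩; exact hwg j) hx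
    refine ⟨IsLocalization.Away.liftAlgHom (A := A) (Ideal.Quotient.mk K' s) (f := wQ) (hunit w hwJ),
      IsLocalization.algHom_ext (Submonoid.powers (Ideal.Quotient.mk K' s)) (Ideal.Quotient.algHom_ext A
        (AlgHom.ext fun x => ?_))⟩
    show Ideal.Quotient.mk J₀ (IsLocalization.Away.liftAlgHom (A := A) (Ideal.Quotient.mk K' s) (f := wQ) (hunit w hwJ)
      (algebraMap Q R (Ideal.Quotient.mk K' x))) = f (algebraMap Q R (Ideal.Quotient.mk K' x))
    refine Eq.trans (congrArg _ ?_) (hwJ x)
    exact (IsLocalization.Away.lift_eq (S := R) (g := wQ.toRingHom) (Ideal.Quotient.mk K' s) (hunit w hwJ) _).trans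
      rfl
  · obtain ⟨p, rfl⟩ := hπ z
    refine ⟨algebraMap Q R (Ideal.Quotient.mk K' (ι p)), ?_⟩
    rw [hψ]
    show θ (τ (algebraMap P U p)) = _
    rw [τ.commutes]
    rfl
  · refine le_antisymm (fun z hz => ?_) (Ideal.map_le_iff_le_comap.mpr fun a ha => ?_)
    · obtain ⟨x, y, rfl⟩ := IsLocalization.exists_mk'_eq (Submonoid.powers (Ideal.Quotient.mk K' s)) z
      obtain ⟨x, rfl⟩ := Ideal.Quotient.mk_surjective x
      have h0 : ψU x = 0 := by
        rw [← hψ, ← IsLocalization.mk'_spec R (Ideal.Quotient.mk K' x) y, map_mul ψ, show ψ _ = 0 from hz, zero_mul]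
      have h1 : s * x ∈ K' ⊔ IU := by
        rw [show s * x = s₀ * (T.det * x) by simp only [s]; ring]
        exact hsJ _ (Ideal.mul_mem_left _ _ ((hψU x).mp h0))
      have h2 := Ideal.mem_map_of_mem ((algebraMap Q R).comp (Ideal.Quotient.mk K')) h1
      rw [map_mul ((algebraMap Q R).comp (Ideal.Quotient.mk K')) s x, Ideal.map_sup,
        show K'.map ((algebraMap Q R).comp (Ideal.Quotient.mk K')) = ⊥ by
          rw [← Ideal.map_map, Ideal.map_quotient_self, Ideal.map_bot], bot_sup_eq, Ideal.map_map,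
        show ((algebraMap Q R).comp (Ideal.Quotient.mk K')).comp (algebraMap A U) = algebraMap A R from rfl,
        RingHom.comp_apply, RingHom.comp_apply,
        Ideal.unit_mul_mem_iff_mem _ (IsLocalization.Away.algebraMap_isUnit (S := R) (Ideal.Quotient.mk K' s))] at h2
      rw [← Ideal.mul_unit_mem_iff_mem _ (IsLocalization.map_units R y), IsLocalization.mk'_spec]
      exact h2
    · show ψ (algebraMap A R a) = 0
      rw [ψ.commutes, IsScalarTower.algebraMap_apply A (A ⧸ I) C, Ideal.Quotient.algebraMap_eq,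
        Ideal.Quotient.eq_zero_iff_mem.mpr ha, map_zero]

end main

end Groth.Agent.Hensel
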