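import Groth.Agent.Hensel.Hfp
import Groth.Agent.Hensel.Henselization
import Groth.Agent.Hensel.PairBasic

/-! A henselian algebra whose `Hom` commutes with filtered colimits of henselian pairs is henselian fp. -/

set_option autoImplicit false

namespace Groth.Agent.Hensel

universe u

section dl

variable {A : Type u} [CommRing A] {κ : Type u} [Preorder κ] [IsDirectedOrder κ] [Nonempty κ]
  {Ra : κ → Type u} [∀ a, CommRing (Ra a)] [∀ a, Algebra A (Ra a)] {t : ∀ a b : κ, a ≤ b → (Ra a →+* Ra b)}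
  [DirectedSystem Ra (fun a b hab => t a b hab)]
  (ht : ∀ (a b : κ) (hab : a ≤ b), (t a b hab).comp (algebraMap A (Ra a)) = algebraMap A (Ra b))

include ht in
theorem algebraMap_directLimit (a₀ a : κ) (x : A) :
    DirectLimit.Ring.of Ra t a₀ (algebraMap A (Ra a₀) x) = DirectLimit.Ring.of Ra t a (algebraMap A (Ra a) x) := by
  obtain ⟨c, h0, h1⟩ := exists_ge_ge a₀ a
  have h := fun (i : κ) (hi : i ≤ c) => show t i c hi (algebraMap A (Ra i) x) = algebraMap A (Ra c) x from
    DFunLike.congr_fun (ht i c hi) x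
  rw [← DirectLimit.Ring.of_f (f := t) h0, ← DirectLimit.Ring.of_f (f := t) h1, h a₀ h0, h a h1]

end dl

variable {A : Type u} [CommRing A] (I : Ideal A) {B : Type u} [CommRing B] [Algebra A B]
  [HenselianRing B (I.map (algebraMap A B))]

theorem henselianRing_of_surjective {S T : Type u} [CommRing S] [CommRing T] [Algebra A S] [Algebra A T]
    (φ : S →ₐ[A] T) (hφ : Function.Surjective φ) (h : HenselianRing S (I.map (algebraMap A S))) :
    HenselianRing T (I.map (algebraMap A T)) := by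
  let : Algebra S T := φ.toRingHom.toAlgebra
  have : Algebra.IsIntegral S T := ⟨fun y => by obtain ⟨x, rfl⟩ := hφ y; exact isIntegral_algebraMap⟩
  have := henselianRing_of_isIntegral' (I.map (algebraMap A S)) T
  rwa [Ideal.map_map, show (algebraMap S T).comp (algebraMap A S) = algebraMap A T from φ.comp_algebraMap] at this

/-- The colimit condition. -/
def CommutesColim (B : Type u) [CommRing B] [Algebra A B] : Prop :=
    ∀ (κ : Type u) [Preorder κ] [IsDirectedOrder κ] [Nonempty κ]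
      (Ra : κ → Type u) [∀ a, CommRing (Ra a)] [∀ a, Algebra A (Ra a)]
      [∀ a, HenselianRing (Ra a) (I.map (algebraMap A (Ra a)))]
      (t : ∀ a b : κ, a ≤ b → (Ra a →+* Ra b)) [DirectedSystem Ra (fun a b hab => t a b hab)],
      (∀ (a b : κ) (hab : a ≤ b), (t a b hab).comp (algebraMap A (Ra a)) = algebraMap A (Ra b)) →
      ∀ [Algebra A (DirectLimit Ra t)],
      (∀ (a : κ) (x : A), algebraMap A (DirectLimit Ra t) x =
        DirectLimit.Ring.of Ra t a (algebraMap A (Ra a) x)) →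
      (∀ χ : B →ₐ[A] DirectLimit Ra t, ∃ (a : κ) (φ : B →ₐ[A] Ra a),
          ∀ x : B, DirectLimit.Ring.of Ra t a (φ x) = χ x) ∧
      ∀ (a : κ) (φ ψ : B →ₐ[A] Ra a),
        (∀ x : B, DirectLimit.Ring.of Ra t a (φ x) = DirectLimit.Ring.of Ra t a (ψ x)) →
        ∃ (b : κ) (hab : a ≤ b), ∀ x : B, t a b hab (φ x) = t a b hab (ψ x)

/-- A system over `B` whose limit is `B`: the identity factors through a stage. -/
theorem exists_section_of_bijective {B : Type u} [CommRing B] [Algebra A B] (h : CommutesColim I B) {κ : Type u} [Preorder κ] [IsDirectedOrder κ] [Nonempty κ]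
    (Ra : κ → Type u) [∀ a, CommRing (Ra a)] [∀ a, Algebra A (Ra a)]
    (hR : ∀ a, HenselianRing (Ra a) (I.map (algebraMap A (Ra a))))
    (t : ∀ a b : κ, a ≤ b → (Ra a →ₐ[A] Ra b)) [DirectedSystem Ra (fun a b hab => t a b hab)]
    (π : ∀ a, Ra a →ₐ[A] B) (hπ : ∀ a b (hab : a ≤ b) (x : Ra a), π b (t a b hab x) = π a x)
    (hinj : ∀ a (x : Ra a), π a x = 0 → ∃ (b : κ) (hab : a ≤ b), t a b hab x = 0)
    (hsurj : ∀ y : B, ∃ (a : κ) (x : Ra a), π a x = y) :
    ∃ (a : κ) (σ : B →ₐ[A] Ra a), ∀ y, π a (σ y) = y := by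
  let t' : ∀ a b : κ, a ≤ b → (Ra a →+* Ra b) := fun a b hab => (t a b hab : Ra a →+* Ra b)
  haveI : DirectedSystem Ra (fun a b hab => t' a b hab) :=
    ⟨fun a x => DirectedSystem.map_self (f := fun a b hab => t a b hab) x,
      fun {_ _ _} h1 h2 x => DirectedSystem.map_map (f := fun a b hab => t a b hab) h1 h2 x⟩
  have ht : ∀ (a b : κ) (hab : a ≤ b), (t' a b hab).comp (algebraMap A (Ra a)) = algebraMap A (Ra b) :=
    fun a b hab => (t a b hab).comp_algebraMap
  obtain ⟨a₀⟩ := ‹Nonempty κ›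
  letI : Algebra A (DirectLimit Ra t') := ((DirectLimit.Ring.of Ra t' a₀).comp (algebraMap A (Ra a₀))).toAlgebra
  have halg : ∀ (a : κ) (x : A), algebraMap A (DirectLimit Ra t') x =
      DirectLimit.Ring.of Ra t' a (algebraMap A (Ra a) x) := fun a x => algebraMap_directLimit ht a₀ a x
  let lam₀ : DirectLimit Ra t' →+* B :=
    DirectLimit.Ring.lift Ra t' B (fun a => (π a : Ra a →+* B)) fun a b hab x => hπ a b hab x
  have hlam : ∀ a x, lam₀ (DirectLimit.Ring.of Ra t' a x) = π a x := fun a x => rfl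
  have hcl : ∀ x, lam₀ (algebraMap A (DirectLimit Ra t') x) = algebraMap A B x := fun x => by
    rw [halg a₀, hlam, AlgHom.commutes]
  let lam : DirectLimit Ra t' →ₐ[A] B := { lam₀ with commutes' := hcl }
  have hbij : Function.Bijective lam := by
    refine ⟨(injective_iff_map_eq_zero _).mpr fun z hz => ?_, fun y => ?_⟩
    · induction z using DirectLimit.induction with
      | _ a x =>
        obtain ⟨b, hab, hb⟩ := hinj a x hz
        show DirectLimit.Ring.of Ra t' a x = 0
        rw [← DirectLimit.Ring.of_f (f := t') hab, show t' a b hab x = 0 from hb, map_zero]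
    · obtain ⟨a, x, rfl⟩ := hsurj y
      exact ⟨DirectLimit.Ring.of Ra t' a x, rfl⟩
  let E := AlgEquiv.ofBijective lam hbij
  obtain ⟨a, σ, hσ⟩ := (@h κ _ _ _ Ra _ _ hR t' _ ht _ halg).1 E.symm.toAlgHom
  exact ⟨a, σ, fun y => by rw [← hlam, hσ]; exact E.apply_symm_apply y⟩

theorem exists_model_of_commutesColim [HenselianRing A I] (h : CommutesColim I B) :
    ∃ (R : Type u) (_ : CommRing R) (_ : Algebra A R) (_ : Algebra R B) (_ : IsScalarTower A R B),
      Algebra.FinitePresentation A R ∧ Hens2.IsPairHenselization R (I.map (algebraMap A R)) B := by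
  classical
  -- henselisations of polynomial rings mapping to `B`
  let P : Finset B → Type u := fun s => MvPolynomial {x // x ∈ s} A
  let H : Finset B → Type u := fun s => PairHenz (P s) (I.map (algebraMap A (P s)))
  letI : ∀ s, Algebra A (H s) := fun s => Algebra.compHom (H s) (algebraMap A (P s))
  haveI : ∀ s, IsScalarTower A (P s) (H s) := fun s => IsScalarTower.of_algebraMap_eq' rfl
  have hH : ∀ s, Hens2.IsPairHenselization (P s) (I.map (algebraMap A (P s))) (H s) :=
    fun s => isPairHenselization_pairHenz _ _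
  have hHI : ∀ s, (I.map (algebraMap A (P s))).map (algebraMap (P s) (H s)) = I.map (algebraMap A (H s)) := fun s => by
    rw [Ideal.map_map, ← IsScalarTower.algebraMap_eq]
  have hHh : ∀ s, HenselianRing (H s) (I.map (algebraMap A (H s))) := fun s => hHI s ▸ (hH s).1
  have hlift : ∀ (s : Finset B) {C : Type u} [CommRing C] [Algebra A C],
      HenselianRing C (I.map (algebraMap A C)) → ∀ f g : H s →ₐ[A] C,
      (∀ i, f (algebraMap (P s) (H s) (MvPolynomial.X i)) = g (algebraMap (P s) (H s) (MvPolynomial.X i))) → f = g := by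
    intro s C _ _ hC f g hfg
    have hP : f.comp (IsScalarTower.toAlgHom A (P s) (H s)) = g.comp (IsScalarTower.toAlgHom A (P s) (H s)) :=
      MvPolynomial.algHom_ext hfg
    obtain ⟨u, -, hu⟩ := (hH s).2 C (I.map (algebraMap A C)) ((f : H s →+* C).comp (algebraMap (P s) (H s))) hC
      (le_of_eq (by rw [Ideal.map_map, RingHom.comp_assoc, ← IsScalarTower.algebraMap_eq, AlgHom.comp_algebraMap]))
    exact AlgHom.coe_ringHom_injective ((hu _ rfl).trans
      (hu (g : H s →+* C) (congrArg AlgHom.toRingHom hP).symm).symm)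
  have hψ : ∀ s, ∃ ψ : H s →ₐ[A] B, ∀ i : {x // x ∈ s}, ψ (algebraMap (P s) (H s) (MvPolynomial.X i)) = i.1 := by
    intro s
    let f : P s →ₐ[A] B := MvPolynomial.aeval fun i : {x // x ∈ s} => i.1
    obtain ⟨ψ, hψ, -⟩ := (hH s).2 B (I.map (algebraMap A B)) (f : P s →+* B) inferInstance
      (le_of_eq (by rw [Ideal.map_map, AlgHom.comp_algebraMap]))
    have hc : ∀ a, ψ (algebraMap A (H s) a) = algebraMap A B a := fun a => by
      show ψ (algebraMap (P s) (H s) (algebraMap A (P s) a)) = _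
      rw [← RingHom.comp_apply ψ, hψ]
      exact f.commutes a
    refine ⟨{ ψ with commutes' := hc }, fun i => ?_⟩
    · show ψ (algebraMap (P s) (H s) (MvPolynomial.X i)) = _
      rw [← RingHom.comp_apply ψ, hψ]
      exact MvPolynomial.aeval_X _ i
  choose ψ hψ using hψ
  have hmono : ∀ {s s' : Finset B}, s ≤ s' → (ψ s).range ≤ (ψ s').range := by
    intro s s' hss
    let f : P s →ₐ[A] H s' := MvPolynomial.aeval fun i : {x // x ∈ s} =>
      algebraMap (P s') (H s') (MvPolynomial.X (⟨i.1, hss i.2⟩ : {x // x ∈ s'}))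
    obtain ⟨g, hg, -⟩ := (hH s).2 (H s') (I.map (algebraMap A (H s'))) (f : P s →+* H s') (hHh s')
      (le_of_eq (by rw [Ideal.map_map, AlgHom.comp_algebraMap]))
    have hc : ∀ a, g (algebraMap A (H s) a) = algebraMap A (H s') a := fun a => by
      show g (algebraMap (P s) (H s) (algebraMap A (P s) a)) = _
      rw [← RingHom.comp_apply g, hg]
      exact f.commutes a
    let G : H s →ₐ[A] H s' := { g with commutes' := hc }
    have : (ψ s').comp G = ψ s := hlift s inferInstance _ _ fun i => by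
      show ψ s' (g (algebraMap (P s) (H s) (MvPolynomial.X i))) = _
      rw [← RingHom.comp_apply g, hg, hψ]
      exact (congrArg (ψ s') (MvPolynomial.aeval_X _ i)).trans (hψ s' ⟨i.1, hss i.2⟩)
    rw [← this]
    exact AlgHom.range_comp_le_range _ _
  -- the identity factors through a range
  haveI : DirectedSystem (fun s : Finset B => (ψ s).range) (fun _ _ h => Subalgebra.inclusion (hmono h)) :=
    ⟨fun _ _ => rfl, fun _ _ _ _ _ _ => rfl⟩
  obtain ⟨s, σ, hσ⟩ := exists_section_of_bijective I h (fun s : Finset B => (ψ s).range)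
    (fun s => henselianRing_of_surjective I (ψ s).rangeRestrict (ψ s).rangeRestrict_surjective (hHh s))
    (fun _ _ h => Subalgebra.inclusion (hmono h)) (fun s => (ψ s).range.val) (fun _ _ _ _ => rfl)
    (fun s x hx => ⟨s, le_rfl, Subtype.ext hx⟩)
    (fun y => ⟨{y}, ⟨y, _, hψ {y} ⟨y, Finset.mem_singleton_self y⟩⟩, rfl⟩)
  have hsurj : Function.Surjective (ψ s) := fun y => by
    obtain ⟨z, hz⟩ := (σ y).2
    exact ⟨z, hz.trans (hσ y)⟩
  -- the kernel is finitely generated
  let K := RingHom.ker (ψ s)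
  let κ := {J : Ideal (H s) // J.FG ∧ J ≤ K}
  haveI : Nonempty κ := ⟨⟨⊥, Submodule.fg_bot, bot_le⟩⟩
  haveI : IsDirectedOrder κ := ⟨fun J J' => ⟨⟨J.1 ⊔ J'.1, Submodule.FG.sup J.2.1 J'.2.1, sup_le J.2.2 J'.2.2⟩,
    le_sup_left (a := J.1), le_sup_right (b := J'.1)⟩⟩
  haveI : DirectedSystem (fun J : κ => H s ⧸ J.1) (fun _ _ h => Ideal.Quotient.factorₐ A h) :=
    ⟨fun _ x => by obtain ⟨x, rfl⟩ := Ideal.Quotient.mk_surjective x; rfl,
      fun {_ _ _} _ _ x => by obtain ⟨x, rfl⟩ := Ideal.Quotient.mk_surjective x; rfl⟩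
  have hq : ∀ J : κ, HenselianRing (H s ⧸ J.1) (I.map (algebraMap A (H s ⧸ J.1))) := fun J =>
    henselianRing_of_surjective I (Ideal.Quotient.mkₐ A J.1) Ideal.Quotient.mk_surjective (hHh s)
  obtain ⟨J₀, τ, hτ⟩ := exists_section_of_bijective I h (fun J : κ => H s ⧸ J.1) hq
    (fun _ _ h => Ideal.Quotient.factorₐ A h)
    (fun J => Ideal.Quotient.liftₐ J.1 (ψ s) J.2.2)
    (fun _ _ _ x => by obtain ⟨x, rfl⟩ := Ideal.Quotient.mk_surjective x; rfl)
    (fun J x hx => by
      obtain ⟨x, rfl⟩ := Ideal.Quotient.mk_surjective x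
      refine ⟨⟨J.1 ⊔ Ideal.span {x}, Submodule.FG.sup J.2.1 (Submodule.fg_span_singleton x),
        sup_le J.2.2 ((Ideal.span_singleton_le_iff_mem K).mpr hx)⟩, le_sup_left (a := J.1), ?_⟩
      exact Ideal.Quotient.eq_zero_iff_mem.mpr (Ideal.mem_sup_right (Ideal.mem_span_singleton_self x)))
    (fun y => ⟨⟨⊥, Submodule.fg_bot, bot_le⟩, Ideal.Quotient.mk _ (hsurj y).choose, (hsurj y).choose_spec⟩)
  choose v hv using fun y => Ideal.Quotient.mk_surjective (τ y)
  let x : {x // x ∈ s} → H s := fun i => algebraMap (P s) (H s) (MvPolynomial.X i)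
  let J₁ : Ideal (H s) := J₀.1 ⊔ Ideal.span (Set.range fun i => x i - v (ψ s (x i)))
  have hvK : ∀ y, ψ s (v y) = y := fun y => by
    conv_rhs => rw [← hτ y, ← hv y]
    rfl
  have hJ₁ : J₁ ≤ K := sup_le J₀.2.2 (Ideal.span_le.mpr (by
    rintro _ ⟨i, rfl⟩
    show ψ s _ = 0
    rw [map_sub, hvK, sub_self]))
  have heq : Ideal.Quotient.mkₐ A J₁ =
      ((Ideal.Quotient.factorₐ A (le_sup_left : J₀.1 ≤ J₁)).comp τ).comp (ψ s) := by
    refine hlift s (henselianRing_of_surjective I (Ideal.Quotient.mkₐ A J₁) Ideal.Quotient.mk_surjective (hHh s)) _ _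
      fun i => ?_
    show Ideal.Quotient.mk J₁ (x i) = Ideal.Quotient.factor (le_sup_left : J₀.1 ≤ J₁) (τ (ψ s (x i)))
    rw [← hv, Ideal.Quotient.factor_mk, Ideal.Quotient.eq]
    exact Ideal.mem_sup_right (Ideal.subset_span ⟨i, rfl⟩)
  have hKfg : K.FG := by
    rw [le_antisymm (b := J₁) (fun z hz => ?_) hJ₁]
    · exact Submodule.FG.sup J₀.2.1 (Submodule.fg_span (Set.finite_range _))
    · rw [← Ideal.Quotient.eq_zero_iff_mem]
      show Ideal.Quotient.mkₐ A J₁ z = 0
      rw [heq, AlgHom.comp_apply, show ψ s z = 0 from hz, map_zero]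
  exact exists_model_of_surjective I (R := P s) (hH s) (ψ s) hsurj hKfg

end Groth.Agent.Hensel
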