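import Groth.Agent.Hensel.Local

namespace Groth.Agent.Hensel

universe u v w

theorem existsUnique_algHom_of_residueField (R : Type v) [CommRing R]
    (S : Type u) [CommRing S] [HenselianLocalRing S] [Algebra R S]
    (A : Type w) [CommRing A] [Algebra R A] [Algebra.Etale R A] (q : Ideal A) [q.IsPrime]
    (τ : q.ResidueField →+* IsLocalRing.ResidueField S)
    (hτ : τ.comp (algebraMap R q.ResidueField) = (IsLocalRing.residue S).comp (algebraMap R S)) :
    ∃! f : A →ₐ[R] S, Ideal.comap f.toRingHom (IsLocalRing.maximalIdeal S) = q ∧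
      ∀ a : A, IsLocalRing.residue S (f a) = τ (algebraMap A q.ResidueField a) := by
  let σ : A →ₐ[R] S ⧸ IsLocalRing.maximalIdeal S :=
    { τ.comp (algebraMap A q.ResidueField) with
      commutes' := fun r => by
        show τ (algebraMap A q.ResidueField (algebraMap R A r)) = _
        rw [← IsScalarTower.algebraMap_apply R A q.ResidueField]
        exact congr($hτ r) }
  obtain ⟨f, hf, huniq⟩ := existsUnique_etale_lift_of_algebra (IsLocalRing.maximalIdeal S) σ
  have hres : ∀ a, IsLocalRing.residue S (f a) = τ (algebraMap A q.ResidueField a) :=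
    fun a => congr($hf a)
  refine ⟨f, ⟨?_, hres⟩, fun g hg => huniq g (AlgHom.ext fun a => hg.2 a)⟩
  ext a
  rw [Ideal.mem_comap, AlgHom.toRingHom_eq_coe, RingHom.coe_coe, ← IsLocalRing.residue_eq_zero_iff,
    hres, map_eq_zero, Ideal.algebraMap_residueField_eq_zero]

end Groth.Agent.Hensel
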