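import Groth.Agent.Hensel.HfpFinite
import Groth.Agent.Hensel.PairNbhd

/-!
# Splitting off the finite part after an étale neighbourhood
-/

noncomputable section

namespace Groth.Agent.Hensel

universe u

open MvPolynomial

section stages

variable {A K : Type u} [CommRing A] [CommRing K] [Algebra A K] {σ : Type*}

theorem exists_ofB_list (N : Nbhd A K) (s : Finset (Henz A K)) :
    ∃ (M : Nbhd A K) (α : N.B →ₐ[A] M.B), M.toK.comp α = N.toK ∧ ∀ z ∈ s, ∃ b, Henz.ofB M b = z := by
  classical
  induction s using Finset.induction with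
  | empty => exact ⟨N, AlgHom.id A _, AlgHom.comp_id _, by simp⟩
  | insert a t _ ih =>
    obtain ⟨M, α, hα, h⟩ := ih
    obtain ⟨M', b, rfl⟩ := Henz.exists_ofB a
    obtain ⟨P, β, γ, hβ, hγ⟩ := M.exists_hom₂ M'
    refine ⟨P, β.comp α, by rw [← AlgHom.comp_assoc, hβ, hα], fun z hz => ?_⟩
    rcases Finset.mem_insert.mp hz with rfl | hz
    · exact ⟨γ b, congr($(Henz.ofB_comp γ hγ) b)⟩
    · obtain ⟨y, rfl⟩ := h z hz
      exact ⟨β y, congr($(Henz.ofB_comp β hβ) y)⟩

theorem exists_lift_mvPolynomial (N : Nbhd A K) (p : MvPolynomial σ (Henz A K)) :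
    ∃ (M : Nbhd A K) (α : N.B →ₐ[A] M.B), M.toK.comp α = N.toK ∧
      ∃ q : MvPolynomial σ M.B, map (Henz.ofB M).toRingHom q = p := by
  classical
  induction p using MvPolynomial.induction_on'' generalizing N with
  | C c =>
    obtain ⟨M, α, hα, h⟩ := exists_ofB_list N {c}
    obtain ⟨b, hb⟩ := h c (Finset.mem_singleton_self c)
    exact ⟨M, α, hα, C b, by simpa using hb⟩
  | monomial_add d c f _ _ ihf _ =>
    obtain ⟨M, α, hα, q, hq⟩ := ihf N
    obtain ⟨P, β, hβ, h⟩ := exists_ofB_list M {c}
    obtain ⟨b, hb⟩ := h c (Finset.mem_singleton_self c)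
    refine ⟨P, β.comp α, by rw [← AlgHom.comp_assoc, hβ, hα], monomial d b + map β.toRingHom q, ?_⟩
    rw [map_add, map_monomial, map_map, show (Henz.ofB P).toRingHom b = c from hb, ← hq, ← Henz.ofB_comp β hβ]
    rfl
  | mul_X p i ih =>
    obtain ⟨M, α, hα, q, hq⟩ := ih N
    exact ⟨M, α, hα, q * X i, by rw [map_mul, hq, map_X]⟩

theorem exists_map_eq_zero (N : Nbhd A K) (q : MvPolynomial σ N.B) (h : map (Henz.ofB N).toRingHom q = 0) :
    ∃ (M : Nbhd A K) (α : N.B →ₐ[A] M.B), M.toK.comp α = N.toK ∧ map α.toRingHom q = 0 := by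
  classical
  suffices h' : ∀ s : Finset (σ →₀ ℕ), ∃ (M : Nbhd A K) (α : N.B →ₐ[A] M.B),
      M.toK.comp α = N.toK ∧ ∀ d ∈ s, α (coeff d q) = 0 by
    obtain ⟨M, α, hα, h0⟩ := h' q.support
    refine ⟨M, α, hα, MvPolynomial.ext _ _ fun d => ?_⟩
    rw [coeff_map, coeff_zero]
    by_cases hd : d ∈ q.support
    · exact h0 d hd
    · rw [notMem_support_iff.mp hd]; exact map_zero _
  intro s
  induction s using Finset.induction with
  | empty => exact ⟨N, AlgHom.id A _, AlgHom.comp_id _, by simp⟩
  | insert d t _ ih =>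
    obtain ⟨M, α, hα, h0⟩ := ih
    obtain ⟨P, β, hβ, hd⟩ := Henz.exists_of_ofB_eq_zero (N := M) (b := α (coeff d q)) (by
      rw [← AlgHom.comp_apply, Henz.ofB_comp α hα]
      have := congr(coeff d $h)
      rwa [coeff_map, coeff_zero] at this)
    refine ⟨P, β.comp α, by rw [← AlgHom.comp_assoc, hβ, hα], fun z hz => ?_⟩
    rcases Finset.mem_insert.mp hz with rfl | hz
    · exact hd
    · rw [AlgHom.comp_apply, h0 z hz, map_zero]

theorem map_map_algebraMap {N M : Nbhd A K} (α : N.B →ₐ[A] M.B) (x : MvPolynomial σ A) :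
    map α.toRingHom (map (algebraMap A N.B) x) = map (algebraMap A M.B) x := by
  rw [map_map, show α.toRingHom.comp (algebraMap A N.B) = algebraMap A M.B from α.comp_algebraMap]

theorem map_mem_map_map {N M : Nbhd A K} (α : N.B →ₐ[A] M.B) (J : Ideal (MvPolynomial σ A))
    {q : MvPolynomial σ N.B} (h : q ∈ J.map (map (algebraMap A N.B))) :
    map α.toRingHom q ∈ J.map (map (algebraMap A M.B)) := by
  have := Ideal.mem_map_of_mem (map α.toRingHom) h
  rwa [Ideal.map_map, show (map α.toRingHom).comp (map (algebraMap A N.B)) = map (algebraMap A M.B) from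
    RingHom.ext (map_map_algebraMap α)] at this

/-- Membership in an extended ideal descends to a stage. -/
theorem exists_mem_map (J : Ideal (MvPolynomial σ A)) (N : Nbhd A K) (q : MvPolynomial σ N.B)
    (h : map (Henz.ofB N).toRingHom q ∈ J.map (map (algebraMap A (Henz A K)))) :
    ∃ (M : Nbhd A K) (α : N.B →ₐ[A] M.B), M.toK.comp α = N.toK ∧
      map α.toRingHom q ∈ J.map (map (algebraMap A M.B)) := by
  suffices h' : ∀ p ∈ J.map (map (algebraMap A (Henz A K))), ∀ N : Nbhd A K, ∃ (M : Nbhd A K)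
      (α : N.B →ₐ[A] M.B), M.toK.comp α = N.toK ∧
        ∃ r ∈ J.map (map (algebraMap A M.B)), map (Henz.ofB M).toRingHom r = p by
    obtain ⟨M, α, hα, r, hr, hrp⟩ := h' _ h N
    obtain ⟨P, β, hβ, h0⟩ := exists_map_eq_zero M (map α.toRingHom q - r) (by
      rw [map_sub, hrp, map_map, sub_eq_zero, ← Henz.ofB_comp α hα]; rfl)
    refine ⟨P, β.comp α, by rw [← AlgHom.comp_assoc, hβ, hα], ?_⟩
    rw [map_sub, sub_eq_zero, map_map] at h0
    rw [show (β.comp α).toRingHom = β.toRingHom.comp α.toRingHom from rfl, h0]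
    exact map_mem_map_map β J hr
  intro p hp
  induction hp using Submodule.span_induction with
  | mem x hx =>
    obtain ⟨y, hy, rfl⟩ := hx
    refine fun N => ⟨N, AlgHom.id A _, AlgHom.comp_id _, _, Ideal.mem_map_of_mem _ hy, ?_⟩
    rw [map_map, show (Henz.ofB N).toRingHom.comp (algebraMap A N.B) = algebraMap A (Henz A K) from
      (Henz.ofB N).comp_algebraMap]
  | zero => exact fun N => ⟨N, AlgHom.id A _, AlgHom.comp_id _, 0, zero_mem _, map_zero _⟩
  | add x y _ _ hx hy =>
    intro N
    obtain ⟨M, α, hα, r, hr, rfl⟩ := hx N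
    obtain ⟨P, β, hβ, s, hs, rfl⟩ := hy M
    refine ⟨P, β.comp α, by rw [← AlgHom.comp_assoc, hβ, hα], map β.toRingHom r + s,
      add_mem (map_mem_map_map β J hr) hs, ?_⟩
    rw [map_add, map_map, ← Henz.ofB_comp β hβ]; rfl
  | smul c x _ hx =>
    intro N
    obtain ⟨M, α, hα, r, hr, rfl⟩ := hx N
    obtain ⟨P, β, hβ, q, rfl⟩ := exists_lift_mvPolynomial M c
    refine ⟨P, β.comp α, by rw [← AlgHom.comp_assoc, hβ, hα], q * map β.toRingHom r,
      Ideal.mul_mem_left _ _ (map_mem_map_map β J hr), ?_⟩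
    rw [map_mul, map_map, ← Henz.ofB_comp β hβ, smul_eq_mul]; rfl

end stages

section main

open scoped TensorProduct

variable {A : Type u} [CommRing A] (I : Ideal A) {B : Type u} [CommRing B] [Algebra A B]

/-- Finite type algebras with finite reduction split after an étale neighbourhood of the base. -/
theorem exists_etale_idempotent_finite [Algebra.FiniteType A B]
    [Module.Finite A (B ⧸ I.map (algebraMap A B))] :
    ∃ (V : Type u) (_ : CommRing V) (_ : Algebra A V) (_ : Algebra.Etale A V) (e : V ⊗[A] B),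
      IsPairNbhd I V ∧ IsIdempotentElem e ∧ 1 - e ∈ I.map (algebraMap A (V ⊗[A] B)) ∧
        Module.Finite V ((V ⊗[A] B) ⧸ Ideal.span {1 - e}) := by
  classical
  obtain ⟨n, π, hπ⟩ := Algebra.FiniteType.iff_quotient_mvPolynomial''.mp
    (inferInstance : Algebra.FiniteType A B)
  let P := MvPolynomial (Fin n) A
  let J : Ideal P := RingHom.ker π
  let J₁ : Ideal P := J ⊔ I.map (algebraMap A P)
  let H := PairHenz A I
  let Q := MvPolynomial (Fin n) H ⧸ J.map (map (algebraMap A H))
  let IH : Ideal H := I.map (algebraMap A H)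
  have hH : HenselianRing H IH := (isPairHenselization_pairHenz A I).1
  have hfinQ : Module.Finite H (Q ⧸ IH.map (algebraMap H Q)) := by
    let IQ := IH.map (algebraMap H Q)
    have hIQ : IQ = I.map (algebraMap A Q) := by
      simp only [IQ, IH, Ideal.map_map, ← IsScalarTower.algebraMap_eq]
    let f : B →ₐ[A] Q := AlgHom.liftOfSurjective π hπ
      ((Ideal.Quotient.mkₐ A (J.map (map (algebraMap A H)))).comp (MvPolynomial.mapAlgHom (Algebra.ofId A H)))
      (fun x hx => Ideal.Quotient.eq_zero_iff_mem.mpr (Ideal.mem_map_of_mem _ hx))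
    let g : (B ⧸ I.map (algebraMap A B)) →ₐ[A] Q ⧸ IQ :=
      Ideal.quotientMapₐ IQ f (Ideal.map_le_iff_le_comap.mp (le_of_eq (by
        rw [hIQ, ← f.comp_algebraMap, ← Ideal.map_map]; rfl)))
    have hg : Function.Surjective g := by
      intro z
      obtain ⟨z, rfl⟩ := Ideal.Quotient.mk_surjective z
      obtain ⟨z, rfl⟩ := Ideal.Quotient.mk_surjective z
      induction z using MvPolynomial.induction_on with
      | C c =>
        obtain ⟨a, ha⟩ := Ideal.Quotient.mk_surjective (Henz.proj A (A ⧸ I) c)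
        refine ⟨algebraMap A _ a, ?_⟩
        rw [AlgHom.commutes]
        refine (Ideal.Quotient.eq.mpr ?_).symm
        have h1 : c - algebraMap A H a ∈ IH := by
          show c - algebraMap A H a ∈ I.map (algebraMap A H)
          rw [← ker_proj_pairHenz, RingHom.mem_ker, map_sub, AlgHom.commutes, ← ha]
          exact sub_self _
        have := Ideal.mem_map_of_mem (algebraMap H Q) h1
        rw [map_sub, ← IsScalarTower.algebraMap_apply] at this
        exact this
      | add p q hp hq =>
        obtain ⟨x, hx⟩ := hp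
        obtain ⟨y, hy⟩ := hq
        exact ⟨x + y, by rw [map_add g, hx, hy, map_add, map_add]⟩
      | mul_X p i hp =>
        obtain ⟨x, hx⟩ := hp
        refine ⟨x * Ideal.Quotient.mk _ (π (X i)), ?_⟩
        rw [map_mul g, hx, map_mul, map_mul]
        refine congrArg _ ?_
        show Ideal.Quotient.mk IQ (f (π (X i))) = _
        refine (congrArg _ (AlgHom.liftOfSurjective_apply _ _ _ _ (X i))).trans ?_
        simp
    have : Module.Finite A (Q ⧸ IQ) := Module.Finite.of_surjective g.toLinearMap hg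
    exact Module.Finite.of_restrictScalars_finite A H _
  obtain ⟨ē, hē, hē1, hfinē⟩ := exists_idempotent_finite_of_finite_quotient IH (R := Q)
  obtain ⟨E, rfl⟩ := Ideal.Quotient.mk_surjective ē
  have hJ₁ : J₁.map (map (algebraMap A H)) =
      J.map (map (algebraMap A H)) ⊔ IH.map (algebraMap H (MvPolynomial (Fin n) H)) := by
    simp only [J₁, IH, Ideal.map_sup, Ideal.map_map]
    congr 2
    exact RingHom.ext fun a => by simp [P]
  have hE1 : 1 - E ∈ J₁.map (map (algebraMap A H)) := by
    have h2 : Ideal.Quotient.mk (J.map (map (algebraMap A H))) (1 - E) ∈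
        (IH.map (algebraMap H (MvPolynomial (Fin n) H))).map (Ideal.Quotient.mk _) := by
      rw [Ideal.map_map, map_sub, map_one]; exact hē1
    obtain ⟨y, hy, hyE⟩ := (Ideal.mem_map_iff_of_surjective _ Ideal.Quotient.mk_surjective).mp h2
    rw [hJ₁, show 1 - E = (1 - E - y) + y by ring]
    exact Submodule.add_mem_sup (Ideal.Quotient.eq.mp hyE.symm) hy
  have hE2 : E * E - E ∈ J.map (map (algebraMap A H)) := Ideal.Quotient.eq.mp (by rw [map_mul]; exact hē)
  have hmonic : ∀ j, ∃ p : Polynomial H, p.Monic ∧ E * p.eval₂ C (X j) ∈ J.map (map (algebraMap A H)) := by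
    intro j
    let ψ := (Ideal.Quotient.mk (Ideal.span {1 - Ideal.Quotient.mk (J.map (map (algebraMap A H))) E})).comp
      (Ideal.Quotient.mk (J.map (map (algebraMap A H))))
    have hint : IsIntegral H (ψ (X j)) := by
      have := hfinē
      exact Algebra.IsIntegral.isIntegral _
    obtain ⟨p, hp, hp0⟩ := hint
    have h3 : ψ (p.eval₂ C (X j)) = 0 := by
      rw [Polynomial.hom_eval₂, ← hp0]
      rfl
    obtain ⟨c, hc⟩ := Ideal.mem_span_singleton'.mp (Ideal.Quotient.eq_zero_iff_mem.mp h3)
    refine ⟨p, hp, Ideal.Quotient.eq_zero_iff_mem.mp ?_⟩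
    rw [map_mul, ← hc]
    linear_combination (-c) * hē.eq
  choose p hp hpE using hmonic
  obtain ⟨N₀⟩ : Nonempty (Nbhd A (A ⧸ I)) := inferInstance
  obtain ⟨N₁, -, -, E₁, rfl⟩ := exists_lift_mvPolynomial N₀ E
  obtain ⟨N₂, α₂, hα₂, hcoef⟩ := exists_ofB_list N₁ (Finset.univ.biUnion fun j => (p j).coeffs)
  have hq : ∀ j, ∃ q : Polynomial N₂.B, q.map (Henz.ofB N₂).toRingHom = p j ∧ q.Monic := by
    intro j
    rcases subsingleton_or_nontrivial H with _ | _
    · exact ⟨1, Subsingleton.elim _ _, Polynomial.monic_one⟩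
    have hl : p j ∈ Polynomial.lifts (Henz.ofB N₂).toRingHom :=
      (Polynomial.lifts_iff_coeff_lifts _).mpr fun i => by
        rcases eq_or_ne ((p j).coeff i) 0 with h0 | h0
        · exact ⟨0, by simp [h0]⟩
        · exact hcoef _ (Finset.mem_biUnion.mpr ⟨j, Finset.mem_univ _, Polynomial.coeff_mem_coeffs h0⟩)
    obtain ⟨q, hq, -, hqm⟩ := Polynomial.lifts_and_degree_eq_and_monic hl (hp j)
    exact ⟨q, hq, hqm⟩
  choose q hqp hqm using hq
  -- all relations hold at a finite stage
  let rel : (M : Nbhd A (A ⧸ I)) → (N₂.B →ₐ[A] M.B) → Prop := fun M α =>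
    ∀ j, map α.toRingHom (map α₂.toRingHom E₁ * (q j).eval₂ C (X j)) ∈ J.map (map (algebraMap A M.B))
  have hsuff : ∃ (M : Nbhd A (A ⧸ I)) (α : N₂.B →ₐ[A] M.B), rel M α ∧
      map α.toRingHom (map α₂.toRingHom (E₁ * E₁ - E₁)) ∈ J.map (map (algebraMap A M.B)) ∧
      map α.toRingHom (map α₂.toRingHom (1 - E₁)) ∈ J₁.map (map (algebraMap A M.B)) := by
    have hE₁ : map (Henz.ofB N₂).toRingHom (map α₂.toRingHom E₁) = map (Henz.ofB N₁).toRingHom E₁ := by
      rw [MvPolynomial.map_map, ← Henz.ofB_comp α₂ hα₂]; rfl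
    obtain ⟨M, α, hα, hM⟩ := exists_mem_map J N₂ (map α₂.toRingHom (E₁ * E₁ - E₁)) (by
      rw [map_sub, map_sub, map_mul, map_mul, hE₁]; exact hE2)
    obtain ⟨M', α', hα', hM'⟩ := exists_mem_map J₁ M (map α.toRingHom (map α₂.toRingHom (1 - E₁))) (by
      rw [MvPolynomial.map_map, show (Henz.ofB M).toRingHom.comp α.toRingHom = ((Henz.ofB M).comp α).toRingHom from rfl,
        Henz.ofB_comp α hα, map_sub, map_sub, map_one, map_one, hE₁]
      exact hE1)
    suffices ∀ s : Finset (Fin n), ∃ (P : Nbhd A (A ⧸ I)) (β : M'.B →ₐ[A] P.B), P.toK.comp β = M'.toK ∧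
        ∀ j ∈ s, map (β.comp (α'.comp α)).toRingHom (map α₂.toRingHom E₁ * (q j).eval₂ C (X j)) ∈
          J.map (map (algebraMap A P.B)) by
      obtain ⟨P, β, hβ, hP⟩ := this Finset.univ
      refine ⟨P, β.comp (α'.comp α), fun j => hP j (Finset.mem_univ j), ?_, ?_⟩
      · have := map_mem_map_map β J (map_mem_map_map α' J hM)
        simp only [MvPolynomial.map_map] at this ⊢
        exact this
      · have := map_mem_map_map β J₁ hM'
        simp only [MvPolynomial.map_map] at this ⊢
        exact this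
    intro s
    induction s using Finset.induction with
    | empty => exact ⟨M', AlgHom.id A _, AlgHom.comp_id _, by simp⟩
    | insert j t _ ih =>
      obtain ⟨P, β, hβ, hP⟩ := ih
      obtain ⟨P', β', hβ', hP'⟩ := exists_mem_map J P
        (map (β.comp (α'.comp α)).toRingHom (map α₂.toRingHom E₁ * (q j).eval₂ C (X j))) (by
          rw [MvPolynomial.map_map, show (Henz.ofB P).toRingHom.comp (β.comp (α'.comp α)).toRingHom =
            ((((Henz.ofB P).comp β).comp α').comp α).toRingHom from rfl,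
            Henz.ofB_comp β hβ, Henz.ofB_comp α' hα', Henz.ofB_comp α hα, map_mul, hE₁,
            Polynomial.hom_eval₂, map_X]
          have := hpE j
          rw [← hqp j, Polynomial.eval₂_map] at this
          convert this using 4
          exact RingHom.ext fun b => map_C _ _)
      refine ⟨P', β'.comp β, by rw [← AlgHom.comp_assoc, hβ', hβ], fun i hi => ?_⟩
      rcases Finset.mem_insert.mp hi with rfl | hi
      · rw [MvPolynomial.map_map] at hP'; exact hP'
      · have := map_mem_map_map β' J (hP i hi)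
        rw [MvPolynomial.map_map] at this; exact this
  obtain ⟨M, α, hrel, hidem, hone⟩ := hsuff
  obtain ⟨V, _, _, _, γ, -, hV, -⟩ := exists_isPairNbhd I M.B M.toK
  let T := V ⊗[A] B
  let φ : MvPolynomial (Fin n) M.B →+* T :=
    eval₂Hom ((algebraMap V T).comp γ.toRingHom) (fun j => (1 : V) ⊗ₜ[A] π (X j))
  have hφC : φ.comp (map (algebraMap A M.B)) =
      (Algebra.TensorProduct.includeRight (A := V)).toRingHom.comp π.toRingHom := by
    refine MvPolynomial.ringHom_ext (fun a => ?_) fun i => ?_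
    · simp only [φ, RingHom.comp_apply, map_C, eval₂Hom_C, AlgHom.toRingHom_eq_coe, RingHom.coe_coe,
        AlgHom.commutes]
      rw [show (C a : MvPolynomial (Fin n) A) = algebraMap A _ a from rfl, AlgHom.commutes,
        AlgHom.commutes]
      exact (IsScalarTower.algebraMap_apply A V T a).symm
    · simp [φ]
  have hφJ : J.map (map (algebraMap A M.B)) ≤ RingHom.ker φ := Ideal.map_le_iff_le_comap.mpr fun x hx => by
    have hx' : π x = 0 := hx
    show φ (map (algebraMap A M.B) x) = 0
    rw [← RingHom.comp_apply, hφC]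
    simp [hx']
  have hφJ₁ : J₁.map (map (algebraMap A M.B)) ≤ (I.map (algebraMap A T)).comap φ := by
    refine Ideal.map_le_iff_le_comap.mpr (sup_le (fun x hx => ?_) (Ideal.map_le_iff_le_comap.mpr fun a ha => ?_))
    · rw [Ideal.mem_comap, Ideal.mem_comap]
      rw [RingHom.mem_ker.mp (hφJ (Ideal.mem_map_of_mem _ hx))]
      exact zero_mem _
    · rw [Ideal.mem_comap, Ideal.mem_comap, Ideal.mem_comap]
      rw [← RingHom.comp_apply, hφC]
      simp only [RingHom.comp_apply, AlgHom.toRingHom_eq_coe, RingHom.coe_coe, AlgHom.commutes]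
      exact Ideal.mem_map_of_mem _ ha
  let e : T := φ (map α.toRingHom (map α₂.toRingHom E₁))
  have he : IsIdempotentElem e := by
    have := hφJ hidem
    simp only [RingHom.mem_ker, map_sub, map_mul, sub_eq_zero] at this
    exact this
  refine ⟨V, inferInstance, inferInstance, inferInstance, e, hV, he, ?_, ?_⟩
  · have := hφJ₁ hone
    simp only [Ideal.mem_comap, map_sub, map_one] at this
    exact this
  have : Algebra.FiniteType V (T ⧸ Ideal.span {1 - e}) :=
    Algebra.FiniteType.of_surjective (Ideal.Quotient.mkₐ V _) Ideal.Quotient.mk_surjective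
  suffices hint : Algebra.IsIntegral V (T ⧸ Ideal.span {1 - e}) from Algebra.IsIntegral.finite
  let mk := Ideal.Quotient.mkₐ V (Ideal.span {1 - e})
  have hX : ∀ j, IsIntegral V (mk ((1 : V) ⊗ₜ[A] π (X j))) := by
    intro j
    refine ⟨(q j).map (γ.comp α).toRingHom, (hqm j).map _, ?_⟩
    have h0 := hφJ (hrel j)
    rw [RingHom.mem_ker, map_mul, map_mul] at h0
    have h1 : mk (φ (map α.toRingHom ((q j).eval₂ C (X j)))) = 0 := by
      have h2 : mk e = 1 := by
        rw [← map_one mk]
        exact Ideal.Quotient.eq.mpr (Ideal.mem_span_singleton'.mpr ⟨-1, by ring⟩)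
      rw [← one_mul (mk _), ← h2, ← map_mul, h0, map_zero]
    rw [← h1, Polynomial.eval₂_map, Polynomial.hom_eval₂, Polynomial.hom_eval₂, map_X, eval₂Hom_X']
    refine Eq.trans ?_ (Polynomial.hom_eval₂ _ _ mk.toRingHom _).symm
    congr 1
    refine RingHom.ext fun b => ?_
    simp only [φ, RingHom.comp_apply, map_C, eval₂Hom_C]
    exact (mk.commutes _).symm
  refine ⟨fun x => ?_⟩
  obtain ⟨t, rfl⟩ := Ideal.Quotient.mk_surjective x
  show IsIntegral V (mk t)
  induction t using TensorProduct.induction_on with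
  | zero => rw [map_zero]; exact isIntegral_zero
  | add x y hx hy => rw [map_add]; exact hx.add hy
  | tmul v b =>
    obtain ⟨b, rfl⟩ := hπ b
    rw [show v ⊗ₜ[A] π b = algebraMap V T v * ((1 : V) ⊗ₜ[A] π b) by
      rw [Algebra.TensorProduct.algebraMap_apply, Algebra.algebraMap_self, RingHom.id_apply,
        Algebra.TensorProduct.tmul_mul_tmul, mul_one, one_mul], map_mul]
    refine ((AlgHom.commutes mk v).symm ▸ isIntegral_algebraMap).mul ?_
    induction b using MvPolynomial.induction_on with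
    | C a =>
      rw [show (C a : MvPolynomial (Fin n) A) = algebraMap A _ a from rfl, AlgHom.commutes,
        show (1 : V) ⊗ₜ[A] algebraMap A B a = algebraMap V T (algebraMap A V a) by
          rw [Algebra.TensorProduct.algebraMap_apply, Algebra.algebraMap_self, RingHom.id_apply,
            Algebra.algebraMap_eq_smul_one, Algebra.algebraMap_eq_smul_one, TensorProduct.smul_tmul],
        AlgHom.commutes]
      exact isIntegral_algebraMap
    | add x y hx hy => rw [map_add, TensorProduct.tmul_add, map_add]; exact hx.add hy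
    | mul_X x i hx =>
      rw [map_mul, show (1 : V) ⊗ₜ[A] (π x * π (X i)) = ((1 : V) ⊗ₜ[A] π x) * ((1 : V) ⊗ₜ[A] π (X i)) by
        rw [Algebra.TensorProduct.tmul_mul_tmul, one_mul], map_mul]
      exact hx.mul (hX i)

end main

end Groth.Agent.Hensel
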