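import Mathlib.RingTheory.Smooth.Basic
import Mathlib.RingTheory.Unramified.Basic
import Mathlib.RingTheory.Etale.Basic

/-!
# Formal smoothness of truncations
-/

noncomputable section

namespace Groth.Agent.Hensel

universe u

variable {A : Type u} [CommRing A] (I : Ideal A) {B : Type u} [CommRing B] [Algebra A B]

/-- Lifting against nilpotent surjections killed by a power of `I`. -/
def LiftsTrunc (B : Type u) [CommRing B] [Algebra A B] : Prop :=
  ∀ (E C : Type u) [CommRing E] [CommRing C] [Algebra A E] [Algebra A C] (N : ℕ), 1 ≤ N →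
    (I ^ N).map (algebraMap A E) = ⊥ → (I ^ N).map (algebraMap A C) = ⊥ →
    ∀ (p : E →ₐ[A] C), Function.Surjective p → (∃ M : ℕ, 1 ≤ M ∧ RingHom.ker p ^ M = ⊥) →
    ∀ u : B →ₐ[A] C, ∃ v : B →ₐ[A] E, p.comp v = u

/-- Uniqueness of lifts against nilpotent surjections killed by a power of `I`. -/
def UniqTrunc (B : Type u) [CommRing B] [Algebra A B] : Prop :=
  ∀ (E C : Type u) [CommRing E] [CommRing C] [Algebra A E] [Algebra A C] (N : ℕ), 1 ≤ N →
    (I ^ N).map (algebraMap A E) = ⊥ → (I ^ N).map (algebraMap A C) = ⊥ →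
    ∀ (p : E →ₐ[A] C), Function.Surjective p → (∃ M : ℕ, 1 ≤ M ∧ RingHom.ker p ^ M = ⊥) →
    ∀ v v' : B →ₐ[A] E, p.comp v = p.comp v' → v = v'

section helpers

variable {I} {T : Type u} [CommRing T]

theorem map_pow_eq_bot_of_algebra [Algebra A T] {r : ℕ} [Algebra (A ⧸ I ^ r) T] [IsScalarTower A (A ⧸ I ^ r) T] :
    (I ^ r).map (algebraMap A T) = ⊥ := by
  rw [IsScalarTower.algebraMap_eq A (A ⧸ I ^ r) T, ← Ideal.map_map, Ideal.Quotient.algebraMap_eq,
    Ideal.map_quotient_self, Ideal.map_bot]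

theorem apply_eq_zero_of_mem [Algebra A T] {r : ℕ} (hT : (I ^ r).map (algebraMap A T) = ⊥) (f : B →ₐ[A] T)
    {x : B} (hx : x ∈ (I ^ r).map (algebraMap A B)) : f x = 0 := by
  have := Ideal.mem_map_of_mem f.toRingHom hx
  rw [Ideal.map_map, f.toRingHom_eq_coe, f.comp_algebraMap, hT] at this
  exact (Submodule.mem_bot _).mp this

end helpers

theorem formallySmooth_of_liftsTrunc (h : LiftsTrunc I B) (r : ℕ) (hr : 1 ≤ r) :
    Algebra.FormallySmooth (A ⧸ I ^ r) (B ⧸ (I ^ r).map (algebraMap A B)) := by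
  rw [Algebra.FormallySmooth.iff_comp_surjective]
  intro E _ _ J hJ f
  let : Algebra A E := Algebra.compHom E (algebraMap A (A ⧸ I ^ r))
  have : IsScalarTower A (A ⧸ I ^ r) E := .of_algebraMap_eq' rfl
  have hE := map_pow_eq_bot_of_algebra (I := I) (T := E) (r := r)
  have hC : (I ^ r).map (algebraMap A (E ⧸ J)) = ⊥ := map_pow_eq_bot_of_algebra
  obtain ⟨v, hv⟩ := h E (E ⧸ J) r hr hE hC (Ideal.Quotient.mkₐ A J) Ideal.Quotient.mk_surjective
    ⟨2, by omega, by rw [show RingHom.ker (Ideal.Quotient.mkₐ A J) = J from Ideal.mk_ker]; exact hJ⟩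
    ((f.restrictScalars A).comp (Ideal.Quotient.mkₐ A _))
  let g₀ : (B ⧸ (I ^ r).map (algebraMap A B)) →ₐ[A] E :=
    Ideal.Quotient.liftₐ _ v fun x hx => apply_eq_zero_of_mem hE v hx
  let g : (B ⧸ (I ^ r).map (algebraMap A B)) →ₐ[A ⧸ I ^ r] E := AlgHom.mk g₀.toRingHom fun a => by
    obtain ⟨a, rfl⟩ := Ideal.Quotient.mk_surjective a
    exact g₀.commutes a
  refine ⟨g, AlgHom.ext fun x => ?_⟩
  obtain ⟨x, rfl⟩ := Ideal.Quotient.mk_surjective x
  exact AlgHom.congr_fun hv x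

theorem formallyUnramified_of_uniqTrunc (h : UniqTrunc I B) (r : ℕ) (hr : 1 ≤ r) :
    Algebra.FormallyUnramified (A ⧸ I ^ r) (B ⧸ (I ^ r).map (algebraMap A B)) := by
  rw [Algebra.FormallyUnramified.iff_comp_injective]
  intro E _ _ J hJ f g hfg
  let : Algebra A E := Algebra.compHom E (algebraMap A (A ⧸ I ^ r))
  have : IsScalarTower A (A ⧸ I ^ r) E := .of_algebraMap_eq' rfl
  have hC : (I ^ r).map (algebraMap A (E ⧸ J)) = ⊥ := map_pow_eq_bot_of_algebra
  have := h E (E ⧸ J) r hr (map_pow_eq_bot_of_algebra) hC (Ideal.Quotient.mkₐ A J) Ideal.Quotient.mk_surjective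
    ⟨2, by omega, by rw [show RingHom.ker (Ideal.Quotient.mkₐ A J) = J from Ideal.mk_ker]; exact hJ⟩
    ((f.restrictScalars A).comp (Ideal.Quotient.mkₐ A _)) ((g.restrictScalars A).comp (Ideal.Quotient.mkₐ A _))
    (AlgHom.ext fun x => AlgHom.congr_fun hfg (Ideal.Quotient.mk _ x))
  refine AlgHom.ext fun x => ?_
  obtain ⟨x, rfl⟩ := Ideal.Quotient.mk_surjective x
  exact AlgHom.congr_fun this x

theorem liftsTrunc_of_formallySmooth
    (h : ∀ r, 1 ≤ r → Algebra.FormallySmooth (A ⧸ I ^ r) (B ⧸ (I ^ r).map (algebraMap A B))) : LiftsTrunc I B := by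
  intro E C _ _ _ _ N hN hE hC p hp hM u
  obtain ⟨M, -, hM⟩ := hM
  have := h N hN
  let φE : (A ⧸ I ^ N) →ₐ[A] E := Ideal.Quotient.liftₐ _ (Algebra.ofId A E) fun a ha =>
    (Submodule.mem_bot E).mp (hE ▸ Ideal.mem_map_of_mem (algebraMap A E) ha)
  let : Algebra (A ⧸ I ^ N) E := φE.toRingHom.toAlgebra
  let : Algebra (A ⧸ I ^ N) C := (p.toRingHom.comp φE.toRingHom).toAlgebra
  let p' : E →ₐ[A ⧸ I ^ N] C := AlgHom.mk p.toRingHom fun _ => rfl
  let u₀ : (B ⧸ (I ^ N).map (algebraMap A B)) →ₐ[A] C :=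
    Ideal.Quotient.liftₐ _ u fun x hx => apply_eq_zero_of_mem hC u hx
  let u' : (B ⧸ (I ^ N).map (algebraMap A B)) →ₐ[A ⧸ I ^ N] C := AlgHom.mk u₀.toRingHom fun a => by
    obtain ⟨a, rfl⟩ := Ideal.Quotient.mk_surjective a
    show u₀ (algebraMap A _ a) = p (φE (algebraMap A _ a))
    rw [u₀.commutes, φE.commutes, p.commutes]
  let q : (E ⧸ RingHom.ker p') ≃ₐ[A ⧸ I ^ N] C := Ideal.quotientKerAlgEquivOfSurjective (f := p') hp
  obtain ⟨v, hv⟩ := Algebra.FormallySmooth.exists_lift (R := A ⧸ I ^ N) (RingHom.ker p') ⟨M, hM⟩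
    (q.symm.toAlgHom.comp u')
  let v₀ : (B ⧸ (I ^ N).map (algebraMap A B)) →ₐ[A] E := AlgHom.mk v.toRingHom fun a =>
    (v.commutes (Ideal.Quotient.mk _ a)).trans rfl
  refine ⟨v₀.comp (Ideal.Quotient.mkₐ A _), AlgHom.ext fun x => ?_⟩
  exact (congrArg q (AlgHom.congr_fun hv (Ideal.Quotient.mk _ x))).trans (q.apply_symm_apply _)

theorem uniqTrunc_of_formallyUnramified
    (h : ∀ r, 1 ≤ r → Algebra.FormallyUnramified (A ⧸ I ^ r) (B ⧸ (I ^ r).map (algebraMap A B))) : UniqTrunc I B := by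
  intro E C _ _ _ _ N hN hE hC p hp hM v v' hvv
  obtain ⟨M, -, hM⟩ := hM
  have := h N hN
  let φE : (A ⧸ I ^ N) →ₐ[A] E := Ideal.Quotient.liftₐ _ (Algebra.ofId A E) fun a ha =>
    (Submodule.mem_bot E).mp (hE ▸ Ideal.mem_map_of_mem (algebraMap A E) ha)
  let : Algebra (A ⧸ I ^ N) E := φE.toRingHom.toAlgebra
  let mk : (B →ₐ[A] E) → ((B ⧸ (I ^ N).map (algebraMap A B)) →ₐ[A ⧸ I ^ N] E) := fun w =>
    AlgHom.mk (Ideal.Quotient.liftₐ _ w fun x hx => apply_eq_zero_of_mem hE w hx).toRingHom fun a => by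
      obtain ⟨a, rfl⟩ := Ideal.Quotient.mk_surjective a
      show (Ideal.Quotient.liftₐ _ w fun x hx => apply_eq_zero_of_mem hE w hx) (algebraMap A _ a) =
        φE (algebraMap A _ a)
      rw [AlgHom.commutes, φE.commutes]
  have key := Algebra.FormallyUnramified.ext (R := A ⧸ I ^ N) (RingHom.ker p.toRingHom) ⟨M, hM⟩
    (g₁ := mk v) (g₂ := mk v') fun x => by
      obtain ⟨x, rfl⟩ := Ideal.Quotient.mk_surjective x
      refine Ideal.Quotient.eq.mpr ?_
      rw [RingHom.mem_ker, map_sub, sub_eq_zero]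
      exact AlgHom.congr_fun hvv x
  exact AlgHom.ext fun x => AlgHom.congr_fun key (Ideal.Quotient.mk _ x)

end Groth.Agent.Hensel
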