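import Mathlib.RingTheory.Henselian
import Mathlib.RingTheory.Etale.Basic
import Mathlib.RingTheory.Etale.QuasiFinite
import Mathlib.RingTheory.Smooth.Flat
import Mathlib.RingTheory.Unramified.Finite
import Mathlib.RingTheory.Flat.EquationalCriterion
import Mathlib.RingTheory.Nakayama
import Mathlib.LinearAlgebra.Matrix.Charpoly.LinearMap

/-!
# Gabber's root condition and lifting of sections of étale algebras
-/

namespace Groth.Agent.Hensel

open Polynomial

universe u v

/-- Gabber's condition: `I` lies in the Jacobson radical and monic polynomials congruent to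
`X ^ N * (X - 1)` modulo `I` have a root congruent to `1`. -/
structure GabberCond {A : Type u} [CommRing A] (I : Ideal A) : Prop where
  jac : I ≤ Ideal.jacobson ⊥
  root : ∀ N : ℕ, 0 < N → ∀ h : A[X], h.Monic →
    h.map (Ideal.Quotient.mk I) = X ^ N * (X - 1) → ∃ α, h.IsRoot α ∧ α - 1 ∈ I

variable {A : Type u} [CommRing A] {I : Ideal A}

theorem isUnit_of_mk_eq_one (hI : I ≤ Ideal.jacobson ⊥) {a : A}
    (h : Ideal.Quotient.mk I a = 1) : IsUnit a := by
  have := isLocalHom_of_le_jacobson_bot I hI
  exact IsUnit.of_map (Ideal.Quotient.mk I) a (h ▸ isUnit_one)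

theorem GabberCond.of_henselianRing (A : Type u) [CommRing A] (I : Ideal A) [HenselianRing A I] :
    GabberCond I where
  jac := HenselianRing.jac
  root N hN h hmon hmap := by
    have e : ∀ p : A[X], Ideal.Quotient.mk I (p.eval 1) = (p.map (Ideal.Quotient.mk I)).eval 1 :=
      fun p => by simpa using (eval_map_apply (Ideal.Quotient.mk I) (p := p) 1).symm
    refine HenselianRing.is_henselian h hmon 1 ?_ ?_
    · rw [← Ideal.Quotient.eq_zero_iff_mem, e, hmap]; simp
    · rw [e, ← derivative_map, hmap]; simp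

/-- A multiplication operator congruent to a rank one projector modulo `I` is killed by a monic
polynomial congruent to `X ^ N * (X - 1)`. -/
theorem exists_monic_aeval_eq_zero_of_rank_one (hI : I ≤ Ideal.jacobson ⊥)
    {F : Type v} [CommRing F] [Algebra A F] [Module.Finite A F] (y : F)
    (hy : ∀ x : F, ∃ a : A, x * y - algebraMap A F a * y ∈ I.map (algebraMap A F))
    (hy2 : y * y - y ∈ I.map (algebraMap A F)) :
    ∃ (N : ℕ) (h : A[X]), 0 < N ∧ h.Monic ∧
      h.map (Ideal.Quotient.mk I) = X ^ N * (X - 1) ∧ aeval y h = 0 := by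
  classical
  obtain ⟨n, g₀, hg₀⟩ := Module.Finite.exists_fin (R := A) (M := F)
  let g : Fin (n + 1) → F := Fin.cons 0 g₀
  have hg : Submodule.span A (Set.range g) = ⊤ := top_le_iff.mp <| hg₀ ▸ Submodule.span_mono
    (by rintro _ ⟨j, rfl⟩; exact ⟨j.succ, by simp [g]⟩)
  let b : Option (Fin (n + 1)) → F := fun o => o.elim y fun j => (1 - y) * g j
  have hmemI : ∀ x ∈ I.map (algebraMap A F), x ∈ I • (⊤ : Submodule A F) := fun x hx => by
    rwa [Ideal.smul_top_eq_map]
  have hb : Submodule.span A (Set.range b) = ⊤ := by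
    refine top_le_iff.mp (Submodule.le_of_le_smul_of_le_jacobson_bot Module.Finite.fg_top hI ?_)
    rw [← hg, Submodule.span_le, hg]
    rintro _ ⟨j, rfl⟩
    obtain ⟨a, ha⟩ := hy (g j)
    refine Submodule.mem_sup.mpr ⟨(1 - y) * g j + a • y, ?_, g j * y - algebraMap A F a * y,
      hmemI _ ha, ?_⟩
    · exact add_mem (Submodule.subset_span ⟨some j, rfl⟩)
        (Submodule.smul_mem _ _ (Submodule.subset_span ⟨none, rfl⟩))
    · rw [Algebra.smul_def]; ring
  let P : Matrix (Option (Fin (n + 1))) (Option (Fin (n + 1))) A :=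
    Matrix.diagonal fun o => o.elim 1 fun _ => 0
  have hdiff : ∀ o, y * b o - (o.elim 1 fun _ => (0 : A)) • b o ∈ I • (⊤ : Submodule A F) := by
    rintro (_ | j)
    · exact hmemI _ (by simpa [b] using hy2)
    · refine hmemI _ ?_
      have : y * b (some j) - (0 : A) • b (some j) = (y * y - y) * -(g j) := by
        simp only [b, Option.elim_some, zero_smul, sub_zero]; ring
      rw [Option.elim_some, this]
      exact Ideal.mul_mem_right _ _ hy2
  have hc : ∀ o, ∃ c : Option (Fin (n + 1)) → A, (∀ i, c i ∈ I) ∧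
      y * b o - (o.elim 1 fun _ => (0 : A)) • b o = ∑ i, c i • b i := fun o => by
    have : y * b o - (o.elim 1 fun _ => (0 : A)) • b o ∈
        LinearMap.range (Ideal.finsuppTotal (Option (Fin (n + 1))) F I b) := by
      rw [Ideal.range_finsuppTotal, hb]; exact hdiff o
    obtain ⟨c, hc⟩ := this
    exact ⟨fun i => c i, fun i => (c i).2,
      hc.symm.trans (Ideal.finsuppTotal_apply_eq_of_fintype ..)⟩
  choose c hcI hc using hc
  let M : Matrix (Option (Fin (n + 1))) (Option (Fin (n + 1))) A := P + Matrix.of fun i j => c j i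
  have hM : M.Represents b (Algebra.lmul A F y) := by
    rw [Matrix.represents_iff']
    intro j
    show _ = y * b j
    rw [← sub_add_cancel (y * b j) ((j.elim 1 fun _ => (0 : A)) • b j), hc]
    simp only [M, P, Matrix.add_apply, Matrix.of_apply, add_smul, Finset.sum_add_distrib]
    rw [add_comm]
    congr 1
    rw [Finset.sum_eq_single j] <;> simp +contextual
  refine ⟨n + 1, M.charpoly, n.succ_pos, M.charpoly_monic, ?_, ?_⟩
  · rw [← Matrix.charpoly_map]
    have : M.map (Ideal.Quotient.mk I) = Matrix.diagonal fun o => o.elim 1 fun _ => 0 := by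
      ext i j
      have : Ideal.Quotient.mk I (c j i) = 0 := Ideal.Quotient.eq_zero_iff_mem.mpr (hcI j i)
      simp only [M, P, Matrix.map_apply, Matrix.add_apply, Matrix.of_apply, map_add, this, add_zero]
      by_cases hij : i = j
      · subst hij; cases i <;> simp
      · simp [Matrix.diagonal_apply_ne _ hij]
    rw [this, Matrix.charpoly_diagonal, Fintype.prod_option]
    simp [mul_comm]
  · let M' : Matrix.isRepresentation A b := ⟨M, _, hM⟩
    have h1 : Matrix.isRepresentation.toEnd A b hb M' = Algebra.lmul A F y :=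
      Matrix.isRepresentation.eq_toEnd_of_represents A b hb M' hM
    have h0 : aeval (Algebra.lmul A F y) M.charpoly = 0 := by
      rw [← h1, Polynomial.aeval_algHom_apply,
        ← map_zero (Matrix.isRepresentation.toEnd A b hb)]
      congr 1
      ext1
      rw [Polynomial.aeval_subalgebra_coe, Matrix.aeval_self_charpoly, Subalgebra.coe_zero]
    rw [Polynomial.aeval_algHom_apply] at h0
    simpa using LinearMap.congr_fun h0 1

/-- Lifting of "rank one" idempotents along finite algebras over a Gabber pair. -/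
theorem GabberCond.exists_idempotent_rank_one (hG : GabberCond I)
    {F : Type v} [CommRing F] [Algebra A F] [Module.Finite A F] (y : F)
    (hy : ∀ x : F, ∃ a : A, x * y - algebraMap A F a * y ∈ I.map (algebraMap A F))
    (hy2 : y * y - y ∈ I.map (algebraMap A F)) :
    ∃ e : F, IsIdempotentElem e ∧ e - y ∈ I.map (algebraMap A F) ∧
      ∀ x : F, ∃ a : A, x * e = algebraMap A F a * e := by
  obtain ⟨N, h, hN, hmon, hmap, haev⟩ := exists_monic_aeval_eq_zero_of_rank_one hG.jac y hy hy2
  obtain ⟨α, hα, hα1⟩ := hG.root N hN h hmon hmap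
  obtain ⟨q, rfl⟩ := dvd_iff_isRoot.mpr hα
  have hα' : Ideal.Quotient.mk I α = 1 := by
    rwa [← map_one (Ideal.Quotient.mk I), Ideal.Quotient.eq]
  have hq : q.map (Ideal.Quotient.mk I) = X ^ N := by
    rw [Polynomial.map_mul, Polynomial.map_sub, map_X, map_C, hα', map_one, mul_comm] at hmap
    exact (monic_X_sub_C (1 : A ⧸ I)).isRegular.right (by simpa using hmap)
  have hqα : IsUnit (q.eval α) := isUnit_of_mk_eq_one hG.jac <| by
    rw [← eval_map_apply, hq, hα']; simp
  obtain ⟨r, hr⟩ := X_sub_C_dvd_sub_C_eval (a := α) (p := q)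
  let e : F := algebraMap A F ↑hqα.unit⁻¹ * aeval y q
  have hr' : aeval y q = algebraMap A F (q.eval α) + (y - algebraMap A F α) * aeval y r := by
    have := congr(aeval y $hr)
    simp only [map_sub, map_mul, aeval_C, aeval_X] at this
    linear_combination this
  have he : IsIdempotentElem e := by
    have hz : (y - algebraMap A F α) * aeval y q = 0 := by simpa using haev
    have hu : algebraMap A F ↑hqα.unit⁻¹ * algebraMap A F (q.eval α) = 1 := by
      rw [← map_mul, IsUnit.val_inv_mul, map_one]
    show e * e = e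
    simp only [e]
    linear_combination (algebraMap A F ↑hqα.unit⁻¹ * aeval y q) * hu +
      (algebraMap A F ↑hqα.unit⁻¹ * algebraMap A F ↑hqα.unit⁻¹ * aeval y r) * hz +
      (algebraMap A F ↑hqα.unit⁻¹ * algebraMap A F ↑hqα.unit⁻¹ * aeval y q) * hr'
  have hey : e - y ∈ I.map (algebraMap A F) := by
    let π := Ideal.Quotient.mk (I.map (algebraMap A F))
    let φ : A ⧸ I →+* F ⧸ I.map (algebraMap A F) :=
      Ideal.quotientMap _ (algebraMap A F) Ideal.le_comap_map
    have hπ : π.comp (algebraMap A F) = φ.comp (Ideal.Quotient.mk I) := rfl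
    have hu : Ideal.Quotient.mk I (↑hqα.unit⁻¹ : A) = 1 := by
      have := congr(Ideal.Quotient.mk I $(hqα.val_inv_mul))
      rwa [map_mul, ← eval_map_apply (Ideal.Quotient.mk I) (p := q), hq, hα', eval_pow, eval_X,
        one_pow, mul_one, map_one] at this
    have hu' : π (algebraMap A F ↑hqα.unit⁻¹) = 1 := by
      rw [← RingHom.comp_apply, hπ, RingHom.comp_apply, hu, map_one]
    have hpow : ∀ k, 0 < k → π y ^ k = π y := by
      intro k hk
      have h2 : π y * π y = π y := by rw [← map_mul]; exact Ideal.Quotient.eq.mpr hy2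
      induction k, hk using Nat.le_induction with
      | base => simp
      | succ k _ ih => rw [pow_succ, ih, h2]
    rw [← Ideal.Quotient.eq]
    show π e = π y
    rw [map_mul, hu', one_mul, aeval_def, hom_eval₂, hπ, ← eval₂_map, hq]
    simp [hpow N hN]
  refine ⟨e, he, hey, fun x => ?_⟩
  let N₀ : Submodule A F := LinearMap.range (LinearMap.mulRight A e)
  have hfg : N₀.FG := by
    show (LinearMap.range (LinearMap.mulRight A e)).FG
    rw [LinearMap.range_eq_map]; exact Module.Finite.fg_top.map _
  have key : N₀ ≤ Submodule.span A {e} := by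
    refine Submodule.le_of_le_smul_of_le_jacobson_bot hfg hG.jac ?_
    rintro _ ⟨z, rfl⟩
    obtain ⟨a, ha⟩ := hy z
    refine Submodule.mem_sup.mpr ⟨a • e, Submodule.smul_mem _ _ (Submodule.subset_span rfl),
      (z - algebraMap A F a) * e, ?_, by simp [Algebra.smul_def]; ring⟩
    have hmem : (z - algebraMap A F a) * e ∈ I.map (algebraMap A F) := by
      have : (z - algebraMap A F a) * e = (z - algebraMap A F a) * (e - y) +
          (z * y - algebraMap A F a * y) := by ring
      rw [this]; exact add_mem (Ideal.mul_mem_left _ _ hey) ha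
    have hmem' : (z - algebraMap A F a) * e ∈ I • (⊤ : Submodule A F) := by
      rwa [Ideal.smul_top_eq_map]
    have := Submodule.mem_map_of_mem (f := LinearMap.mulRight A e) hmem'
    rw [Submodule.map_smul'', Submodule.map_top] at this
    simpa [N₀, mul_assoc, he.eq] using this
  obtain ⟨a, ha⟩ := Submodule.mem_span_singleton.mp (key ⟨x, rfl⟩)
  exact ⟨a, by rw [← Algebra.smul_def]; exact ha.symm⟩

/-- Sections modulo `I` lift for an étale algebra which is birational to a finite one. -/
theorem GabberCond.exists_lift_of_subalgebra (hG : GabberCond I)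
    {U : Type v} [CommRing U] [Algebra A U] [Algebra.Etale A U]
    (F : Subalgebra A U) [Module.Finite A F] (Δ : F)
    (hF : ∀ u : U, ∃ N, (Δ : U) ^ N * u ∈ F)
    (σ : U →ₐ[A] A ⧸ I) (hΔ : σ Δ = 1) :
    ∃ τ : U →ₐ[A] A, (Ideal.Quotient.mkₐ A I).comp τ = σ := by
  classical
  let Ub := U ⧸ I.map (algebraMap A U)
  let φ₁ : U →ₐ[A] Ub := Ideal.Quotient.mkₐ A _
  let ι : A ⧸ I →ₐ[A] Ub := Ideal.quotientMapₐ _ (Algebra.ofId A U) Ideal.le_comap_map
  let σb : Ub →ₐ[A] A ⧸ I := Ideal.Quotient.liftₐ _ σ (fun a ha => by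
    have : I.map (algebraMap A U) ≤ RingHom.ker σ :=
      Ideal.map_le_iff_le_comap.mpr fun i hi => by
        simpa using Ideal.Quotient.eq_zero_iff_mem.mpr hi
    exact this ha)
  let Φ : TensorProduct A U U →ₐ[A] Ub :=
    Algebra.TensorProduct.lift φ₁ (ι.comp σ) fun _ _ => .all _ _
  let e' : Ub := Φ (Algebra.FormallyUnramified.elem A U)
  obtain ⟨w₀, hw₀⟩ := Ideal.Quotient.mk_surjective e'
  have he' : ∀ s : U, (ι (σ s) - φ₁ s) * e' = 0 := fun s => by
    simpa [Φ, e'] using congr(Φ $(Algebra.FormallyUnramified.one_tmul_sub_tmul_one_mul_elem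
      (R := A) s))
  have hσe : σ w₀ = 1 := by
    show σb (φ₁ w₀) = 1
    rw [show φ₁ w₀ = e' from hw₀]
    have : σb.comp Φ = σ.comp (Algebra.TensorProduct.lmul' A) := by
      have hι : σb.comp ι = AlgHom.id A (A ⧸ I) := Ideal.Quotient.algHom_ext _ (by ext)
      have hι' : ∀ b, σb (ι b) = b := fun b => congr($hι b)
      ext s
      · simp [Φ, σb, φ₁]; rfl
      · simpa [Φ, φ₁] using hι' (σ s)
    show σb.comp Φ (Algebra.FormallyUnramified.elem A U) = 1
    rw [this, AlgHom.comp_apply, Algebra.FormallyUnramified.lmul_elem, map_one]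
  obtain ⟨M₀, hM₀⟩ := hF w₀
  -- clearing denominators
  have hclear : ∀ v ∈ I.map (algebraMap A U), ∃ N, ∀ hN : (Δ : U) ^ N * v ∈ F,
      (⟨_, hN⟩ : F) ∈ I.map (algebraMap A F) := by
    intro v hv
    suffices h : ∃ N, ∃ z ∈ I.map (algebraMap A F), (z : U) = (Δ : U) ^ N * v by
      obtain ⟨N, z, hz, hzv⟩ := h
      exact ⟨N, fun hN => by convert hz using 1; exact Subtype.ext hzv.symm⟩
    have hv' : v ∈ I • (⊤ : Submodule A U) := by rwa [Ideal.smul_top_eq_map]
    refine Submodule.smul_induction_on hv' (fun i hi m _ => ?_) fun v₁ v₂ h₁ h₂ => ?_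
    · obtain ⟨N, hN⟩ := hF m
      exact ⟨N, algebraMap A F i * ⟨_, hN⟩, Ideal.mul_mem_right _ _ (Ideal.mem_map_of_mem _ hi),
        by simp [Algebra.smul_def]; ring⟩
    · obtain ⟨N₁, z₁, hz₁, e₁⟩ := h₁
      obtain ⟨N₂, z₂, hz₂, e₂⟩ := h₂
      exact ⟨N₁ + N₂, Δ ^ N₂ * z₁ + Δ ^ N₁ * z₂,
        add_mem (Ideal.mul_mem_left _ _ hz₁) (Ideal.mul_mem_left _ _ hz₂),
        by simp [e₁, e₂]; ring⟩
  let w : F := ⟨_, hM₀⟩
  -- sigma of elements of F
  have hlift : ∀ x : F, ∃ a : A, algebraMap A (A ⧸ I) a = σ x :=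
    fun x => Ideal.Quotient.mk_surjective _
  choose a ha using hlift
  obtain ⟨n, g, hg⟩ := Module.Finite.exists_fin (R := A) (M := F)
  have hgen : ∀ j, ∃ N, Δ ^ N * ((g j - algebraMap A F (a (g j))) * w) ∈
      I.map (algebraMap A F) := by
    intro j
    have : ((g j - algebraMap A F (a (g j))) * w : U) ∈ I.map (algebraMap A U) := by
      rw [← Ideal.Quotient.eq_zero_iff_mem]
      show φ₁ _ = 0
      have := he' (g j : U)
      rw [← ha, AlgHom.commutes, ← hw₀, ← Ideal.Quotient.mkₐ_eq_mk A] at this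
      simp only [w, map_mul, map_sub, map_pow, Subalgebra.coe_algebraMap, AlgHom.commutes]
      calc _ = -(φ₁ Δ ^ M₀ * ((algebraMap A Ub (a (g j)) - φ₁ (g j)) * φ₁ w₀)) := by ring
        _ = 0 := by rw [this]; simp
    obtain ⟨N, hN⟩ := hclear _ this
    exact ⟨N, hN (Subtype.coe_prop (Δ ^ N * ((g j - algebraMap A F (a (g j))) * w)))⟩
  choose Nj hNj using hgen
  let z : F := Δ ^ (Finset.univ.sup Nj) * w
  have hσw : σ (z : U) = 1 := by simp [z, w, hσe, hΔ]
  have hz : ∀ x : F, x * z - algebraMap A F (a x) * z ∈ I.map (algebraMap A F) := by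
    intro x
    have hx : x ∈ Submodule.span A (Set.range g) := hg ▸ trivial
    obtain ⟨c, hc⟩ := (Submodule.mem_span_range_iff_exists_fun A).mp hx
    let a' := ∑ j, c j * a (g j)
    have h1 : a x - a' ∈ I := by
      rw [← Ideal.Quotient.eq, ← Ideal.Quotient.algebraMap_eq, ha x, ← hc]
      simp only [a', map_sum, map_mul, Algebra.smul_def, AddSubmonoidClass.coe_finsetSum,
        MulMemClass.coe_mul, Subalgebra.coe_algebraMap, AlgHom.commutes, ha]
    have h2 : x * z - algebraMap A F a' * z ∈ I.map (algebraMap A F) := by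
      have : x * z - algebraMap A F a' * z =
          ∑ j, algebraMap A F (c j) * ((g j - algebraMap A F (a (g j))) * z) := by
        simp only [← hc, a', map_sum, map_mul, Algebra.smul_def, Finset.sum_mul, ← Finset.sum_sub_distrib]
        exact Finset.sum_congr rfl fun j _ => by ring
      rw [this]
      refine sum_mem fun j _ => Ideal.mul_mem_left _ _ ?_
      obtain ⟨k, hk⟩ := Nat.exists_eq_add_of_le (Finset.le_sup (f := Nj) (Finset.mem_univ j))
      have : (g j - algebraMap A F (a (g j))) * z =
          Δ ^ k * (Δ ^ Nj j * ((g j - algebraMap A F (a (g j))) * w)) := by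
        simp only [z, hk, pow_add]; ring
      rw [this]; exact Ideal.mul_mem_left _ _ (hNj j)
    have := sub_mem h2 (Ideal.mul_mem_right z _ (Ideal.mem_map_of_mem (algebraMap A F) h1))
    convert this using 1
    simp only [map_sub]; ring
  have hz2 : z * z - z ∈ I.map (algebraMap A F) := by
    have h1 : a z - 1 ∈ I := by
      rw [← Ideal.Quotient.eq, ← Ideal.Quotient.algebraMap_eq, ha z, hσw, map_one]
    have := add_mem (hz z) (Ideal.mul_mem_right z _ (Ideal.mem_map_of_mem (algebraMap A F) h1))
    convert this using 1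
    simp only [map_sub, map_one]; ring
  obtain ⟨e, he, hez, hrank⟩ := hG.exists_idempotent_rank_one z (fun x => ⟨a x, hz x⟩) hz2
  have hσe1 : σ (e : U) = 1 := by
    have hle : (I.map (algebraMap A F)).map F.val ≤ RingHom.ker σ := by
      rw [Ideal.map_le_iff_le_comap, Ideal.map_le_iff_le_comap]
      intro i hi
      simpa using Ideal.Quotient.eq_zero_iff_mem.mpr hi
    have := hle (Ideal.mem_map_of_mem _ hez)
    simpa [sub_eq_zero, hσw] using this
  -- every element of `U` times `e` is a scalar multiple of `e`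
  have key : ∀ u : U, ∃ d : A, (e : U) * u = algebraMap A U d * e := by
    intro u
    obtain ⟨d, hd⟩ := hrank Δ
    have hd1 : IsUnit d := isUnit_of_mk_eq_one hG.jac <| by
      have := congr(σ ($hd : F).1)
      simpa [hΔ, hσe1] using this.symm
    obtain ⟨N, hN⟩ := hF u
    obtain ⟨d', hd'⟩ := hrank ⟨_, hN⟩
    have hpow : ∀ k, (Δ : U) ^ k * e = algebraMap A U (d ^ k) * e := by
      intro k
      induction k with
      | zero => simp
      | succ k ih =>
        rw [pow_succ', mul_assoc, ih, mul_left_comm]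
        have := congr(($hd : F).1)
        simp only [MulMemClass.coe_mul, Subalgebra.coe_algebraMap] at this
        rw [this]; simp [pow_succ]; ring
    refine ⟨↑(hd1.pow N).unit⁻¹ * d', ?_⟩
    have h1 := congr(($hd' : F).1)
    simp only [MulMemClass.coe_mul, Subalgebra.coe_algebraMap] at h1
    have h2 : algebraMap A U ↑(hd1.pow N).unit⁻¹ * algebraMap A U (d ^ N) = 1 := by
      rw [← map_mul, IsUnit.val_inv_mul, map_one]
    rw [map_mul]
    linear_combination (-(e : U) * u) * h2 + algebraMap A U ↑(hd1.pow N).unit⁻¹ * h1 -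
      algebraMap A U ↑(hd1.pow N).unit⁻¹ * u * hpow N
  have hJ : ∀ c : A, c • (e : U) = 0 → c = 0 := by
    intro c hc
    obtain ⟨κ, q, y, hy, hq⟩ := Module.Flat.isTrivialRelation_of_sum_smul_eq_zero (R := A) (f := ![c])
      (x := ![(e : U)]) (by simpa using hc)
    choose d hd using fun k => key (y k)
    have hs : σ (e : U) = ∑ k, Ideal.Quotient.mk I (q 0 k * d k) := by
      have h1 : (e : U) = ∑ k, q 0 k • y k := by simpa using hy 0
      have h2 : (e : U) = ∑ k, algebraMap A U (q 0 k * d k) * e := by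
        conv_lhs => rw [← congr(($he.eq : F).1)]
        simp only [MulMemClass.coe_mul]
        nth_rw 2 [h1]
        simp only [Finset.mul_sum, Algebra.smul_def, map_mul]
        exact Finset.sum_congr rfl fun k _ => by rw [mul_left_comm, hd]; ring
      conv_lhs => rw [h2]
      simp [map_sum, hσe1]
    have hunit : IsUnit (∑ k, q 0 k * d k) :=
      isUnit_of_mk_eq_one hG.jac (by rw [map_sum, ← hs, hσe1])
    refine hunit.mul_left_eq_zero.mp ?_
    rw [Finset.mul_sum]
    refine Finset.sum_eq_zero fun k _ => ?_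
    have := hq k
    simp only [Fin.sum_univ_one, Matrix.cons_val_fin_one] at this
    rw [← mul_assoc, this, zero_mul]
  choose τ hτ using key
  have hinj : ∀ p q, algebraMap A U p * e = algebraMap A U q * e → p = q := fun p q h =>
    sub_eq_zero.mp <| hJ _ <| by rw [Algebra.smul_def, map_sub, sub_mul, h, sub_self]
  have he' : (e : U) * e = e := congr(($he.eq : F).1)
  refine ⟨{ toFun := τ, map_one' := hinj _ _ ?_, map_mul' := fun u v => hinj _ _ ?_,
            map_zero' := hinj _ _ ?_, map_add' := fun u v => hinj _ _ ?_,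
            commutes' := fun r => hinj _ _ ?_ }, ?_⟩
  · rw [← hτ]; simp
  · rw [← hτ, map_mul]
    linear_combination (u * v) * (-he') + hτ u * (e : U) * v + hτ v * algebraMap A U (τ u)
      + (v * algebraMap A U (τ u)) * he'
  · rw [← hτ]; simp
  · rw [← hτ, map_add, add_mul, ← hτ, ← hτ, mul_add]
  · rw [← hτ, Algebra.algebraMap_self, RingHom.id_apply, mul_comm]
  · ext u
    have := congr(σ $(hτ u))
    simpa [hσe1, Ideal.Quotient.mkₐ_eq_mk] using this.symm

end Groth.Agent.Hensel
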