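import Groth.Agent.Hensel.PairBasic

namespace Groth.Agent.Hensel

open Polynomial

universe u

theorem henselianRing_iff_gabber' (A : Type u) [CommRing A] (I : Ideal A) :
    HenselianRing A I ↔ (I ≤ Ideal.jacobson ⊥ ∧
      ∀ (n : ℕ), 0 < n → ∀ p : Polynomial A, p.natDegree ≤ n → (∀ i, p.coeff i ∈ I) →
        ∃! α : A, α - 1 ∈ I ∧
          Polynomial.IsRoot (Polynomial.X ^ n * (Polynomial.X - 1) + p) α) := by
  constructor
  · intro _
    refine ⟨HenselianRing.jac, fun n hn p hp hpI => ?_⟩
    have hp0 : p.map (Ideal.Quotient.mk I) = 0 := by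
      ext i; simpa using Ideal.Quotient.eq_zero_iff_mem.mpr (hpI i)
    let f := X ^ n * (X - 1) + p
    have hmap : f.map (Ideal.Quotient.mk I) = X ^ n * (X - 1) := by simp [f, hp0]
    have hf : f.Monic := by
      rcases subsingleton_or_nontrivial A with hA | hA
      · exact monic_of_subsingleton _
      refine Monic.add_of_left ((monic_X_pow n).mul (by simpa using monic_X_sub_C (1 : A))) ?_
      have hd : (X ^ n * (X - 1) : A[X]).degree = ((n + 1 : ℕ) : WithBot ℕ) := by
        rw [← map_one C, (monic_X_sub_C (1 : A)).degree_mul, degree_X_pow, degree_X_sub_C]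
        rfl
      rw [hd]
      exact degree_le_natDegree.trans_lt (by exact_mod_cast Nat.lt_succ_of_le hp)
    obtain ⟨α, hα, hα'⟩ := (GabberCond.of_henselianRing A I).root n hn f hf hmap
    refine ⟨α, ⟨hα', hα⟩, fun β ⟨hβ, hβ'⟩ => ?_⟩
    obtain ⟨c, hc⟩ := exists_mul_sq_add_linear_part_eq_eval_add f α (β - α)
    have hu : IsUnit (c * (β - α) + f.derivative.eval α) := by
      refine isUnit_of_mk_eq_one (HenselianRing.jac (I := I)) ?_
      have h1 : Ideal.Quotient.mk I α = 1 := by rwa [← map_one (Ideal.Quotient.mk I), Ideal.Quotient.eq]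
      have h2 : Ideal.Quotient.mk I β = 1 := by rwa [← map_one (Ideal.Quotient.mk I), Ideal.Quotient.eq]
      rw [map_add, map_mul, map_sub, h1, h2, sub_self, mul_zero, zero_add, ← eval_map_apply,
        ← derivative_map, hmap, h1]
      simp
    have h0 : (c * (β - α) + f.derivative.eval α) * (β - α) = 0 := by
      rw [add_sub_cancel, hα.eq_zero, hβ'.eq_zero] at hc
      linear_combination hc
    exact sub_eq_zero.mp (hu.mul_right_eq_zero.mp h0)
  · rintro ⟨hjac, H⟩
    refine henselianRing_iff_gabberCond.mpr ⟨hjac, fun N hN h hm hmap => ?_⟩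
    rcases subsingleton_or_nontrivial (A ⧸ I) with hs | hs
    · have hI : I = ⊤ := Ideal.Quotient.subsingleton_iff.mp hs
      have : Subsingleton A := subsingleton_of_zero_eq_one (by
        have := Ideal.mem_jacobson_bot.mp (hjac (hI ▸ Submodule.mem_top : (-1 : A) ∈ I)) 1
        simp at this; exact this)
      exact ⟨0, Subsingleton.elim _ _, hI ▸ Submodule.mem_top⟩
    have : Nontrivial A := (Ideal.Quotient.mk I).domain_nontrivial
    have hd : h.natDegree = N + 1 := by
      rw [← hm.natDegree_map (Ideal.Quotient.mk I), hmap,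
        (monic_X_pow N).natDegree_mul (by simpa using monic_X_sub_C (1 : A ⧸ I)), natDegree_X_pow]
      congr 1
      simpa using natDegree_X_sub_C (1 : A ⧸ I)
    have hpI : ∀ i, (h - X ^ N * (X - 1)).coeff i ∈ I := fun i => by
      rw [← Ideal.Quotient.eq_zero_iff_mem, ← coeff_map, Polynomial.map_sub, hmap]
      simp
    have hdeg : (h - X ^ N * (X - 1)).natDegree ≤ N := by
      refine natDegree_le_iff_coeff_eq_zero.mpr fun k hk => ?_
      rw [mul_sub, mul_one, coeff_sub, coeff_sub, ← pow_succ, coeff_X_pow, coeff_X_pow]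
      rcases eq_or_ne k (N + 1) with rfl | hk'
      · rw [if_pos rfl, if_neg (by omega), ← hd, hm.coeff_natDegree]; ring
      · rw [if_neg hk', if_neg (by omega), coeff_eq_zero_of_natDegree_lt (by omega)]; ring
    obtain ⟨α, ⟨h1, h2⟩, -⟩ := H N hN _ hdeg hpI
    exact ⟨α, by simpa using h2, h1⟩

end Groth.Agent.Hensel
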