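import Groth.Agent.Hensel.Henselization
import Groth.Agent.Hensel.HenselizationProps
import Mathlib.RingTheory.ZariskisMainTheorem
import Mathlib.RingTheory.Ideal.GoingUp

/-!
# The part of a finite type algebra over a henselian pair which is finite over the base
-/

noncomputable section

namespace Groth.Agent.Hensel

universe u

open TensorProduct

variable {A : Type u} [CommRing A] (I : Ideal A) {R : Type u} [CommRing R] [Algebra A R]

/-- A finite type algebra is quasi-finite at the primes of the zero locus of `I` if `R/IR` is finite. -/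
theorem quasiFiniteAt_of_finite_quotient [Algebra.FiniteType A R] [Module.Finite A (R ⧸ I.map (algebraMap A R))]
    (q : Ideal R) [q.IsPrime] (hq : I.map (algebraMap A R) ≤ q) : Algebra.QuasiFiniteAt A q := by
  let p := q.under A
  have hIp : I ≤ p := Ideal.map_le_iff_le_comap.mp hq
  let κ := p.ResidueField
  have : Module.Finite κ (p.Fiber R) := by
    obtain ⟨s, hs⟩ := (inferInstance : Module.Finite A (R ⧸ I.map (algebraMap A R)))
    classical
    let l : (R ⧸ I.map (algebraMap A R)) → R := fun x => (Ideal.Quotient.mk_surjective x).choose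
    have hl : ∀ x, Ideal.Quotient.mk _ (l x) = x := fun x => (Ideal.Quotient.mk_surjective x).choose_spec
    refine ⟨⟨s.image (fun x => (1 : κ) ⊗ₜ[A] l x), top_le_iff.mp fun z _ => ?_⟩⟩
    let N := Submodule.span κ (↑(s.image (fun x => (1 : κ) ⊗ₜ[A] l x)) : Set (p.Fiber R))
    have hzero : ∀ r ∈ I.map (algebraMap A R), ∀ c : κ, c ⊗ₜ[A] r = 0 := by
      intro r hr
      induction hr using Submodule.span_induction with
      | mem x hx =>
        obtain ⟨i, hi, rfl⟩ := hx
        intro c
        rw [Algebra.algebraMap_eq_smul_one, ← TensorProduct.smul_tmul,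
          Algebra.smul_def, Ideal.algebraMap_residueField_eq_zero.mpr (hIp hi), zero_mul,
          TensorProduct.zero_tmul]
      | zero => intro c; exact TensorProduct.tmul_zero _ c
      | add x y _ _ hx hy => intro c; rw [TensorProduct.tmul_add, hx, hy, add_zero]
      | smul a x _ hx =>
        intro c
        rw [smul_eq_mul, ← one_mul c, ← Algebra.TensorProduct.tmul_mul_tmul, hx, mul_zero]
    have key : ∀ r : R, (1 : κ) ⊗ₜ[A] r ∈ N := by
      intro r
      have hy : ∀ y ∈ Submodule.span A (↑s : Set (R ⧸ I.map (algebraMap A R))),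
          ∀ r : R, Ideal.Quotient.mk _ r = y → (1 : κ) ⊗ₜ[A] r ∈ N := by
        intro y hy
        induction hy using Submodule.span_induction with
        | mem x hx =>
          intro r hr
          have h0 : r - l x ∈ I.map (algebraMap A R) := Ideal.Quotient.eq.mp (hr.trans (hl x).symm)
          rw [show r = l x + (r - l x) by ring, TensorProduct.tmul_add, hzero _ h0, add_zero]
          exact Submodule.subset_span (Finset.mem_image.mpr ⟨x, hx, rfl⟩)
        | zero =>
          intro r hr
          rw [hzero _ (Ideal.Quotient.eq_zero_iff_mem.mp hr)]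
          exact zero_mem N
        | add x y _ _ hx hy =>
          intro r hr
          have := hy (r - l x) (by rw [map_sub, hr, hl, add_sub_cancel_left])
          rw [show r = l x + (r - l x) by ring, TensorProduct.tmul_add]
          exact add_mem (hx _ (hl x)) this
        | smul a x _ hx =>
          intro r hr
          have h0 : r - a • l x ∈ I.map (algebraMap A R) := Ideal.Quotient.eq.mp (by
            rw [hr, Algebra.smul_def, Algebra.smul_def, map_mul, hl]; rfl)
          rw [show r = a • l x + (r - a • l x) by ring, TensorProduct.tmul_add, hzero _ h0, add_zero,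
            TensorProduct.tmul_smul]
          exact N.smul_of_tower_mem a (hx _ (hl x))
      exact hy _ (by rw [hs]; trivial) r rfl
    induction z using TensorProduct.induction_on with
    | zero => exact zero_mem N
    | tmul c r =>
      rw [show c ⊗ₜ[A] r = c • ((1 : κ) ⊗ₜ[A] r) by rw [TensorProduct.smul_tmul', smul_eq_mul, mul_one]]
      exact N.smul_mem c (key r)
    | add x y hx hy => exact N.add_mem (hx trivial) (hy trivial)
  let Q := (PrimeSpectrum.preimageHomeomorphFiber A R ⟨p, inferInstance⟩ ⟨⟨q, inferInstance⟩, rfl⟩)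
  exact Algebra.QuasiFiniteAt.of_quasiFiniteAt_residueField p q Q.asIdeal
    congr($((PrimeSpectrum.preimageHomeomorphFiber A R ⟨p, inferInstance⟩).symm_apply_apply
      ⟨⟨q, inferInstance⟩, rfl⟩).1.asIdeal)

/-- Over a henselian pair a finite type algebra with finite reduction has an idempotent direct factor,
finite over the base, with the same reduction. -/
theorem exists_idempotent_finite_of_finite_quotient [HenselianRing A I] [Algebra.FiniteType A R]
    [Module.Finite A (R ⧸ I.map (algebraMap A R))] :
    ∃ e : R, IsIdempotentElem e ∧ 1 - e ∈ I.map (algebraMap A R) ∧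
      Module.Finite A (R ⧸ Ideal.span {1 - e}) := by
  let F := integralClosure A R
  let J := I.map (algebraMap A R)
  let C : R → Ideal F := fun u =>
    { carrier := {g | (g : R) * u ∈ F}
      zero_mem' := by simp
      add_mem' := fun {a b} ha hb => by
        show ((a + b : F) : R) * u ∈ F
        rw [Subalgebra.coe_add, add_mul]; exact add_mem ha hb
      smul_mem' := fun c g hg => by
        show ((c • g : F) : R) * u ∈ F
        rw [smul_eq_mul, Subalgebra.coe_mul, mul_assoc]; exact mul_mem c.2 hg }
  let W : Ideal F := ⨅ u, (C u).radical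
  have hW : ∀ g : F, g ∈ W → ∀ u, ∃ N, (g : R) ^ N * u ∈ F := fun g hg u => by
    obtain ⟨N, hN⟩ := (Submodule.mem_iInf _).mp hg u
    exact ⟨N, by simpa [C] using hN⟩
  let K : Ideal F := J.comap F.val.toRingHom
  -- the two parts of the zero locus are disjoint
  have hKW : K ⊔ W = ⊤ := by
    by_contra h
    obtain ⟨P, hP, hle⟩ := Ideal.exists_le_maximal _ h
    have : Algebra.IsIntegral F (R ⧸ J) := Algebra.IsIntegral.tower_top (R := A)
    obtain ⟨Q, -, hQ, hQP⟩ := Ideal.exists_ideal_over_prime_of_isIntegral (S := R ⧸ J) P ⊥ (by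
      refine le_trans (fun x hx => ?_) (le_trans le_sup_left hle)
      show (x : R) ∈ J
      rw [← Ideal.Quotient.eq_zero_iff_mem]
      exact hx)
    let q : Ideal R := Q.comap (Ideal.Quotient.mk J)
    have : q.IsPrime := hQ.comap _
    have hJq : J ≤ q := fun x hx => by
      show Ideal.Quotient.mk J x ∈ Q
      rw [Ideal.Quotient.eq_zero_iff_mem.mpr hx]; exact zero_mem Q
    have := quasiFiniteAt_of_finite_quotient I q hJq
    obtain ⟨r, hrq, hr, hu⟩ :=
      Algebra.zariskisMainProperty_iff.mp (Algebra.ZariskisMainProperty.of_finiteType (R := A) q)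
    have hmem : (⟨r, hr⟩ : F) ∈ W := (Submodule.mem_iInf _).mpr fun u => by
      obtain ⟨m, hm⟩ := hu u
      refine ⟨m, ?_⟩
      show (((⟨r, hr⟩ : F) ^ m : F) : R) * u ∈ F
      exact hm
    have h2 : (⟨r, hr⟩ : F) ∈ Q.comap (algebraMap F (R ⧸ J)) := hQP.ge (le_sup_right.trans hle hmem)
    exact hrq h2
  obtain ⟨a, ha, w, hw, haw⟩ := Submodule.mem_sup.mp (hKW ▸ Submodule.mem_top : (1 : F) ∈ K ⊔ W)
  -- their product is nilpotent modulo `I`
  have hnil : ∃ N, (a * w) ^ N ∈ I.map (algebraMap A F) := by
    have key : ∀ x ∈ J, ∃ N : ℕ, ∀ y : F, (y : R) = (w : R) ^ N * x → y ∈ I.map (algebraMap A F) := by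
      intro x hx
      suffices h : ∃ N : ℕ, ∃ y ∈ I.map (algebraMap A F), (y : R) = (w : R) ^ N * x by
        obtain ⟨N, y, hy, hyx⟩ := h
        exact ⟨N, fun y' hy' => (Subtype.ext (hy'.trans hyx.symm) : y' = y) ▸ hy⟩
      have hlin : ∀ u : R, ∀ i ∈ I, ∃ N : ℕ, ∃ y ∈ I.map (algebraMap A F),
          (y : R) = (w : R) ^ N * (u * algebraMap A R i) := fun u i hi => by
        obtain ⟨N, hN⟩ := hW w hw u
        refine ⟨N, ⟨_, hN⟩ * algebraMap A F i, Ideal.mul_mem_left _ _ (Ideal.mem_map_of_mem _ hi), ?_⟩
        show (w : R) ^ N * u * algebraMap A R i = _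
        ring
      induction hx using Submodule.span_induction with
      | mem z hz =>
        obtain ⟨i, hi, rfl⟩ := hz
        simpa using hlin 1 i hi
      | zero => exact ⟨0, 0, zero_mem _, by simp⟩
      | add z z' _ _ hz hz' =>
        obtain ⟨N, y, hy, hyz⟩ := hz
        obtain ⟨N', y', hy', hyz'⟩ := hz'
        refine ⟨N + N', w ^ N' * y + w ^ N * y', add_mem (Ideal.mul_mem_left _ _ hy) (Ideal.mul_mem_left _ _ hy'), ?_⟩
        rw [Subalgebra.coe_add, Subalgebra.coe_mul, Subalgebra.coe_mul, hyz, hyz']
        simp only [SubmonoidClass.coe_pow]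
        ring
      | smul c z _ hz =>
        obtain ⟨N, y, hy, hyz⟩ := hz
        obtain ⟨M, hM⟩ := hW w hw c
        refine ⟨M + N, ⟨_, hM⟩ * y, Ideal.mul_mem_left _ _ hy, ?_⟩
        rw [Subalgebra.coe_mul, hyz]
        show (w : R) ^ M * c * ((w : R) ^ N * z) = (w : R) ^ (M + N) * (c * z)
        ring
    obtain ⟨N, hN⟩ := key (a : R) ha
    refine ⟨N + 1, ?_⟩
    rw [show (a * w) ^ (N + 1) = (w ^ N * a) * (a ^ N * w) by ring]
    exact Ideal.mul_mem_right _ _ (hN _ (by simp))
  obtain ⟨N, hN⟩ := hnil
  have hN1 : (a * w) ^ (N + 1) ∈ I.map (algebraMap A F) := by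
    rw [pow_succ]; exact Ideal.mul_mem_right _ _ hN
  obtain ⟨y, x, hxy⟩ := (IsCoprime.pow (m := N + 1) (n := N + 1) ⟨1, 1, by rw [one_mul, one_mul, haw]⟩ :
    IsCoprime (a ^ (N + 1)) (w ^ (N + 1)))
  let e₀ : F := x * w ^ (N + 1)
  have he₀ : IsIdempotentElem (Ideal.Quotient.mk (I.map (algebraMap A F)) e₀) := by
    rw [IsIdempotentElem, ← map_mul, Ideal.Quotient.eq,
      show e₀ * e₀ - e₀ = -(x * y * (a * w) ^ (N + 1)) by
        simp only [e₀]; linear_combination (x * w ^ (N + 1)) * hxy]
    exact neg_mem (Ideal.mul_mem_left _ _ hN1)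
  have hbij := (henselianRing_iff_idempotents_lift I).mp inferInstance F inferInstance
  obtain ⟨e, he, hee⟩ := hbij.surjOn he₀
  rw [Ideal.Quotient.eq] at hee
  have hFJ : ∀ z ∈ I.map (algebraMap A F), (z : R) ∈ J := fun z hz => by
    have := Ideal.mem_map_of_mem F.val hz
    rwa [show (I.map (algebraMap A F)).map F.val = J from
      (Ideal.map_map (algebraMap A F) F.val.toRingHom).trans
        (congrArg (Ideal.map · I) F.val.comp_algebraMap)] at this
  have he1 : 1 - (e : R) ∈ J := by
    have h1 : ((1 - e₀ : F) : R) ∈ J := by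
      rw [show 1 - e₀ = y * a ^ (N + 1) by simp only [e₀]; linear_combination -hxy, Subalgebra.coe_mul,
        SubmonoidClass.coe_pow, pow_succ]
      exact Ideal.mul_mem_left _ _ (Ideal.mul_mem_left _ _ ha)
    have := sub_mem h1 (hFJ _ hee)
    simpa using this
  have heR : IsIdempotentElem (e : R) := congrArg Subtype.val (he : e * e = e)
  refine ⟨e, heR, he1, ?_⟩
  -- `w` is invertible on the factor of `e`
  let G := F ⧸ Ideal.span {1 - e}
  have hG : HenselianRing G (I.map (algebraMap A G)) := henselianRing_of_isIntegral' I G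
  have hwu : IsUnit (Ideal.Quotient.mk (Ideal.span {1 - e}) w) := by
    have h1 : Ideal.Quotient.mk (Ideal.span {1 - e}) e = 1 := by
      rw [← map_one (Ideal.Quotient.mk _), Ideal.Quotient.eq]
      exact Ideal.mem_span_singleton'.mpr ⟨-1, by ring⟩
    have h2 : Ideal.Quotient.mk (Ideal.span {1 - e}) e₀ - 1 ∈ I.map (algebraMap A G) := by
      have := Ideal.mem_map_of_mem (Ideal.Quotient.mk (Ideal.span {1 - e})) hee
      rw [Ideal.map_map, map_sub, h1] at this
      simpa using neg_mem this
    have hu := Ideal.mem_jacobson_bot.mp (hG.jac h2) 1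
    simp only [mul_one, sub_add_cancel, e₀, map_mul, map_pow] at hu
    exact (isUnit_pow_succ_iff).mp (isUnit_of_mul_isUnit_right hu)
  let φ : G →ₐ[A] R ⧸ Ideal.span {1 - (e : R)} :=
    Ideal.Quotient.liftₐ _ ((Ideal.Quotient.mkₐ A _).comp F.val) fun z hz => by
      obtain ⟨c, rfl⟩ := Ideal.mem_span_singleton'.mp hz
      exact Ideal.Quotient.eq_zero_iff_mem.mpr
        (Ideal.mem_span_singleton'.mpr ⟨(c : R), by simp⟩)
  have hφ : Function.Surjective φ := fun z => by
    obtain ⟨u, rfl⟩ := Ideal.Quotient.mk_surjective z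
    obtain ⟨M, hM⟩ := hW w hw u
    obtain ⟨c, hc⟩ := hwu.exists_left_inv
    refine ⟨c ^ M * Ideal.Quotient.mk _ ⟨_, hM⟩, ?_⟩
    have h2 : φ (Ideal.Quotient.mk (Ideal.span {1 - e}) w) = Ideal.Quotient.mk _ (w : R) := rfl
    rw [map_mul, map_pow, show φ (Ideal.Quotient.mk _ ⟨_, hM⟩) =
      Ideal.Quotient.mk (Ideal.span {1 - (e : R)}) ((w : R) ^ M * u) from rfl, map_mul, map_pow,
      ← mul_assoc, ← mul_pow, ← h2, ← map_mul, hc, map_one, one_pow, one_mul]
  have : Algebra.IsIntegral A (R ⧸ Ideal.span {1 - (e : R)}) := Algebra.IsIntegral.of_surjective φ hφ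
  exact Algebra.IsIntegral.finite

/-- An algebra henselized along `I` with finite reduction is a direct factor of any finite type model. -/
theorem exists_surjective_of_finite_quotient [HenselianRing A I] [Algebra.FiniteType A R]
    {B : Type u} [CommRing B] [Algebra R B] [Algebra A B] [IsScalarTower A R B]
    (hB : Hens2.IsPairHenselization R (I.map (algebraMap A R)) B)
    (hfin : (Ideal.quotientMap (I.map (algebraMap A B)) (algebraMap A B) Ideal.le_comap_map).Finite) :
    ∃ e : R, IsIdempotentElem e ∧ Function.Surjective (algebraMap R B) ∧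
      RingHom.ker (algebraMap R B) = Ideal.span {1 - e} ∧ Module.Finite A B := by
  let J := I.map (algebraMap A R)
  have : Module.Finite A (B ⧸ I.map (algebraMap A B)) := by
    let : Algebra (A ⧸ I) (B ⧸ I.map (algebraMap A B)) :=
      (Ideal.quotientMap (I.map (algebraMap A B)) (algebraMap A B) Ideal.le_comap_map).toAlgebra
    have : IsScalarTower A (A ⧸ I) (B ⧸ I.map (algebraMap A B)) := .of_algebraMap_eq fun _ => rfl
    have : Module.Finite (A ⧸ I) (B ⧸ I.map (algebraMap A B)) := hfin
    exact Module.Finite.trans (A ⧸ I) _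
  have hJB : J.map (algebraMap R B) = I.map (algebraMap A B) := by
    rw [Ideal.map_map, ← IsScalarTower.algebraMap_eq]
  have : Module.Finite A (R ⧸ J) := by
    obtain ⟨ε⟩ := exists_algEquiv_pairHenz J hB
    let q : R ⧸ J →ₗ[A] B ⧸ I.map (algebraMap A B) :=
      (Ideal.quotientMapₐ (I.map (algebraMap A B)) (IsScalarTower.toAlgHom A R B)
        (Ideal.map_le_iff_le_comap.mp hJB.le)).toLinearMap
    have hq : Function.Bijective q := by
      have hker : ∀ r, algebraMap R B r ∈ I.map (algebraMap A B) → r ∈ J := fun r hr => by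
        rw [← hJB] at hr
        have := Ideal.mem_map_of_mem ε.symm hr
        rw [show (J.map (algebraMap R B)).map ε.symm = J.map (algebraMap R (PairHenz R J)) from
          (Ideal.map_map (algebraMap R B) ε.symm.toAlgHom.toRingHom).trans
            (congrArg (Ideal.map · J) ε.symm.toAlgHom.comp_algebraMap), AlgEquiv.commutes,
          ← ker_proj_pairHenz, RingHom.mem_ker, AlgHom.commutes] at this
        exact Ideal.Quotient.eq_zero_iff_mem.mp this
      refine ⟨(injective_iff_map_eq_zero q).mpr fun z => ?_, fun z => ?_⟩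
      · obtain ⟨r, rfl⟩ := Ideal.Quotient.mk_surjective z
        exact fun h => Ideal.Quotient.eq_zero_iff_mem.mpr (hker r (Ideal.Quotient.eq_zero_iff_mem.mp h))
      · obtain ⟨b, rfl⟩ := Ideal.Quotient.mk_surjective z
        obtain ⟨r, hr⟩ := Ideal.Quotient.mk_surjective (Henz.proj R (R ⧸ J) (ε.symm b))
        refine ⟨Ideal.Quotient.mk _ r, Ideal.Quotient.eq.mpr ?_⟩
        have h1 : algebraMap R (PairHenz R J) r - ε.symm b ∈ J.map (algebraMap R (PairHenz R J)) := by
          rw [← ker_proj_pairHenz, RingHom.mem_ker, map_sub, AlgHom.commutes, ← hr]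
          exact sub_self _
        have := Ideal.mem_map_of_mem ε h1
        rw [show (J.map (algebraMap R (PairHenz R J))).map ε = I.map (algebraMap A B) from
          ((Ideal.map_map (algebraMap R (PairHenz R J)) ε.toAlgHom.toRingHom).trans
            (congrArg (Ideal.map · J) ε.toAlgHom.comp_algebraMap)).trans hJB,
          map_sub, AlgEquiv.commutes, AlgEquiv.apply_symm_apply] at this
        exact this
    exact Module.Finite.equiv (LinearEquiv.ofBijective q hq).symm
  obtain ⟨e, he, he1, hfinC⟩ := exists_idempotent_finite_of_finite_quotient I (R := R)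
  let C := R ⧸ Ideal.span {1 - e}
  have hC : HenselianRing C (I.map (algebraMap A C)) := henselianRing_of_isIntegral' I C
  obtain ⟨g, hg, -⟩ := hB.2 C (I.map (algebraMap A C)) (algebraMap R C) hC
    (by rw [Ideal.map_map, ← IsScalarTower.algebraMap_eq])
  have he0 : algebraMap R B (1 - e) = 0 := by
    have hx : IsIdempotentElem (algebraMap R B (1 - e)) := he.one_sub.map _
    have hu := Ideal.mem_jacobson_bot.mp (hB.1.jac (Ideal.mem_map_of_mem (algebraMap R B) he1)) (-1)
    refine (IsUnit.mul_left_eq_zero hu).mp ?_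
    linear_combination -hx.eq
  let h : C →+* B := Ideal.Quotient.lift _ (algebraMap R B) fun z hz => by
    obtain ⟨c, rfl⟩ := Ideal.mem_span_singleton'.mp hz
    rw [map_mul, he0, mul_zero]
  have hhg : h.comp g = RingHom.id B := (hB.2 B _ (algebraMap R B) hB.1 le_rfl).unique
    (by rw [RingHom.comp_assoc, hg]; exact RingHom.ext fun r => rfl) (RingHom.id_comp _)
  have hgh : g.comp h = RingHom.id C := Ideal.Quotient.ringHom_ext (RingHom.ext fun r =>
    congr($hg r))
  have hbij : Function.Bijective h :=
    ⟨Function.LeftInverse.injective (g := g) fun c => congr($hgh c),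
      Function.RightInverse.surjective (g := g) fun b => congr($hhg b)⟩
  refine ⟨e, he, hbij.2.comp Ideal.Quotient.mk_surjective, ?_, ?_⟩
  · ext r
    rw [RingHom.mem_ker, show algebraMap R B r = h (Ideal.Quotient.mk _ r) from rfl,
      map_eq_zero_iff h hbij.1, Ideal.Quotient.eq_zero_iff_mem]
  · exact Module.Finite.of_surjective
      (AlgHom.mk h (fun a => (IsScalarTower.algebraMap_apply A R B a).symm) : C →ₐ[A] B).toLinearMap hbij.2

end Groth.Agent.Hensel
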