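import Groth.Agent.Hensel.HfpTruncation
import Groth.Agent.Hensel.FormalTrunc
import Groth.Agent.Hensel.HfpFinite
import Groth.Agent.S17609

/-!
# Presenting henselian finitely presented algebras by henselizations of lifts
-/

noncomputable section

namespace Groth.Agent.Hensel

universe u

variable {A : Type u} [CommRing A] (I : Ideal A) [HenselianRing A I]
  {R₀ : Type u} [CommRing R₀] [Algebra A R₀] [Algebra.FinitePresentation A R₀]
  {B : Type u} [CommRing B] [Algebra R₀ B] [Algebra A B] [IsScalarTower A R₀ B]
  (hB : Hens2.IsPairHenselization R₀ (I.map (algebraMap A R₀)) B)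
  {R : Type u} [CommRing R] [Algebra A R] [Algebra.FinitePresentation A R]

include hB

/-- The henselization of a lift of the reduction surjects. -/
theorem exists_surjection_henz (f : R →ₐ[A] B)
    (hf : Function.Surjective ((Ideal.Quotient.mk (I.map (algebraMap A B))).comp f.toRingHom)) :
    ∃ (H : Type u) (_ : CommRing H) (_ : Algebra R H) (_ : Algebra A H) (_ : IsScalarTower A R H),
      Hens2.IsPairHenselization R (I.map (algebraMap A R)) H ∧
      ∃ φ : H →ₐ[A] B, (∀ r, φ (algebraMap R H r) = f r) ∧ Function.Surjective φ ∧ (RingHom.ker φ).FG := by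
  let J := I.map (algebraMap A R)
  let H := PairHenz R J
  let : Algebra A H := Algebra.compHom H (algebraMap A R)
  have : IsScalarTower A R H := .of_algebraMap_eq' rfl
  have hH : Hens2.IsPairHenselization R J H := isPairHenselization_pairHenz R J
  have hB1 : HenselianRing B (I.map (algebraMap A B)) := by
    have := hB.1
    rwa [Ideal.map_map, ← IsScalarTower.algebraMap_eq] at this
  obtain ⟨g, hg, -⟩ := hH.2 B (I.map (algebraMap A B)) f.toRingHom hB1
    (by rw [Ideal.map_map, f.toRingHom_eq_coe, f.comp_algebraMap])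
  let φ : H →ₐ[A] B := AlgHom.mk g fun a =>
    ((congrArg g (IsScalarTower.algebraMap_apply A R H a)).trans congr($hg (algebraMap A R a))).trans (f.commutes a)
  refine ⟨H, inferInstance, inferInstance, inferInstance, inferInstance, hH, φ, fun r => congr($hg r), ?_⟩
  let : Algebra H B := φ.toRingHom.toAlgebra
  have : IsScalarTower A H B := .of_algebraMap_eq fun a => (φ.commutes a).symm
  obtain ⟨T, _, _, _, _, _, hT⟩ := S17609.result A I R H hH R₀ B hB
  have : HenselianRing H (I.map (algebraMap A H)) := by
    have := hH.1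
    rwa [Ideal.map_map, ← IsScalarTower.algebraMap_eq] at this
  have hmap : (I.map (algebraMap A H)).map (algebraMap H B) = I.map (algebraMap A B) := by
    rw [Ideal.map_map, ← IsScalarTower.algebraMap_eq]
  have hsurj1 : Function.Surjective (Ideal.quotientMap ((I.map (algebraMap A H)).map (algebraMap H B))
      (algebraMap H B) Ideal.le_comap_map) := fun z => by
    obtain ⟨b, rfl⟩ := Ideal.Quotient.mk_surjective z
    obtain ⟨r, hr⟩ := hf (Ideal.Quotient.mk _ b)
    refine ⟨Ideal.Quotient.mk _ (algebraMap R H r), ?_⟩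
    rw [Ideal.quotientMap_mk, Ideal.Quotient.eq, hmap, show algebraMap H B (algebraMap R H r) = f r from congr($hg r)]
    exact Ideal.Quotient.eq.mp hr
  obtain ⟨e, -, hs, hk, hfin⟩ := exists_surjective_of_finite_quotient (I.map (algebraMap A H)) hT
    (RingHom.Finite.of_surjective _ hsurj1)
  have hsurj : Function.Surjective φ := fun b => by
    have htop : (⊤ : Submodule H B) ≤ LinearMap.range (Algebra.linearMap H B) :=
      Submodule.le_of_le_smul_of_le_jacobson_bot Module.Finite.fg_top HenselianRing.jac (fun b _ => by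
        obtain ⟨z, hz⟩ := hsurj1 (Ideal.Quotient.mk _ b)
        obtain ⟨a, rfl⟩ := Ideal.Quotient.mk_surjective z
        rw [Ideal.quotientMap_mk, Ideal.Quotient.eq] at hz
        refine Submodule.mem_sup.mpr ⟨algebraMap H B a, ⟨a, rfl⟩, b - algebraMap H B a, ?_, add_sub_cancel _ _⟩
        rw [Ideal.smul_top_eq_map]
        simpa using neg_mem hz)
    exact htop (x := b) trivial
  have : Algebra.FinitePresentation H B :=
    Algebra.FinitePresentation.of_surjective (f := IsScalarTower.toAlgHom H T B) hs (by
      show (RingHom.ker (algebraMap T B)).FG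
      rw [hk]; exact Submodule.fg_span_singleton _)
  refine ⟨hsurj, ?_⟩
  exact Algebra.FinitePresentation.ker_fG_of_surjective (Algebra.ofId H B) hsurj

omit hB

/-- If the lift is formally étale, the kernel dies in all truncations. -/
theorem ker_le_of_etale [Algebra.FormallyEtale A R]
    (het : ∀ r : ℕ, 1 ≤ r → Algebra.Etale (A ⧸ I ^ r) (B ⧸ (I ^ r).map (algebraMap A B)))
    {H : Type u} [CommRing H] [Algebra R H] [Algebra A H] [IsScalarTower A R H]
    (hH : Hens2.IsPairHenselization R (I.map (algebraMap A R)) H)
    (φ : H →ₐ[A] B) (hbij : Function.Bijective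
      (Ideal.quotientMapₐ (I.map (algebraMap A B)) φ (Ideal.map_le_iff_le_comap.mp
        (le_of_eq (show (I.map (algebraMap A H)).map φ = I.map (algebraMap A B) from
          (Ideal.map_map (algebraMap A H) φ.toRingHom).trans (congrArg (Ideal.map · I) φ.comp_algebraMap))))))
    (n : ℕ) : RingHom.ker φ ≤ (I ^ n).map (algebraMap A H) := by
  rcases Nat.eq_zero_or_pos n with rfl | hn
  · simp [Ideal.map_top]
  have hIH : HenselianRing H (I.map (algebraMap A H)) := by
    have := hH.1
    rwa [Ideal.map_map, ← IsScalarTower.algebraMap_eq] at this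
  let J := (I ^ n).map (algebraMap A H)
  let E := H ⧸ J
  let C := H ⧸ I.map (algebraMap A H)
  have hle : J ≤ I.map (algebraMap A H) := Ideal.map_mono (Ideal.pow_le_self (by omega))
  let p : E →ₐ[A] C := Ideal.Quotient.factorₐ A hle
  have hp : Function.Surjective p := Ideal.Quotient.factor_surjective hle
  have hker : RingHom.ker p ^ n = ⊥ := by
    rw [show RingHom.ker p = (I.map (algebraMap A H)).map (Ideal.Quotient.mk J) from Ideal.Quotient.factor_ker hle,
      ← Ideal.map_pow, ← Ideal.map_pow, Ideal.map_quotient_self]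
  have hbot : ∀ {X : Ideal H}, J ≤ X → (I ^ n).map (algebraMap A (H ⧸ X)) = ⊥ := fun {X} hX => by
    rw [show algebraMap A (H ⧸ X) = (Ideal.Quotient.mk X).comp (algebraMap A H) from rfl, ← Ideal.map_map,
      Ideal.map_eq_bot_iff_le_ker, Ideal.mk_ker]
    exact hX
  let q := AlgEquiv.ofBijective _ hbij
  obtain ⟨v, hv⟩ := liftsTrunc_of_formallySmooth I (B := B) (fun r hr => by have := het r hr; infer_instance)
    E C n (by omega) (hbot le_rfl) (hbot hle) p hp ⟨n, by omega, hker⟩
    (q.symm.toAlgHom.comp (Ideal.Quotient.mkₐ A _))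
  have : HenselianRing E (I.map (algebraMap A E)) := by
    have := henselianRing_quotient J (I.map (algebraMap A H))
    rwa [Ideal.map_map] at this
  have key : v.comp φ = Ideal.Quotient.mkₐ A J := by
    refine algHom_ext_of_isPairHenselization I hH (I.map (algebraMap A E)) le_rfl fun r => ?_
    refine AlgHom.congr_fun (Algebra.FormallyUnramified.ext (R := A) (RingHom.ker p) ⟨n, hker⟩
      (g₁ := (v.comp φ).comp (IsScalarTower.toAlgHom A R H))
      (g₂ := (Ideal.Quotient.mkₐ A J).comp (IsScalarTower.toAlgHom A R H)) fun x => ?_) r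
    refine Ideal.Quotient.eq.mpr ?_
    rw [RingHom.mem_ker, map_sub, sub_eq_zero]
    refine (AlgHom.congr_fun hv (φ (algebraMap R H x))).trans ?_
    exact q.symm_apply_eq.mpr rfl
  intro x hx
  have h0 := AlgHom.congr_fun key x
  rw [AlgHom.comp_apply, show φ x = 0 from hx, map_zero] at h0
  exact Ideal.Quotient.eq_zero_iff_mem.mp h0.symm

end Groth.Agent.Hensel
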