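import Groth.Agent.Hensel.Colim
import Groth.Agent.Hensel.TensorHenz
import Groth.Agent.Hensel.EtaleLift

/-!
# Étale neighbourhoods with trivial residue field extension as points in `κ(p)`

An étale neighbourhood `(S, q)` of `p` with `κ(p) = κ(q)` is the same as an `R`-algebra map `S → κ(p)`.
-/

noncomputable section

namespace Groth.Agent.Hensel

universe u v

open IsLocalRing

variable {R : Type u} [CommRing R] {p : Ideal R} [p.IsPrime] {S : Type u} [CommRing S] [Algebra R S]

/-- The point of a neighbourhood with trivial residue field extension. -/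
theorem exists_point (q : Ideal S) [q.IsPrime] (hq : p = q.comap (algebraMap R S))
    (h : Function.Bijective (Ideal.ResidueField.map p q (algebraMap R S) hq)) :
    ∃ τ : S →ₐ[R] p.ResidueField, RingHom.ker τ = q := by
  let e := RingEquiv.ofBijective _ h
  refine ⟨{ e.symm.toRingHom.comp (algebraMap S q.ResidueField) with commutes' := fun r => ?_ }, ?_⟩
  · refine e.symm_apply_eq.mpr ?_
    exact (Ideal.ResidueField.map_algebraMap p q (algebraMap R S) hq r).symm
  · ext s
    show e.symm (algebraMap S q.ResidueField s) = 0 ↔ _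
    rw [map_eq_zero_iff _ e.symm.injective, Ideal.algebraMap_residueField_eq_zero]

theorem isPrime_ker_point (τ : S →ₐ[R] p.ResidueField) : (RingHom.ker τ).IsPrime :=
  RingHom.ker_isPrime _

theorem comap_ker_point (τ : S →ₐ[R] p.ResidueField) : p = (RingHom.ker τ).comap (algebraMap R S) := by
  ext r
  rw [Ideal.mem_comap, RingHom.mem_ker, AlgHom.commutes, Ideal.algebraMap_residueField_eq_zero]

/-- A point cuts out a neighbourhood with trivial residue field extension. -/
theorem bijective_of_point (τ : S →ₐ[R] p.ResidueField) (q : Ideal S) [q.IsPrime] (hτ : RingHom.ker τ = q)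
    (hq : p = q.comap (algebraMap R S)) :
    Function.Bijective (Ideal.ResidueField.map p q (algebraMap R S) hq) := by
  let T : q.ResidueField →+* p.ResidueField := Ideal.ResidueField.lift q τ.toRingHom hτ.ge fun s hs =>
    isUnit_iff_ne_zero.mpr fun h => hs (hτ.le h)
  have hT : T.comp (Ideal.ResidueField.map p q (algebraMap R S) hq) = RingHom.id _ :=
    Ideal.ResidueField.ringHom_ext (RingHom.ext fun r => by
      show T (Ideal.ResidueField.map p q (algebraMap R S) hq (algebraMap R _ r)) = algebraMap R _ r
      rw [Ideal.ResidueField.map_algebraMap]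
      exact (Ideal.ResidueField.lift_algebraMap q τ.toRingHom _ _ (algebraMap R S r)).trans (τ.commutes r))
  exact ⟨RingHom.injective _, fun y => ⟨T y, T.injective (RingHom.congr_fun hT (T y))⟩⟩

/-- A point gives an existential package as in the statements on étale neighbourhoods. -/
theorem exists_nbhd_of_point (τ : S →ₐ[R] p.ResidueField) :
    ∃ (q : Ideal S) (_ : q.IsPrime) (hq : p = q.comap (algebraMap R S)),
      Function.Bijective (Ideal.ResidueField.map p q (algebraMap R S) hq) ∧ q = RingHom.ker τ :=
  have := isPrime_ker_point τ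
  ⟨_, this, comap_ker_point τ, bijective_of_point τ _ rfl _, rfl⟩

/-- Maps of a neighbourhood with trivial residue field extension into a field are determined by their kernel. -/
theorem point_unique {L : Type v} [Field L] [Algebra R L] (q : Ideal S) [q.IsPrime]
    (hq : p = q.comap (algebraMap R S))
    (h : Function.Bijective (Ideal.ResidueField.map p q (algebraMap R S) hq))
    (τ τ' : S →ₐ[R] L) (hτ : RingHom.ker τ = q) (hτ' : RingHom.ker τ' = q) : τ = τ' := by
  let T : (S →ₐ[R] L) → Prop := fun σ => RingHom.ker σ = q
  let lft : ∀ σ : S →ₐ[R] L, T σ → q.ResidueField →+* L := fun σ hσ =>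
    Ideal.ResidueField.lift q σ.toRingHom hσ.ge fun s hs => isUnit_iff_ne_zero.mpr fun h => hs (hσ.le h)
  have hl : lft τ hτ = lft τ' hτ' := by
    refine RingHom.ext fun y => ?_
    obtain ⟨x, rfl⟩ := h.2 y
    refine RingHom.congr_fun (Ideal.ResidueField.ringHom_ext
      (f := (lft τ hτ).comp (Ideal.ResidueField.map p q (algebraMap R S) hq))
      (g := (lft τ' hτ').comp (Ideal.ResidueField.map p q (algebraMap R S) hq)) (RingHom.ext fun r => ?_)) x
    show lft τ hτ (Ideal.ResidueField.map p q _ hq (algebraMap R _ r)) =
      lft τ' hτ' (Ideal.ResidueField.map p q _ hq (algebraMap R _ r))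
    rw [Ideal.ResidueField.map_algebraMap]
    exact ((Ideal.ResidueField.lift_algebraMap q τ.toRingHom _ _ (algebraMap R S r)).trans (τ.commutes r)).trans
      ((Ideal.ResidueField.lift_algebraMap q τ'.toRingHom _ _ (algebraMap R S r)).trans (τ'.commutes r)).symm
  exact AlgHom.ext fun s => by
    simpa [lft] using RingHom.congr_fun hl (algebraMap S q.ResidueField s)

section residueField

variable (R p)

instance isLocalRing_henz_residueField : IsLocalRing (Henz R p.ResidueField) :=
  have : Nontrivial (Henz R p.ResidueField) := (Henz.proj R p.ResidueField).toRingHom.domain_nontrivial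
  .of_nonunits_add fun a b ha hb => by
    simp only [mem_nonunits_iff, Henz.isUnit_iff, isUnit_iff_ne_zero, not_not] at ha hb ⊢
    rw [map_add, ha, hb, add_zero]

theorem maximalIdeal_henz_residueField :
    maximalIdeal (Henz R p.ResidueField) = RingHom.ker (Henz.proj R p.ResidueField) := by
  ext x
  rw [IsLocalRing.mem_maximalIdeal, mem_nonunits_iff, Henz.isUnit_iff, isUnit_iff_ne_zero, not_not,
    RingHom.mem_ker]

instance henselianLocalRing_henz_residueField : HenselianLocalRing (Henz R p.ResidueField) :=
  have : HenselianRing (Henz R p.ResidueField) (maximalIdeal (Henz R p.ResidueField)) := by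
    rw [maximalIdeal_henz_residueField]; exact Henz.henselianRing
  henselianLocalRing_of_henselianRing _

theorem comap_maximalIdeal_henz_residueField :
    (maximalIdeal (Henz R p.ResidueField)).comap (algebraMap R (Henz R p.ResidueField)) = p := by
  ext r
  rw [maximalIdeal_henz_residueField, Ideal.mem_comap, RingHom.mem_ker, AlgHom.commutes,
    Ideal.algebraMap_residueField_eq_zero]

variable (Rh : Type u) [CommRing Rh] [IsLocalRing Rh] [Algebra (Localization.AtPrime p) Rh]
  [IsLocalHom (algebraMap (Localization.AtPrime p) Rh)] [Hensel.IsHenselization (Localization.AtPrime p) Rh]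
  [Algebra R Rh] [IsScalarTower R (Localization.AtPrime p) Rh]

/-- The henselization at `p` is the colimit of the étale neighbourhoods with trivial residue field extension. -/
theorem exists_algEquiv_henz_residueField :
    ∃ e : Henz R p.ResidueField ≃ₐ[R] Rh,
      (maximalIdeal Rh).comap e.toAlgHom.toRingHom = maximalIdeal (Henz R p.ResidueField) := by
  have : HenselianLocalRing Rh := Hensel.IsHenselization.henselian (Localization.AtPrime p)
  have hp := comap_algebraMap_atPrime R p Rh
  let ι : p.ResidueField →+* Rh ⧸ maximalIdeal Rh :=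
    Ideal.ResidueField.lift p ((Ideal.Quotient.mk (maximalIdeal Rh)).comp (algebraMap R Rh))
      (fun r hr => Ideal.Quotient.eq_zero_iff_mem.mpr (hp.ge hr)) fun r hr =>
      (IsLocalRing.residue Rh).isUnit_map (by
        by_contra h
        exact hr (hp.le h))
  let ιₐ : p.ResidueField →ₐ[R] Rh ⧸ maximalIdeal Rh :=
    { ι with commutes' := fun r => by exact (Ideal.ResidueField.lift_algebraMap p _ _ _ r).trans rfl }
  obtain ⟨g, hg, -⟩ := Henz.existsUnique_lift (R := R) (K := p.ResidueField) (maximalIdeal Rh)
    (ιₐ.comp (Henz.proj R p.ResidueField).range.val)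
  have hgmax : (maximalIdeal Rh).comap g.toRingHom = maximalIdeal (Henz R p.ResidueField) := by
    ext z
    rw [Ideal.mem_comap, AlgHom.toRingHom_eq_coe, RingHom.coe_coe, maximalIdeal_henz_residueField, RingHom.mem_ker,
      ← Ideal.Quotient.eq_zero_iff_mem, hg]
    exact map_eq_zero ι
  obtain ⟨g', hg', hloc'⟩ := henz_lift (Rh := Rh) (algebraMap R (Henz R p.ResidueField))
    (comap_maximalIdeal_henz_residueField R p)
  have hgloc : IsLocalHom g.toRingHom := ((local_hom_TFAE g.toRingHom).out 0 4).mpr hgmax
  have h1 : g.toRingHom.comp g' = RingHom.id Rh := by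
    have e : (g.toRingHom.comp g').comp (algebraMap R Rh) = algebraMap R Rh := by
      rw [RingHom.comp_assoc, hg', AlgHom.toRingHom_eq_coe, AlgHom.comp_algebraMap]
    exact henz_ext (p := p) (by rw [e, RingHom.id_comp]) (by rw [e, hp])
  let H := Henz R p.ResidueField
  let h : H →ₐ[R] H := { g'.comp g.toRingHom with
    commutes' := fun r => by
      show g' (g (algebraMap R H r)) = _
      rw [AlgHom.commutes]
      exact RingHom.congr_fun hg' r }
  have hmem : ∀ z, z ∈ maximalIdeal H → h z ∈ maximalIdeal H := fun z hz =>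
    map_nonunit g' _ (show g z ∈ maximalIdeal Rh from hgmax.ge hz)
  have hproj : ∀ z, Henz.proj R p.ResidueField (h z) = Henz.proj R p.ResidueField z := fun z => by
    obtain ⟨a, s, hs, hz⟩ := IsFractionRing.div_surjective (R ⧸ p) (Henz.proj R p.ResidueField z)
    obtain ⟨a, rfl⟩ := Ideal.Quotient.mk_surjective a
    obtain ⟨s, rfl⟩ := Ideal.Quotient.mk_surjective s
    rw [Ideal.algebraMap_quotient_residueField_mk, Ideal.algebraMap_quotient_residueField_mk] at hz
    have hs0 : algebraMap R p.ResidueField s ≠ 0 := fun e => by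
      rw [← Ideal.algebraMap_quotient_residueField_mk] at e
      exact (mem_nonZeroDivisors_iff_ne_zero.mp hs)
        (p.injective_algebraMap_quotient_residueField (e.trans (map_zero _).symm))
    have hz' := (div_eq_iff hs0).mp hz
    have hw : z * algebraMap R H s - algebraMap R H a ∈ maximalIdeal H := by
      rw [maximalIdeal_henz_residueField, RingHom.mem_ker, map_sub, map_mul, AlgHom.commutes,
        AlgHom.commutes, sub_eq_zero]
      exact hz'.symm
    have hw' := hmem _ hw
    rw [maximalIdeal_henz_residueField, RingHom.mem_ker, map_sub, map_sub, map_mul, map_mul,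
      AlgHom.commutes, AlgHom.commutes, AlgHom.commutes, AlgHom.commutes, sub_eq_zero] at hw'
    exact mul_right_cancel₀ hs0 (hw'.trans hz')
  let θ : (Henz.proj R p.ResidueField).range →ₐ[R] H ⧸ RingHom.ker (Henz.proj R p.ResidueField) :=
    (Ideal.quotientKerEquivRange (Henz.proj R p.ResidueField)).symm.toAlgHom
  obtain ⟨h₀, -, huniq⟩ := Henz.existsUnique_lift (R := R) (K := p.ResidueField)
    (RingHom.ker (Henz.proj R p.ResidueField)) θ
  have key : ∀ z, Ideal.Quotient.mk _ z = θ ((Henz.proj R p.ResidueField).rangeRestrict z) := fun z =>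
    ((Ideal.quotientKerEquivRange (Henz.proj R p.ResidueField)).symm_apply_apply _).symm.trans rfl
  have h2 : h = AlgHom.id R H := by
    refine (huniq h fun z => ?_).trans (huniq (AlgHom.id R H) key).symm
    rw [← key, Ideal.Quotient.eq, RingHom.mem_ker, map_sub, hproj, sub_self]
  exact ⟨AlgEquiv.ofBijective g ⟨fun x y e => by
      have := congrArg g' e
      exact (AlgHom.congr_fun h2 x).symm.trans (this.trans (AlgHom.congr_fun h2 y)),
    fun x => ⟨g' x, RingHom.congr_fun h1 x⟩⟩, hgmax⟩

/-- A neighbourhood with trivial residue field extension maps uniquely to the henselization. -/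
theorem existsUnique_algHom_henz [Algebra.Etale R S] (q : Ideal S) [q.IsPrime]
    (hq : p = q.comap (algebraMap R S))
    (h : Function.Bijective (Ideal.ResidueField.map p q (algebraMap R S) hq)) :
    ∃! f : S →ₐ[R] Rh, (maximalIdeal Rh).comap f.toRingHom = q := by
  have : HenselianLocalRing Rh := Hensel.IsHenselization.henselian (Localization.AtPrime p)
  obtain ⟨τ, hτ⟩ := exists_point q hq h
  obtain ⟨e, he⟩ := exists_algEquiv_henz_residueField R p Rh
  let f₀ : S →ₐ[R] Rh := e.toAlgHom.comp (Henz.ofNbhd S τ)
  have hf₀ : (maximalIdeal Rh).comap f₀.toRingHom = q := by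
    rw [show f₀.toRingHom = e.toAlgHom.toRingHom.comp (Henz.ofNbhd S τ).toRingHom from rfl, ← Ideal.comap_comap, he,
      maximalIdeal_henz_residueField]
    ext s
    rw [Ideal.mem_comap, RingHom.mem_ker, AlgHom.toRingHom_eq_coe, RingHom.coe_coe, Henz.proj_ofNbhd, ← hτ,
      RingHom.mem_ker]
  refine ⟨f₀, hf₀, fun f hf => ?_⟩
  have key : ∀ (u : S →ₐ[R] Rh), (maximalIdeal Rh).comap u.toRingHom = q →
      RingHom.ker ((IsScalarTower.toAlgHom R Rh (ResidueField Rh)).comp u) = q := fun u hu => by
    ext s
    rw [RingHom.mem_ker, AlgHom.comp_apply, IsScalarTower.coe_toAlgHom', IsLocalRing.ResidueField.algebraMap_eq,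
      IsLocalRing.residue_eq_zero_iff, ← hu]
    rfl
  have hr := point_unique q hq h _ _ (key f hf) (key f₀ hf₀)
  obtain ⟨u, -, huniq⟩ := existsUnique_etale_lift_of_algebra (maximalIdeal Rh) (R := R)
    ((Ideal.Quotient.mkₐ R (maximalIdeal Rh)).comp f₀)
  exact (huniq f (AlgHom.ext fun s => AlgHom.congr_fun hr s)).trans (huniq f₀ rfl).symm

end residueField

end Groth.Agent.Hensel
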