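import Groth.Agent.Hensel.Pair
import Mathlib.RingTheory.Smooth.StandardSmoothCotangent

/-!
# Multivariate Hensel lemma for henselian pairs
-/

namespace Groth.Agent.Hensel

open MvPolynomial

universe u

theorem exists_root_of_isUnit_jacobian {A : Type u} [CommRing A] (I : Ideal A) [HenselianRing A I]
    {ι : Type} [Fintype ι] [DecidableEq ι] (v : ι → MvPolynomial ι A) (a₀ : ι → A)
    (h₀ : ∀ i, eval a₀ (v i) ∈ I)
    (hJ : IsUnit (Ideal.Quotient.mk I
      (Matrix.of fun i j => eval a₀ (pderiv j (v i))).det)) :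
    ∃ a : ι → A, (∀ i, eval a (v i) = 0) ∧ ∀ i, a i - a₀ i ∈ I := by
  let T := MvPolynomial ι A ⧸ Ideal.span (Set.range v)
  let P : Algebra.PreSubmersivePresentation A T ι ι :=
    Algebra.PreSubmersivePresentation.naive id Function.injective_id
  let Δ : T := P.jacobian
  have hΔ : IsUnit (algebraMap T (Localization.Away Δ) Δ) :=
    IsLocalization.Away.algebraMap_isUnit _
  let Q : Algebra.SubmersivePresentation A (Localization.Away Δ) _ _ :=
    { toPreSubmersivePresentation := .comp (.localizationAway (Localization.Away Δ) Δ) P,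
      jacobian_isUnit := by simpa [Algebra.smul_def, -isUnit_map_iff, hΔ] }
  have : Algebra.IsStandardSmoothOfRelativeDimension 0 A (Localization.Away Δ) :=
    ⟨_, _, _, inferInstance, Q, by
      simp only [Algebra.PreSubmersivePresentation.dimension_comp_eq_dimension_add_dimension, Q]
      simp [Algebra.Presentation.dimension]⟩
  have : Algebra.Etale A (Localization.Away Δ) := inferInstance
  let φ : T →ₐ[A] A ⧸ I := Ideal.Quotient.liftₐ _
    ((Ideal.Quotient.mkₐ A I).comp (aeval a₀)) (fun x hx => by
      have : Ideal.span (Set.range v) ≤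
          RingHom.ker ((Ideal.Quotient.mkₐ A I).comp (aeval a₀)) := by
        rw [Ideal.span_le]; rintro _ ⟨i, rfl⟩
        simpa [Ideal.Quotient.eq_zero_iff_mem] using h₀ i
      exact this hx)
  have hφ : IsUnit (φ Δ) := by
    have : φ Δ = Ideal.Quotient.mk I (Matrix.of fun i j => eval a₀ (pderiv j (v i))).det := by
      show φ P.jacobian = _
      rw [Algebra.PreSubmersivePresentation.jacobian_eq_jacobiMatrix_det]
      show Ideal.Quotient.mk I (aeval a₀ P.jacobiMatrix.det) = _
      rw [← Matrix.det_transpose (Matrix.of _)]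
      congr 1
      show eval a₀ _ = _
      rw [RingHom.map_det]
      congr 1
      ext i j
      show eval a₀ (P.jacobiMatrix i j) = _
      exact congrArg (eval a₀) (P.jacobiMatrix_apply i j)
    rwa [this]
  let σ : Localization.Away Δ →ₐ[A] A ⧸ I := IsLocalization.Away.liftAlgHom Δ hφ
  obtain ⟨τ, hτ⟩ := exists_etale_lift I σ
  let ψ : MvPolynomial ι A →ₐ[A] A :=
    (τ.comp (IsScalarTower.toAlgHom A T (Localization.Away Δ))).comp (Ideal.Quotient.mkₐ A _)
  have hψ : ∀ p, eval (fun i => ψ (X i)) p = ψ p := fun p => by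
    conv_rhs => rw [MvPolynomial.aeval_unique ψ]
    rfl
  refine ⟨fun i => ψ (X i), fun i => ?_, fun i => ?_⟩
  · rw [hψ]
    show τ (algebraMap T (Localization.Away Δ) (Ideal.Quotient.mk (Ideal.span (Set.range v)) (v i))) = 0
    rw [Ideal.Quotient.eq_zero_iff_mem.mpr (Ideal.subset_span (Set.mem_range_self i)), map_zero,
      map_zero]
  · rw [← Ideal.Quotient.eq]
    have := congr($hτ (algebraMap T (Localization.Away Δ) (Ideal.Quotient.mk _ (X i))))
    simp [σ, φ] at this
    show Ideal.Quotient.mk I
      (τ (algebraMap T (Localization.Away Δ) (Ideal.Quotient.mk (Ideal.span (Set.range v)) (X i)))) = _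
    rw [this]
    erw [Ideal.Quotient.liftₐ_apply, Ideal.Quotient.lift_mk]
    simp

end Groth.Agent.Hensel
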