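import Groth.Agent.Hensel.Limits
import Groth.Prelude.Def_Hens2

/-!
# Henselization of pairs commutes with filtered colimits
-/

noncomputable section

namespace Groth.Agent.Hensel

universe u

open Polynomial

theorem henselianRing_of_ringEquiv' {A B : Type u} [CommRing A] [CommRing B] (e : A ≃+* B)
    (I : Ideal A) (hI : HenselianRing A I) : HenselianRing B (I.map (e : A →+* B)) := by
  have hm : ∀ x, x ∈ I.map (e : A →+* B) ↔ e.symm x ∈ I := fun x => by
    show x ∈ I.map e ↔ _
    rw [← Ideal.comap_symm e]; rfl
  refine ⟨fun x hx => Ideal.mem_jacobson_bot.mpr fun y => ?_, fun f hf a₀ h₁ h₂ => ?_⟩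
  · have := (Ideal.mem_jacobson_bot.mp (hI.jac ((hm x).mp hx)) (e.symm y)).map e
    simpa using this
  · have he : ∀ (g : B[X]) x, (g.map (e.symm : B →+* A)).eval (e.symm x) = e.symm (g.eval x) := fun g x => by
      rw [eval_map]; exact eval₂_hom _ _
    obtain ⟨a, ha, ha'⟩ := hI.is_henselian (f.map (e.symm : B →+* A)) (hf.map _) (e.symm a₀)
      (by rw [he]; exact (hm _).mp h₁) (by
        rw [derivative_map, he]
        obtain ⟨y, hy⟩ := h₂.exists_right_inv
        obtain ⟨y, rfl⟩ := Ideal.Quotient.mk_surjective y
        rw [← map_mul, ← map_one (Ideal.Quotient.mk _), Ideal.Quotient.eq, hm, map_sub, map_mul,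
          map_one, ← Ideal.Quotient.eq, map_mul, map_one] at hy
        exact IsUnit.of_mul_eq_one _ hy)
    refine ⟨e a, e.symm.injective ?_, (hm _).mpr (by rwa [map_sub, RingEquiv.symm_apply_apply])⟩
    rw [map_zero, ← he, RingEquiv.symm_apply_apply]
    exact ha

variable {ι : Type u} [Preorder ι] [IsDirectedOrder ι] [Nonempty ι]
  {G : ι → Type u} [∀ i, CommRing (G i)] {f : ∀ i j : ι, i ≤ j → (G i →+* G j)}
  [DirectedSystem G (fun i j h => f i j h)]

/-- Comparison map between the two constructions of a direct limit of rings. -/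
def toDirectLimit : Ring.DirectLimit G (fun i j h => f i j h) →+* DirectLimit G f :=
  Ring.DirectLimit.lift G (fun i j h => f i j h) _ (DirectLimit.Ring.of G f) fun i j h x =>
      DirectLimit.Ring.of_f ..

theorem toDirectLimit_of (i : ι) (x : G i) :
    toDirectLimit (f := f) (Ring.DirectLimit.of G (fun i j h => f i j h) i x) = DirectLimit.Ring.of G f i x :=
  Ring.DirectLimit.lift_of ..

/-- The two constructions of a direct limit of rings agree. -/
def directLimitEquiv : Ring.DirectLimit G (fun i j h => f i j h) ≃+* DirectLimit G f :=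
  RingEquiv.ofRingHom toDirectLimit
    (DirectLimit.Ring.lift G f _ (Ring.DirectLimit.of G fun i j h => f i j h) fun i j h x =>
      Ring.DirectLimit.of_f (f := fun i j h => f i j h) h x)
    (RingHom.ext fun z => by
      induction z using DirectLimit.induction with
      | _ i x => exact toDirectLimit_of i x)
    (RingHom.ext fun z => by
      obtain ⟨i, x, rfl⟩ := Ring.DirectLimit.exists_of z
      rw [RingHom.comp_apply, toDirectLimit_of]
      rfl)

theorem directLimitEquiv_of (i : ι) (x : G i) :
    directLimitEquiv (f := f) (Ring.DirectLimit.of G (fun i j h => f i j h) i x) = DirectLimit.Ring.of G f i x :=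
  by simp only [directLimitEquiv, RingEquiv.ofRingHom_apply]; exact toDirectLimit_of i x

theorem henselianRing_directLimit' (I : ∀ i, Ideal (G i))
    (hI : ∀ i j (h : i ≤ j), (I i).map (f i j h) ≤ I j) (hh : ∀ i, HenselianRing (G i) (I i)) :
    HenselianRing (DirectLimit G f) (⨆ i, (I i).map (DirectLimit.Ring.of G f i)) := by
  have h := henselianRing_of_ringEquiv' (directLimitEquiv (f := f)) _ (henselianRing_directLimit (f := f) I hI hh)
  rw [Ideal.map_iSup] at h
  convert h using 2
  funext i
  rw [Ideal.map_map]
  congr 1
  exact RingHom.ext fun x => (directLimitEquiv_of i x).symm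

theorem isPairHenselization_directLimit (I : ∀ i, Ideal (G i))
    (hI : ∀ (i j : ι) (h : i ≤ j), (I i).map (f i j h) ≤ I j)
    (B : ι → Type u) [∀ i, CommRing (B i)] [∀ i, Algebra (G i) (B i)]
    (hB : ∀ i, Hens2.IsPairHenselization (G i) (I i) (B i))
    (g : ∀ i j : ι, i ≤ j → (B i →+* B j)) [DirectedSystem B (fun i j h => g i j h)]
    (hg : ∀ (i j : ι) (h : i ≤ j), (g i j h).comp (algebraMap (G i) (B i)) = (algebraMap (G j) (B j)).comp (f i j h))
    [Algebra (DirectLimit G f) (DirectLimit B g)]
    (halg : ∀ (i : ι) (x : G i), algebraMap (DirectLimit G f) (DirectLimit B g) (DirectLimit.Ring.of G f i x) =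
      DirectLimit.Ring.of B g i (algebraMap (G i) (B i) x)) :
    Hens2.IsPairHenselization (DirectLimit G f) (⨆ i, (I i).map (DirectLimit.Ring.of G f i))
      (DirectLimit B g) := by
  constructor
  · have h := henselianRing_directLimit' (G := B) (f := g) (fun i => (I i).map (algebraMap (G i) (B i)))
      (fun i j hij => by
        rw [Ideal.map_map, hg, ← Ideal.map_map]
        exact Ideal.map_mono (hI i j hij)) (fun i => (hB i).1)
    convert h using 1
    rw [Ideal.map_iSup]
    refine iSup_congr fun i => ?_
    rw [Ideal.map_map, Ideal.map_map]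
    congr 1
    exact RingHom.ext fun x => halg i x
  · intro C _ J φ hC hφ
    have hi : ∀ i, (I i).map (φ.comp (DirectLimit.Ring.of G f i)) ≤ J := fun i => by
      rw [← Ideal.map_map]
      exact (Ideal.map_mono (le_iSup (fun i => (I i).map (DirectLimit.Ring.of G f i)) i)).trans hφ
    choose gi hgi huniq using fun i => (hB i).2 C J _ hC (hi i)
    have hcompat : ∀ i j (h : i ≤ j), (gi j).comp (g i j h) = gi i := fun i j h =>
      huniq i _ (show ((gi j).comp (g i j h)).comp (algebraMap (G i) (B i)) = φ.comp (DirectLimit.Ring.of G f i) by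
        rw [RingHom.comp_assoc, hg, ← RingHom.comp_assoc, hgi]
        ext x
        simp)
    refine ⟨DirectLimit.Ring.lift B g C gi fun i j h x => congr($(hcompat i j h) x), ?_, fun γ hγ => ?_⟩
    · refine RingHom.ext fun z => ?_
      induction z using DirectLimit.induction with
      | _ i x =>
        show DirectLimit.Ring.lift B g C gi (fun i j h x => congr($(hcompat i j h) x)) (algebraMap (DirectLimit G f) (DirectLimit B g) (DirectLimit.Ring.of G f i x)) = _
        rw [halg i x]
        exact congr($(hgi i) x)
    · refine RingHom.ext fun z => ?_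
      induction z using DirectLimit.induction with
      | _ i x =>
        exact congr($(huniq i (γ.comp (DirectLimit.Ring.of B g i)) (RingHom.ext fun y =>
          (congrArg γ (halg i y).symm).trans congr($hγ (DirectLimit.Ring.of G f i y)))) x)

end Groth.Agent.Hensel
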